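import Cfsg.Agent.Lib.Cls.Basic

/-!
A group mapping to an isometry group, with lifts of the unipotent radicals of the stabilizers of
the frame points and a group of monomial elements: the kernel consists of monomial elements.
-/

set_option autoImplicit false

namespace Cfsg.Agent.Cls

open Forms Forms.Form Subgroup

variable {F : Type*} [Field F] {P : Param F} {V : Type*} [AddCommGroup V] [Module F V]
  {f : Form P V} {I : Type*} [InvolutiveNeg I] {J : Type*} [Group J]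

/-- `g` moves the `i`-th point of the frame to the `j`-th -/
def Frame.Mv (fr : Frame f I) (g : f.Isom) (i j : I) : Prop := ∃ c : F, g.1 (fr.e i) = c • fr.e j

namespace Frame.Mv

variable {fr : Frame f I} {g g' : f.Isom} {i j k : I}

theorem unique (h : fr.Mv g i j) (h' : fr.Mv g i k) : j = k :=
  let ⟨_, h⟩ := h; let ⟨_, h'⟩ := h'; fr.eq_of_smul (fr.smul_ne_zero h) (h.symm.trans h')

theorem mul (h : fr.Mv g j k) (h' : fr.Mv g' i j) : fr.Mv (g * g') i k :=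
  let ⟨c, h⟩ := h; let ⟨d, h'⟩ := h'
  ⟨d * c, by rw [Isom.mul_apply, h', map_smul, h, smul_smul]⟩

theorem inv (h : fr.Mv g i j) : fr.Mv g⁻¹ j i := by
  obtain ⟨c, h⟩ := h
  refine ⟨c⁻¹, g.1.injective ?_⟩
  rw [Isom.apply_inv, map_smul, h, smul_smul, inv_mul_cancel₀ (fr.smul_ne_zero h), one_smul]

theorem of_eq (h : g.1 (fr.e i) = fr.e j) : fr.Mv g i j := ⟨1, by rw [h, one_smul]⟩

theorem one : fr.Mv 1 i i := of_eq rfl

theorem inj (h : fr.Mv g i k) (h' : fr.Mv g j k) : i = j := h.inv.unique h'.inv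

theorem neg (h : fr.Mv g i j) (h' : fr.Mv g (-i) k) : k = -j := by
  obtain ⟨c, h⟩ := h
  obtain ⟨d, h'⟩ := h'
  by_contra hk
  have := fr.B_ne i
  rw [← Isom.map_B g, h, h', B_smul_left, B_smul_right, fr.B_eq j k hk] at this
  simp at this

theorem eq_of_B (h : fr.Mv g i j) (h' : f.B (g.1 (fr.e i)) (fr.e (-k)) ≠ 0) : j = k := by
  obtain ⟨c, h⟩ := h
  rw [h, B_smul_left] at h'
  exact fr.eq_of_B_ne (right_ne_zero_of_mul h')

theorem conj_U (h : fr.Mv g i j) (hg : g' ∈ fr.U i) : g * g' * g⁻¹ ∈ fr.U j :=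
  let ⟨_, h⟩ := h; conj_mem_Eu h (fr.smul_ne_zero h) hg

end Frame.Mv

theorem Frame.apply_of_B_eq (fr : Frame f I) {g : f.Isom} {i k : I} (hg : g ∈ fr.U (-k))
    (hi : i ≠ k) (h4 : i ≠ -k) (h6 : f.B (g.1 (fr.e k)) (fr.e i) = 0) : g.1 (fr.e i) = fr.e i := by
  obtain ⟨v, l, hv⟩ := hg
  have h7 : f.B (fr.e i) (fr.e (-k)) = 0 := fr.B_neg hi
  have h8 : f.B (fr.e (-k)) (fr.e i) = 0 := f.B_eq_zero_symm h7
  have h9 : f.B (fr.e k) (fr.e i) = 0 := fr.B_eq k i h4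
  rw [hv.app] at h6
  simp only [B_sub_left, B_add_left, B_smul_left, h8, h9, mul_zero, sub_zero, zero_add] at h6
  exact hv.apply_of_orth h7 (f.B_eq_zero_symm ((mul_eq_zero.1 h6).resolve_left (fr.B_ne k)))

theorem Frame.eq_smul_of_B_eq (fr : Frame f I) {z : V} {i : I} (hQ : f.Q z = 0)
    (h : ∀ k, k ≠ i → f.B z (fr.e (-k)) = 0) : ∃ c : F, z = c • fr.e i := by
  refine ⟨f.B z (fr.e (-i)) / f.B (fr.e i) (fr.e (-i)), sub_eq_zero.1 (fr.aniso _ (fun k => ?_) ?_)⟩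
  · rw [B_sub_left, B_smul_left]
    by_cases hk : k = -i
    · rw [hk, div_mul_cancel₀ _ (fr.B_ne i), sub_self]
    · have := h (-k) fun e => hk (by rw [← e, neg_neg])
      rw [neg_neg] at this
      rw [this, fr.B_eq i k hk, mul_zero, sub_zero]
  · have := h (-i) (fr.ne i)
    rw [neg_neg] at this
    rw [f.Q_sub, f.Q_smul, hQ, fr.Qe, B_smul_right, this]; simp

/-- The parabolic form of the Steinberg relations. -/
structure PSt0 (fr : Frame f I) (φ : J →* f.Isom) (U : I → Subgroup J) : Prop where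
  inj : ∀ i, ∀ x ∈ U i, φ x = 1 → x = 1
  mem : ∀ i, ∀ x ∈ U i, φ x ∈ fr.U i
  surj : ∀ i, ∀ g ∈ fr.U i, ∃ x ∈ U i, φ x = g
  norm : ∀ i j, ∀ x ∈ U j, (φ x).1 (fr.e i) = fr.e i → ∀ y ∈ U i, x * y * x⁻¹ ∈ U i
  swap : ∀ i j, j ≠ i → j ≠ -i → ∀ x ∈ U i, φ x ∈ fr.RA i j → x ∈ U j

/-- The parabolic form of the Steinberg relations, with monomial elements. -/
structure PSt (fr : Frame f I) (φ : J →* f.Isom) (U : I → Subgroup J) (M : Subgroup J) : Prop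
    extends PSt0 fr φ U where
  mono : ∀ m ∈ M, ∀ i, ∃ j, fr.Mv (φ m) i j ∧ ∀ y ∈ U i, m * y * m⁻¹ ∈ U j
  W1 : ∀ i j, j ≠ i → j ≠ -i → ∀ x ∈ U i, φ x ∈ fr.RA i j → x ≠ 1 →
    ∃ y ∈ U (-i), ∃ y' ∈ U (-i), φ y ∈ fr.RA (-i) (-j) ∧ φ y' ∈ fr.RA (-i) (-j) ∧ y * x * y' ∈ M
  W2 : ∀ i, ∀ x ∈ U i, φ x ∈ fr.RC i → x ≠ 1 →
    ∃ y ∈ U (-i), ∃ y' ∈ U (-i), φ y ∈ fr.RC (-i) ∧ φ y' ∈ fr.RC (-i) ∧ y * x * y' ∈ M

section defs

variable (fr : Frame f I) (φ : J →* f.Isom) (U : I → Subgroup J) (M : Subgroup J)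

/-- elements fixing the frame vectors outside `S` -/
def FixV (S : Set I) : Subgroup J where
  carrier := {x | ∀ k ∉ S, (φ x).1 (fr.e k) = fr.e k}
  one_mem' := fun k _ => by simp
  mul_mem' := fun {a b} ha hb k hk => by rw [map_mul, Isom.mul_apply, hb k hk, ha k hk]
  inv_mem' := fun {a} ha k hk => by
    rw [map_inv]; conv_lhs => rw [← ha k hk]
    exact Isom.inv_apply _ _

/-- elements fixing the frame points outside `S` -/
def FixP (S : Set I) : Subgroup J where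
  carrier := {x | ∀ k ∉ S, fr.Mv (φ x) k k}
  one_mem' := fun k _ => by rw [map_one]; exact .one
  mul_mem' := fun {a b} ha hb k hk => by rw [map_mul]; exact (ha k hk).mul (hb k hk)
  inv_mem' := fun {a} ha k hk => by rw [map_inv]; exact (ha k hk).inv

/-- the group attached to a set of indices -/
def JS (S : Set I) : Subgroup J := (⨆ i ∈ S, U i ⊓ FixV fr φ S) ⊔ (M ⊓ FixP fr φ S)

/-- removing a pair of indices -/
def rm (S : Set I) (k : I) : Set I := {i | i ∈ S ∧ i ≠ k ∧ i ≠ -k}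

/-- the stabilizer of a point -/
def PS (S : Set I) (k : I) : Subgroup J := (U k ⊓ FixV fr φ S) ⊔ JS fr φ U M (rm S k)

/-- a double coset -/
def YS (S : Set I) (r k : I) : Set J :=
  {g | ∃ p' ∈ PS fr φ U M S (-k), ∃ m ∈ M ⊓ FixP fr φ S, fr.Mv (φ m) r k ∧
    ∃ p ∈ PS fr φ U M S r, g = p' * m * p}

end defs

theorem rm_neg (S : Set I) (k : I) : rm S (-k) = rm S k := by
  ext i; simp only [rm, neg_neg, Set.mem_ofPred_eq]; tauto

theorem rm_closed {S : Set I} (hS : ∀ i ∈ S, -i ∈ S) (k : I) : ∀ i ∈ rm S k, -i ∈ rm S k :=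
  fun i ⟨h1, h2, h3⟩ => ⟨hS i h1, fun e => h3 (by rw [← e, neg_neg]), fun e => h2 (neg_injective e)⟩

theorem neg_notMem {S : Set I} (hS : ∀ i ∈ S, -i ∈ S) {k : I} (hk : k ∉ S) : -k ∉ S :=
  fun h => hk (by simpa using hS _ h)

variable {fr : Frame f I} {φ : J →* f.Isom} {U : I → Subgroup J} {M : Subgroup J}

theorem FixV_le_FixP (S : Set I) : FixV fr φ S ≤ FixP fr φ S := fun _ h k hk => .of_eq (h k hk)

theorem FixV_mono {S T : Set I} (h : S ⊆ T) : FixV fr φ S ≤ FixV fr φ T :=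
  fun _ hx k hk => hx k fun h' => hk (h h')

theorem FixP_mono {S T : Set I} (h : S ⊆ T) : FixP fr φ S ≤ FixP fr φ T :=
  fun _ hx k hk => hx k fun h' => hk (h h')

theorem JS_le_FixP (S : Set I) : JS fr φ U M S ≤ FixP fr φ S :=
  sup_le (iSup₂_le fun _ _ => inf_le_right.trans (FixV_le_FixP S)) inf_le_right

theorem mem_JS_of_U {S : Set I} {i : I} (hi : i ∈ S) {x : J} (h : x ∈ U i) (h' : x ∈ FixV fr φ S) :
    x ∈ JS fr φ U M S :=
  mem_sup_left (le_iSup₂_of_le (f := fun i (_ : i ∈ S) => U i ⊓ FixV fr φ S) i hi le_rfl ⟨h, h'⟩)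

theorem mem_JS_of_M {S : Set I} {x : J} (h : x ∈ M) (h' : x ∈ FixP fr φ S) :
    x ∈ JS fr φ U M S := mem_sup_right ⟨h, h'⟩

theorem JS_mono {S T : Set I} (h : S ⊆ T) : JS fr φ U M S ≤ JS fr φ U M T :=
  sup_le (iSup₂_le fun _ hi _ hx => mem_JS_of_U (h hi) hx.1 (FixV_mono h hx.2))
    fun _ hx => mem_JS_of_M hx.1 (FixP_mono h hx.2)

theorem conj_fix {m y : J} {k k' : I} (h : fr.Mv (φ m) k' k) (hy : (φ y).1 (fr.e k') = fr.e k') :
    (φ (m * y * m⁻¹)).1 (fr.e k) = fr.e k := by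
  obtain ⟨c, hc⟩ := h.inv
  rw [map_mul, map_mul, map_inv, Isom.mul_apply, Isom.mul_apply, hc, map_smul, hy, ← hc,
    Isom.apply_inv]

theorem mv_of_mem_PS {S : Set I} {k : I} (hU : ∀ x ∈ U k, φ x ∈ fr.U k) {p : J}
    (hp : p ∈ PS fr φ U M S k) : fr.Mv (φ p) k k := by
  have : PS fr φ U M S k ≤ FixP fr φ {k}ᶜ :=
    sup_le (fun x hx j hj => by
        obtain rfl : j = k := by simpa using hj
        exact .of_eq (apply_self_of_mem_Eu (hU x hx.1)))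
      ((JS_le_FixP _).trans (FixP_mono fun i hi => hi.2.1))
  exact this hp k (by simp)

namespace PSt

variable (h : PSt fr φ U M)
include h

theorem eq {i : I} {x y : J} (hx : x ∈ U i) (hy : y ∈ U i) (e : φ x = φ y) : x = y :=
  mul_inv_eq_one.1 (h.inj i _ (mul_mem hx (inv_mem hy)) (by simp [e]))

theorem conj_U {m y : J} (hm : m ∈ M) {i j : I} (hij : fr.Mv (φ m) i j) (hy : y ∈ U i) :
    m * y * m⁻¹ ∈ U j := by
  obtain ⟨k, hk, h1⟩ := h.mono m hm i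
  exact hk.unique hij ▸ h1 y hy

theorem mv_neg {m : J} (hm : m ∈ M) {i j : I} (hij : fr.Mv (φ m) i j) : fr.Mv (φ m) (-i) (-j) := by
  obtain ⟨k, hk, -⟩ := h.mono m hm (-i)
  exact hij.neg hk ▸ hk

theorem exists_mv_inv {m : J} (hm : m ∈ M) (j : I) : ∃ i, fr.Mv (φ m) i j := by
  obtain ⟨i, hi, -⟩ := h.mono _ (inv_mem hm) j
  exact ⟨i, by simpa using hi.inv⟩

theorem conj_FixV {m y : J} (hm : m ∈ M) {S T : Set I}
    (hST : ∀ i j, fr.Mv (φ m) i j → i ∈ S → j ∈ T) (hy : y ∈ FixV fr φ S) :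
    m * y * m⁻¹ ∈ FixV fr φ T := fun k hk => by
  obtain ⟨i, hi⟩ := h.exists_mv_inv hm k
  exact conj_fix hi (hy i fun h' => hk (hST i k hi h'))

theorem conj_JS {m y : J} (hm : m ∈ M) {S T : Set I}
    (hST : ∀ i j, fr.Mv (φ m) i j → i ∈ S → j ∈ T) (hy : y ∈ JS fr φ U M S) :
    m * y * m⁻¹ ∈ JS fr φ U M T := by
  have : JS fr φ U M S ≤ (JS fr φ U M T).comap (MulAut.conj m).toMonoidHom := by
    refine sup_le (iSup₂_le fun i hi x hx => ?_) fun x hx => ?_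
    · obtain ⟨j, hj, h1⟩ := h.mono m hm i
      exact mem_JS_of_U (hST i j hj hi) (h1 x hx.1) (h.conj_FixV hm hST hx.2)
    · refine mem_JS_of_M (mul_mem (mul_mem hm hx.1) (inv_mem hm)) fun k hk => ?_
      obtain ⟨i, hi⟩ := h.exists_mv_inv hm k
      have := (hi.mul (hx.2 i fun h' => hk (hST i k hi h'))).mul hi.inv
      simpa using this
  exact this hy

omit h in
theorem mem_of_mv {m : J} {S : Set I} (hm : m ∈ FixP fr φ S) {i j : I} (hij : fr.Mv (φ m) i j)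
    (hi : i ∈ S) : j ∈ S := by
  by_contra hj
  exact hj (hij.inj (hm j hj) ▸ hi)

theorem mem_rm_of_mv {m : J} {S : Set I} (hm : m ∈ M ⊓ FixP fr φ S) {r k : I}
    (hrk : fr.Mv (φ m) r k) (i j : I) (hij : fr.Mv (φ m) i j) (hi : i ∈ rm S r) : j ∈ rm S k :=
  ⟨mem_of_mv hm.2 hij hi.1, fun e => hi.2.1 (hij.inj (e ▸ hrk)),
    fun e => hi.2.2 (hij.inj (e ▸ h.mv_neg hm.1 hrk))⟩

theorem conj_PS {m y : J} {S : Set I} (hm : m ∈ M ⊓ FixP fr φ S) {r k : I}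
    (hrk : fr.Mv (φ m) r k) (hy : y ∈ PS fr φ U M S r) : m * y * m⁻¹ ∈ PS fr φ U M S k := by
  have : PS fr φ U M S r ≤ (PS fr φ U M S k).comap (MulAut.conj m).toMonoidHom :=
    sup_le (fun x hx => mem_sup_left ⟨h.conj_U hm.1 hrk hx.1,
        h.conj_FixV hm.1 (fun _ _ => mem_of_mv hm.2) hx.2⟩)
      fun x hx => mem_sup_right (h.conj_JS hm.1 (h.mem_rm_of_mv hm hrk) hx)
  exact this hy

theorem exists_of_mem_PS {S : Set I} {k : I} {p : J} (hp : p ∈ PS fr φ U M S k) :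
    ∃ x ∈ U k ⊓ FixV fr φ S, ∃ g ∈ JS fr φ U M (rm S k), p = x * g := by
  have h1 : JS fr φ U M (rm S k) ≤ normalizer (U k ⊓ FixV fr φ S : Subgroup J) := by
    have key : ∀ x ∈ FixP fr φ (rm S k), ∀ y ∈ FixV fr φ S, x * y * x⁻¹ ∈ FixV fr φ S :=
      fun x hx y hy j hj => conj_fix (hx j fun h' => hj h'.1) (hy j hj)
    refine sup_le (iSup₂_le fun i hi => le_normalizer_iff.2 fun x hx y hy => ⟨?_, ?_⟩)
      (le_normalizer_iff.2 fun x hx y hy => ⟨?_, key x hx.2 y hy.2⟩)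
    · exact h.norm k i x hx.1 (hx.2 k fun h' => h'.2.1 rfl) y hy.1
    · exact key x (FixV_le_FixP _ hx.2) y hy.2
    · exact h.conj_U hx.1 (hx.2 k fun h' => h'.2.1 rfl) hy.1
  have h2 : p ∈ ((U k ⊓ FixV fr φ S) ⊔ JS fr φ U M (rm S k) : Subgroup J) := hp
  rw [← SetLike.mem_coe, coe_mul_of_right_le_normalizer_left _ _ h1] at h2
  obtain ⟨x, hx, g, hg, e⟩ := h2
  exact ⟨x, hx, g, hg, e.symm⟩

theorem exists_of_mem_YS {S : Set I} {r k : I} {g : J} (hg : g ∈ YS fr φ U M S r k) :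
    ∃ x ∈ U (-k) ⊓ FixV fr φ S, ∃ m ∈ M ⊓ FixP fr φ S, fr.Mv (φ m) r k ∧
      ∃ p ∈ PS fr φ U M S r, g = x * m * p := by
  obtain ⟨p', hp', m, hm, hrk, p, hp, rfl⟩ := hg
  obtain ⟨x, hx, g, hg, rfl⟩ := h.exists_of_mem_PS hp'
  rw [rm_neg] at hg
  have := h.conj_JS (inv_mem hm.1) (h.mem_rm_of_mv (inv_mem hm) (by simpa using hrk.inv)) hg
  exact ⟨x, hx, m, hm, hrk, _, mul_mem (mem_sup_right this) hp, by simp [mul_assoc]⟩

omit h in
theorem mul_mem_YS {S : Set I} {r k : I} {y g : J} (hy : y ∈ PS fr φ U M S (-k))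
    (hg : g ∈ YS fr φ U M S r k) : y * g ∈ YS fr φ U M S r k := by
  obtain ⟨p', hp', m, hm, hrk, p, hp, rfl⟩ := hg
  exact ⟨_, mul_mem hy hp', m, hm, hrk, p, hp, by simp [mul_assoc]⟩

theorem apply_of_YS {S : Set I} {r k : I} {x m p : J} (hrk : fr.Mv (φ m) r k)
    (hp : p ∈ PS fr φ U M S r) :
    ∃ c : F, c ≠ 0 ∧ (φ (x * m * p)).1 (fr.e r) = c • (φ x).1 (fr.e k) := by
  obtain ⟨c, hc⟩ := hrk.mul (mv_of_mem_PS (h.mem r) hp)
  refine ⟨c, fr.smul_ne_zero hc, ?_⟩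
  rw [mul_assoc, map_mul, map_mul, Isom.mul_apply, hc, map_smul]

/-- lifting a root element -/
theorem exists_RA {i j : I} {a : f.Isom} (ha : a ∈ fr.RA i j) : ∃ x ∈ U i, φ x = a :=
  h.surj i a (fr.RA_subset_U ha)

omit h in
theorem RA_mem_FixV {S : Set I} (hS : ∀ i ∈ S, -i ∈ S) {i j : I} (hi : i ∈ S) (hj : j ∈ S) {x : J}
    (hx : φ x ∈ fr.RA i j) : x ∈ FixV fr φ S := fun k hk =>
  fr.RA_apply hx (fun e => hk (e ▸ hS i hi)) fun e => hk (e ▸ hS j hj)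

omit h in
theorem RC_mem_FixV {S : Set I} (hS : ∀ i ∈ S, -i ∈ S) {i : I} (hi : i ∈ S) {x : J}
    (hx : φ x ∈ fr.RC i) : x ∈ FixV fr φ S := fun k hk =>
  fr.RC_apply hx fun e => hk (e ▸ hS i hi)

/-- An element of `U i` fixing the `k`-th frame vector lies in the stabilizer. -/
theorem mem_PS {S : Set I} (hS : ∀ i ∈ S, -i ∈ S) {i k : I} (hi : i ∈ S) (hk : k ∈ S) {x : J}
    (hx : x ∈ U i ⊓ FixV fr φ S) (hf : (φ x).1 (fr.e k) = fr.e k) : x ∈ PS fr φ U M S k := by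
  by_cases h1 : k = i
  · exact mem_sup_left (h1 ▸ hx)
  by_cases h2 : k = -i
  · rw [h.inj i x hx.1 (fr.U_eq_one (h.mem i x hx.1) (c := 1) (by rw [← h2, hf, one_smul]))]
    exact one_mem _
  obtain ⟨a, ha, h3⟩ := fr.exists_split h1 h2 (h.mem i x hx.1)
  obtain ⟨y, hy, rfl⟩ := h.exists_RA ha
  have hy' := RA_mem_FixV hS hi hk ha
  have h4 : x * y⁻¹ ∈ JS fr φ U M (rm S k) := by
    refine mem_JS_of_U (show i ∈ rm S k from ⟨hi, Ne.symm h1, fun e => h2 (by rw [e, neg_neg])⟩)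
      (mul_mem hx.1 (inv_mem hy)) fun j hj => ?_
    by_cases h5 : j = k
    · rw [h5, map_mul, map_inv, Isom.mul_apply,
        fr.RA_apply (fr.inv_mem_RA ha) h2 (fr.ne k).symm, hf]
    by_cases h6 : j = -k
    · rw [h6, map_mul, map_inv, h3]
    exact (FixV fr φ S).mul_mem hx.2 ((FixV fr φ S).inv_mem hy') j fun h' => hj ⟨h', h5, h6⟩
  have h5 : x * y⁻¹ * y ∈ PS fr φ U M S k :=
    mul_mem (mem_sup_right h4) (mem_sup_left ⟨h.swap i k h1 h2 y hy ha, hy'⟩)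
  simpa using h5

theorem YS_step {S : Set I} {r k j : I} {x m p y y' z : J} (hm : m ∈ M ⊓ FixP fr φ S)
    (hrk : fr.Mv (φ m) r k) (hp : p ∈ PS fr φ U M S r) (hz : z ∈ PS fr φ U M S (-j))
    (hy : y ∈ PS fr φ U M S (-j)) (hy' : y' ∈ U k ⊓ FixV fr φ S) (hx : x ∈ FixV fr φ S)
    (hy2 : y ∈ FixV fr φ S) (hM : y * x * y' ∈ M)
    (hB : f.B ((φ (y * x * y')).1 (fr.e k)) (fr.e (-j)) ≠ 0) :
    z * x * m * p ∈ YS fr φ U M S r j := by
  obtain ⟨j', hj', -⟩ := h.mono _ hM k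
  obtain rfl := hj'.eq_of_B hB
  refine ⟨z * y⁻¹, mul_mem hz (inv_mem hy), y * x * y' * m,
    mul_mem ⟨hM, FixV_le_FixP _ (mul_mem (mul_mem hy2 hx) hy'.2)⟩ hm, by
      rw [map_mul]; exact hj'.mul hrk, _,
    mul_mem (h.conj_PS (inv_mem hm) (by simpa using hrk.inv) (mem_sup_left (inv_mem hy'))) hp,
    by simp [mul_assoc]⟩

theorem mem_YS_of_ne {S : Set I} (hS : ∀ i ∈ S, -i ∈ S) {r k j : I} (hk : k ∈ S) (h1 : j ≠ k)
    (h2 : j ≠ -k) {g : J} (hg : g ∈ YS fr φ U M S r k)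
    (hB : f.B ((φ g).1 (fr.e r)) (fr.e (-j)) ≠ 0) : g ∈ YS fr φ U M S r j := by
  obtain ⟨x, hx, m, hm, hrk, p, hp, rfl⟩ := h.exists_of_mem_YS hg
  obtain ⟨c, hc, e⟩ := h.apply_of_YS (x := x) hrk hp
  rw [e, B_smul_left] at hB
  replace hB := right_ne_zero_of_mul hB
  have hj : j ∈ S := by
    by_contra hj
    rw [← hx.2 _ (neg_notMem hS hj), Isom.map_B, fr.B_neg h1.symm] at hB
    exact hB rfl
  have h1' : j ≠ - -k := by rwa [neg_neg]
  obtain ⟨a, ha, h3⟩ := fr.exists_split h2 h1' (h.mem _ x hx.1)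
  obtain ⟨x', hx', rfl⟩ := h.exists_RA ha
  have hx'' := RA_mem_FixV hS (hS k hk) hj ha
  have hB' : f.B ((φ x').1 (fr.e k)) (fr.e (-j)) ≠ 0 := by
    rw [← Isom.map_B (φ x * (φ x')⁻¹), h3, Isom.mul_apply, Isom.inv_apply]; exact hB
  have hne : x' ≠ 1 := by
    rintro rfl
    rw [map_one, Isom.one_apply, fr.B_neg h1.symm] at hB'
    exact hB' rfl
  obtain ⟨y, hy, y', hy', ha1, ha2, hM⟩ := h.W1 _ j h2 h1' x' hx' ha hne
  rw [neg_neg] at hy hy' ha1 ha2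
  have hn1 : -j ≠ k := fun e => h2 (by rw [← e, neg_neg])
  have hn2 : -j ≠ -k := fun e => h1 (neg_injective e)
  have hy2 := RA_mem_FixV hS hk (hS j hj) ha1
  have := h.YS_step hm hrk hp (z := x * x'⁻¹)
    (h.mem_PS hS (hS k hk) (hS j hj) (mul_mem hx (inv_mem ⟨hx', hx''⟩)) (by simpa using h3))
    (mem_sup_left ⟨h.swap k (-j) hn1 hn2 y hy ha1, hy2⟩)
    ⟨hy', RA_mem_FixV hS hk (hS j hj) ha2⟩ hx'' hy2 hM (by
      rw [map_mul, map_mul, Isom.mul_apply, Isom.mul_apply, apply_self_of_mem_Eu (h.mem k y' hy'),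
        B_apply_of_mem_Eu (fr.RA_subset_U (fr.RA_swap hn2 ha1))]
      exact hB')
  simpa [mul_assoc] using this

theorem mem_YS {S : Set I} (hS : ∀ i ∈ S, -i ∈ S) {r k j : I} (hk : k ∈ S) {g : J}
    (hg : g ∈ YS fr φ U M S r k) (hB : f.B ((φ g).1 (fr.e r)) (fr.e (-j)) ≠ 0) :
    g ∈ YS fr φ U M S r j := by
  by_cases h1 : j = k
  · exact h1 ▸ hg
  by_cases h2 : j = -k
  swap
  · exact h.mem_YS_of_ne hS hk h1 h2 hg hB
  subst h2
  by_cases h3 : ∃ i ∈ S, i ≠ k ∧ i ≠ -k ∧ f.B ((φ g).1 (fr.e r)) (fr.e (-i)) ≠ 0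
  · obtain ⟨i, hi, h4, h5, h6⟩ := h3
    exact h.mem_YS_of_ne hS hi h5.symm (fun e => h4 (neg_injective e).symm)
      (h.mem_YS_of_ne hS hk h4 h5 hg h6) hB
  push Not at h3
  obtain ⟨x, hx, m, hm, hrk, p, hp, rfl⟩ := h.exists_of_mem_YS hg
  obtain ⟨c, hc, e⟩ := h.apply_of_YS (x := x) hrk hp
  rw [e, B_smul_left] at hB
  replace hB := right_ne_zero_of_mul hB
  have hC : φ x ∈ fr.RC (-k) := by
    refine fr.mem_RC_of_fix (h.mem _ x hx.1) fun i hi => ?_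
    rw [neg_neg] at hi
    by_cases h4 : i = -k
    · rw [h4]; exact apply_self_of_mem_Eu (h.mem _ x hx.1)
    by_cases h5 : i ∈ S
    swap
    · exact hx.2 i h5
    have h6 := h3 (-i) (hS i h5) (fun e => h4 (by rw [← e, neg_neg])) fun e => hi (neg_injective e)
    rw [e, B_smul_left, neg_neg] at h6
    replace h6 := (mul_eq_zero.1 h6).resolve_left hc
    exact fr.apply_of_B_eq (h.mem _ x hx.1) hi h4 h6
  have hne : x ≠ 1 := by
    rintro rfl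
    rw [map_one, Isom.one_apply, neg_neg, f.B_self_of_Q (fr.Qe k)] at hB
    exact hB rfl
  obtain ⟨y, hy, y', hy', ha1, ha2, hM⟩ := h.W2 _ x hx.1 hC hne
  have := h.YS_step hm hrk hp (z := 1) (one_mem _)
    (mem_sup_left ⟨hy, RC_mem_FixV hS (hS _ (hS k hk)) ha1⟩)
    (by rw [neg_neg] at hy' ha2; exact ⟨hy', RC_mem_FixV hS hk ha2⟩) hx.2
    (RC_mem_FixV hS (hS _ (hS k hk)) ha1) hM (by
      rw [map_mul, map_mul, Isom.mul_apply, Isom.mul_apply, B_apply_of_mem_Eu (h.mem _ y hy)]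
      rw [neg_neg] at hy'
      rwa [apply_self_of_mem_Eu (h.mem k y' hy')])
  simpa using this

omit h in
theorem PS_le_JS {S : Set I} {k : I} (hk : k ∈ S) : PS fr φ U M S k ≤ JS fr φ U M S :=
  sup_le (fun _ hx => mem_JS_of_U hk hx.1 hx.2) (JS_mono fun _ hi => hi.1)

omit h in
theorem mem_of_B_ne {S : Set I} (hS : ∀ i ∈ S, -i ∈ S) {r k j : I} (hr : r ∈ S) (hk : k ∈ S) {g : J}
    (hg : g ∈ YS fr φ U M S r k) (hB : f.B ((φ g).1 (fr.e r)) (fr.e (-j)) ≠ 0) : j ∈ S := by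
  obtain ⟨p', hp', m, hm, -, p, hp, rfl⟩ := hg
  by_contra hj
  have h1 : p' * m * p ∈ FixP fr φ S :=
    mul_mem (mul_mem (JS_le_FixP _ (PS_le_JS (hS k hk) hp')) hm.2) (JS_le_FixP _ (PS_le_JS hr hp))
  obtain ⟨c, hc⟩ := (h1 _ (neg_notMem hS hj)).inv
  rw [Isom.B_left, hc, B_smul_right, fr.B_neg (fun e : r = j => hj (e ▸ hr)), mul_zero] at hB
  exact hB rfl

theorem U_induction [Finite I] {S : Set I} (hS : ∀ i ∈ S, -i ∈ S) {i : I} (hi : i ∈ S)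
    {T : Subgroup J} (hA : ∀ j ∈ S, j ≠ i → j ≠ -i → ∀ x ∈ U i, φ x ∈ fr.RA i j → x ∈ T)
    (hC : ∀ x ∈ U i, φ x ∈ fr.RC i → x ∈ T) : U i ⊓ FixV fr φ S ≤ T := by
  have key : ∀ n, ∀ x ∈ U i ⊓ FixV fr φ S,
      {k | k ≠ -i ∧ (φ x).1 (fr.e k) ≠ fr.e k}.ncard = n → x ∈ T := by
    intro n
    induction n using Nat.strong_induction_on with
    | _ n ih =>
    intro x hx hn
    by_cases h0 : ∀ k, k ≠ -i → (φ x).1 (fr.e k) = fr.e k
    · exact hC x hx.1 (fr.mem_RC_of_fix (h.mem i x hx.1) h0)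
    push Not at h0
    obtain ⟨k, h1, h2⟩ := h0
    have hk : -k ∈ S := hS k (by by_contra hk; exact h2 (hx.2 k hk))
    have h3 : -k ≠ i := fun e => h1 (by rw [← e, neg_neg])
    have h4 : -k ≠ -i := fun e => h2 (by
      rw [neg_injective e]; exact apply_self_of_mem_Eu (h.mem i x hx.1))
    obtain ⟨a, ha, h5⟩ := fr.exists_split h3 h4 (h.mem i x hx.1)
    obtain ⟨y, hy, rfl⟩ := h.exists_RA ha
    rw [neg_neg] at h5
    have h6 := ih _ ?_ (x * y⁻¹) (mul_mem hx (inv_mem ⟨hy, RA_mem_FixV hS hi hk ha⟩)) rfl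
    · simpa using mul_mem h6 (hA _ hk h3 h4 y hy ha)
    rw [← hn]
    refine Set.ncard_lt_ncard ⟨fun j hj => ⟨hj.1, fun e => hj.2 ?_⟩, fun hc => ?_⟩
    · by_cases h7 : j = k
      · rw [h7, map_mul, map_inv, h5]
      · rw [map_mul, map_inv, Isom.mul_apply,
          fr.RA_apply (fr.inv_mem_RA ha) hj.1 (by rwa [neg_neg]), e]
    · exact (hc ⟨h1, h2⟩).2 (by rw [map_mul, map_inv, h5])
  exact fun x hx => key _ x hx rfl

theorem RA_mul_aux {S : Set I} (hS : ∀ i ∈ S, -i ∈ S) {r i j : I} (hi : i ∈ S) (hj : j ∈ S)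
    (h1 : j ≠ i) (h2 : j ≠ -i) {y g : J} (hy : y ∈ U j) (ha : φ y ∈ fr.RA i j)
    (hg : g ∈ YS fr φ U M S r i) (hB1 : f.B ((φ g).1 (fr.e r)) (fr.e i) = 0)
    (hB2 : f.B ((φ g).1 (fr.e r)) (fr.e j) = 0) : y * g ∈ YS fr φ U M S r i := by
  obtain ⟨x, hx, m, hm, hrk, p, hp, rfl⟩ := h.exists_of_mem_YS hg
  obtain ⟨c, hc, e⟩ := h.apply_of_YS (x := x) hrk hp
  rw [e, B_smul_left] at hB1 hB2
  replace hB1 := (mul_eq_zero.1 hB1).resolve_left hc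
  replace hB2 := (mul_eq_zero.1 hB2).resolve_left hc
  have h3 := fr.apply_of_B_eq (h.mem _ x hx.1) h1 h2 hB2
  have h4 : (φ x⁻¹).1 (fr.e j) = fr.e j := by
    rw [map_inv]; conv_lhs => rw [← h3]
    exact Isom.inv_apply _ _
  have h5 : x⁻¹ * y * x⁻¹⁻¹ ∈ PS fr φ U M S i := by
    refine h.mem_PS hS hj hi ⟨h.norm j (-i) _ (inv_mem hx.1) h4 y hy, ?_⟩ ?_
    · exact (FixV fr φ S).mul_mem ((FixV fr φ S).mul_mem ((FixV fr φ S).inv_mem hx.2)
        (RA_mem_FixV hS hi hj ha)) ((FixV fr φ S).inv_mem ((FixV fr φ S).inv_mem hx.2))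
    · obtain ⟨a, ha⟩ := ha
      rw [inv_inv, map_mul, map_mul, map_inv, Isom.mul_apply, Isom.mul_apply,
        ha.apply_of_orth hB1 (by rw [B_smul_right, hB2, mul_zero]), Isom.inv_apply]
  exact ⟨x, mem_sup_left hx, m, hm, hrk, _,
    mul_mem (h.conj_PS (inv_mem hm) (by simpa using hrk.inv) h5) hp, by simp [mul_assoc]⟩

theorem mul_mem_YS_of_U [Finite I] {S : Set I} (hS : ∀ i ∈ S, -i ∈ S) {r : I} (hr : r ∈ S)
    {y : J} (hy : y ∈ JS fr φ U M S) {k : I} (hk : k ∈ S) {g : J} (hg : g ∈ YS fr φ U M S r k) :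
    ∃ k ∈ S, y * g ∈ YS fr φ U M S r k := by
  let T : Subgroup J :=
    { carrier := {y | ∀ g, (∃ k ∈ S, g ∈ YS fr φ U M S r k) →
        (∃ k ∈ S, y * g ∈ YS fr φ U M S r k) ∧ ∃ k ∈ S, y⁻¹ * g ∈ YS fr φ U M S r k}
      one_mem' := fun g hg => by simpa using hg
      mul_mem' := fun {a b} ha hb g hg => by
        rw [mul_inv_rev, mul_assoc, mul_assoc]
        exact ⟨(ha _ (hb g hg).1).1, (hb _ (ha g hg).2).2⟩
      inv_mem' := fun {a} ha g hg => by rw [inv_inv]; exact (ha g hg).symm }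
  have hz : ∀ g : J, ∃ k, f.B ((φ g).1 (fr.e r)) (fr.e (-k)) ≠ 0 := fun g =>
    fr.exists_B_ne (by simpa using fr.e_ne_zero r) (by rw [Isom.map_Q, fr.Qe])
  have good : ∀ i ∈ S, ∀ y ∈ U i ⊓ FixV fr φ S, ∀ k ∈ S, ∀ g ∈ YS fr φ U M S r k, ∀ j,
      f.B ((φ g).1 (fr.e r)) (fr.e (-j)) ≠ 0 → (φ y).1 (fr.e (-j)) = fr.e (-j) →
      ∃ k ∈ S, y * g ∈ YS fr φ U M S r k := fun i hi y hy k hk g hg j hB hf =>
    have hj := mem_of_B_ne hS hr hk hg hB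
    ⟨j, hj, mul_mem_YS (h.mem_PS hS hi (hS j hj) hy hf) (h.mem_YS hS hk hg hB)⟩
  have hA : ∀ i ∈ S, ∀ j ∈ S, j ≠ i → j ≠ -i → ∀ y ∈ U i, φ y ∈ fr.RA i j → ∀ g,
      (∃ k ∈ S, g ∈ YS fr φ U M S r k) → ∃ k ∈ S, y * g ∈ YS fr φ U M S r k := by
    rintro i hi j hj h1 h2 y hy ha g ⟨k, hk, hg⟩
    by_cases h3 : ∃ t, t ≠ i ∧ t ≠ j ∧ f.B ((φ g).1 (fr.e r)) (fr.e (-t)) ≠ 0
    · obtain ⟨t, h4, h5, h6⟩ := h3
      exact good i hi y ⟨hy, RA_mem_FixV hS hi hj ha⟩ k hk g hg t h6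
        (fr.RA_apply ha (fun e => h4 (neg_injective e)) fun e => h5 (neg_injective e))
    push Not at h3
    have h2' : i ≠ -j := fun e => h2 (by rw [e, neg_neg])
    have hB1 := h3 (-i) (fr.ne i) h2.symm
    have hB2 := h3 (-j) h2'.symm (fr.ne j)
    rw [neg_neg] at hB1 hB2
    obtain ⟨t, ht⟩ := hz g
    by_cases h4 : t = i
    · subst h4
      exact ⟨t, hi, h.RA_mul_aux hS hi hj h1 h2 (h.swap _ j h1 h2 y hy ha) ha
        (h.mem_YS hS hk hg ht) hB1 hB2⟩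
    by_cases h5 : t = j
    · subst h5
      exact ⟨t, hj, h.RA_mul_aux hS hj hi h1.symm h2' hy (fr.RA_swap h2 ha)
        (h.mem_YS hS hk hg ht) hB2 hB1⟩
    exact absurd (h3 t h4 h5) ht
  have hC : ∀ i ∈ S, ∀ y ∈ U i, φ y ∈ fr.RC i → ∀ g,
      (∃ k ∈ S, g ∈ YS fr φ U M S r k) → ∃ k ∈ S, y * g ∈ YS fr φ U M S r k := by
    rintro i hi y hy ha g ⟨k, hk, hg⟩
    by_cases h3 : ∃ t, t ≠ i ∧ f.B ((φ g).1 (fr.e r)) (fr.e (-t)) ≠ 0
    · obtain ⟨t, h4, h6⟩ := h3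
      exact good i hi y ⟨hy, RC_mem_FixV hS hi ha⟩ k hk g hg t h6
        (fr.RC_apply ha fun e => h4 (neg_injective e))
    push Not at h3
    obtain ⟨t, ht⟩ := hz g
    obtain rfl : t = i := by by_contra h4; exact ht (h3 t h4)
    obtain ⟨d, hd⟩ := fr.eq_smul_of_B_eq (by rw [Isom.map_Q, fr.Qe]) h3
    obtain ⟨x, hx, m, hm, hrk, p, hp, rfl⟩ := h.exists_of_mem_YS (h.mem_YS hS hk hg ht)
    obtain ⟨c, hc, e⟩ := h.apply_of_YS (x := x) hrk hp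
    obtain rfl : x = 1 := h.inj _ x hx.1 (fr.U_eq_one (h.mem _ x hx.1) (c := c⁻¹ * d) (by
      rw [neg_neg, mul_smul, ← hd, e, smul_smul, inv_mul_cancel₀ hc, one_smul]))
    exact ⟨t, hi, 1, one_mem _, m, hm, hrk, _, mul_mem (h.conj_PS (inv_mem hm)
      (by simpa using hrk.inv) (mem_sup_left ⟨hy, RC_mem_FixV hS hi ha⟩)) hp, by simp [mul_assoc]⟩
  have hM : ∀ y ∈ M ⊓ FixP fr φ S, ∀ g,
      (∃ k ∈ S, g ∈ YS fr φ U M S r k) → ∃ k ∈ S, y * g ∈ YS fr φ U M S r k := by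
    rintro y hy g ⟨k, hk, p', hp', m, hm, hrk, p, hp, rfl⟩
    obtain ⟨j, hj, -⟩ := h.mono y hy.1 k
    exact ⟨j, mem_of_mv hy.2 hj hk, _, h.conj_PS hy (h.mv_neg hy.1 hj) hp', _, mul_mem hy hm,
      by rw [map_mul]; exact hj.mul hrk, p, hp, by simp [mul_assoc]⟩
  have : JS fr φ U M S ≤ T := by
    refine sup_le (iSup₂_le fun i hi => h.U_induction hS hi (fun j hj h1 h2 x hx ha g hg => ?_)
      fun x hx ha g hg => ?_) fun x hx g hg => ⟨hM x hx g hg, hM _ (inv_mem hx) g hg⟩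
    · exact ⟨hA i hi j hj h1 h2 x hx ha g hg, hA i hi j hj h1 h2 _ (inv_mem hx)
        (by rw [map_inv]; exact fr.inv_mem_RA ha) g hg⟩
    · exact ⟨hC i hi x hx ha g hg, hC i hi _ (inv_mem hx) (by rw [map_inv]; exact inv_mem ha) g hg⟩
  exact (this hy g ⟨k, hk, hg⟩).1

/-- the stabilizer of a point -/
theorem mem_PS_of_mv [Finite I] {S : Set I} (hS : ∀ i ∈ S, -i ∈ S) {r : I} (hr : r ∈ S)
    {g : J} (hg : g ∈ JS fr φ U M S) (hv : fr.Mv (φ g) r r) : g ∈ PS fr φ U M S r := by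
  obtain ⟨k, hk, h1⟩ := h.mul_mem_YS_of_U hS hr hg hr (g := 1)
    ⟨1, one_mem _, 1, one_mem _, by rw [map_one]; exact .one, 1, one_mem _, by simp⟩
  rw [mul_one] at h1
  obtain ⟨d, hd⟩ := hv
  have h2 := h.mem_YS hS hk h1 (j := r) (by
    rw [hd, B_smul_left]; exact mul_ne_zero (fr.smul_ne_zero hd) (fr.B_ne r))
  obtain ⟨x, hx, m, hm, hrk, p, hp, rfl⟩ := h.exists_of_mem_YS h2
  obtain ⟨c, hc, e⟩ := h.apply_of_YS (x := x) hrk hp
  obtain rfl : x = 1 := h.inj _ x hx.1 (fr.U_eq_one (h.mem _ x hx.1) (c := c⁻¹ * d) (by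
    rw [neg_neg, mul_smul, ← hd, e, smul_smul, inv_mul_cancel₀ hc, one_smul]))
  rw [one_mul]
  refine mul_mem (mem_sup_right (mem_JS_of_M hm.1 fun j hj => ?_)) hp
  by_cases h3 : j = r
  · exact h3 ▸ hrk
  by_cases h4 : j = -r
  · exact h4 ▸ h.mv_neg hm.1 hrk
  exact hm.2 j fun h' => hj ⟨h', h3, h4⟩

theorem mem_JS_rm [Finite I] {S : Set I} (hS : ∀ i ∈ S, -i ∈ S) {r : I} (hr : r ∈ S)
    {g : J} (hg : g ∈ JS fr φ U M S) (hv : fr.Mv (φ g) r r) (hv' : fr.Mv (φ g) (-r) (-r)) :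
    g ∈ JS fr φ U M (rm S r) := by
  obtain ⟨x, hx, g', hg', rfl⟩ := h.exists_of_mem_PS (h.mem_PS_of_mv hS hr hg hv)
  obtain ⟨c, hc⟩ := hv'.mul (JS_le_FixP _ hg' (-r) fun h' => h'.2.2 rfl).inv
  obtain rfl : x = 1 := h.inj _ x hx.1 (fr.U_eq_one (h.mem _ x hx.1) (c := c) (by simpa using hc))
  simpa using hg'

/-- An element fixing the points outside `T` lies in the group attached to `T`. -/
theorem mem_JS [Finite I] {T : Set I} (hT : ∀ i ∈ T, -i ∈ T) {g : J} (hg : g ∈ (⨆ i, U i) ⊔ M)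
    (hv : g ∈ FixP fr φ T) : g ∈ JS fr φ U M T := by
  have key : ∀ n, ∀ S : Set I, (∀ i ∈ S, -i ∈ S) → T ⊆ S → S.ncard = n → g ∈ JS fr φ U M S →
      g ∈ JS fr φ U M T := by
    intro n
    induction n using Nat.strong_induction_on with
    | _ n ih =>
    intro S hS hTS hn hg
    by_cases h0 : S ⊆ T
    · exact JS_mono h0 hg
    obtain ⟨r, hr, hr'⟩ := Set.not_subset.1 h0
    refine ih _ ?_ (rm S r) (rm_closed hS r) (fun i hi => ⟨hTS hi, fun e => hr' (e ▸ hi),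
      fun e => neg_notMem hT hr' (e ▸ hi)⟩) rfl
      (h.mem_JS_rm hS hr hg (hv r hr') (hv _ (neg_notMem hT hr')))
    rw [← hn]
    exact Set.ncard_lt_ncard ⟨fun i hi => hi.1, fun hc => (hc hr).2.1 rfl⟩
  refine key _ Set.univ (by simp) (by simp) rfl ?_
  have : (⨆ i, U i) ⊔ M ≤ JS fr φ U M Set.univ :=
    sup_le (iSup_le fun i x hx => mem_JS_of_U (Set.mem_univ i) hx fun k hk => absurd trivial hk)
      fun x hx => mem_JS_of_M hx fun k hk => absurd trivial hk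
  exact this hg

/-- An element fixing all the points of the frame is monomial. -/
theorem mem_M [Finite I] {g : J} (hg : g ∈ (⨆ i, U i) ⊔ M) (hv : ∀ i, fr.Mv (φ g) i i) :
    g ∈ M := by
  have := h.mem_JS (T := ∅) (by simp) hg fun i _ => hv i
  rw [JS] at this
  simp only [Set.mem_empty_iff_false, not_false_eq_true, iSup_neg, iSup_bot, bot_le,
    sup_of_le_right] at this
  exact this.1

theorem injective [Finite I] (hg : (⨆ i, U i) ⊔ M = ⊤) (hM : ∀ m ∈ M, φ m = 1 → m = 1) :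
    Function.Injective φ :=
  (injective_iff_map_eq_one φ).2 fun g h1 => hM g (h.mem_M (hg ▸ mem_top g) fun i => by
    rw [h1]; exact .one) h1

end PSt

end Cfsg.Agent.Cls
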