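import Cfsg.Agent.Lib.Forms.Witt

/-!
Eichler transformations as a predicate, frames of hyperbolic pairs and their root subgroups.
-/

set_option autoImplicit false

namespace Cfsg.Agent.Cls

open Forms Forms.Form

variable {F : Type*} [Field F] {P : Param F} {V : Type*} [AddCommGroup V] [Module F V]
  {f : Form P V}

/-- `g` is the Eichler transformation with parameters `u v l`. -/
structure IsE (g : f.Isom) (u v : V) (l : F) : Prop where
  orth : f.B v u = 0
  lam : f.IsLam v l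
  app : ∀ w, g.1 w = w + f.B w u • v - (P.ε * f.B w v) • u - (P.ε * l * f.B w u) • u

theorem isE_eichler {u v : V} {l : F} (hu : f.Q u = 0) (hv : f.B v u = 0) (hl : f.IsLam v l) :
    IsE (f.eichler u v l hu hv hl) u v l := ⟨hv, hl, f.eichler_apply u v l hu hv hl⟩

theorem exists_isE {u v : V} {l : F} (hu : f.Q u = 0) (hv : f.B v u = 0) (hl : f.IsLam v l) :
    ∃ g : f.Isom, IsE g u v l := ⟨_, isE_eichler hu hv hl⟩

theorem isE_one (u : V) : IsE (1 : f.Isom) u 0 0 :=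
  ⟨f.B_zero_left u, f.isLam_zero_of_Q f.Q_zero, fun w => by simp⟩

namespace IsE

variable {g g' : f.Isom} {u v v' : V} {l l' : F}

theorem eq (h : IsE g u v l) (h' : IsE g' u v l) : g = g' :=
  Isom.ext fun w => by rw [h.app, h'.app]

theorem eq_eichler (hu : f.Q u = 0) (h : IsE g u v l) : g = f.eichler u v l hu h.orth h.lam :=
  h.eq (isE_eichler hu h.orth h.lam)

theorem congr (h : IsE g u v l) (e1 : v = v') (e2 : l = l') : IsE g u v' l' := e1 ▸ e2 ▸ h

theorem eq_one (h : IsE g u 0 0) : g = 1 := h.eq (isE_one u)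

theorem mul (hu : f.Q u = 0) (h : IsE g u v l) (h' : IsE g' u v' l') :
    IsE (g * g') u (v + v') (l + l' + f.B v' v) := by
  rw [h.eq_eichler hu, h'.eq_eichler hu, eichler_mul]
  exact isE_eichler _ _ _

theorem inv (hu : f.Q u = 0) (h : IsE g u v l) : IsE g⁻¹ u (-v) (P.ε * P.σ l) := by
  rw [h.eq_eichler hu, eichler_inv]
  exact isE_eichler _ _ _

theorem conj (k : f.Isom) (h : IsE g u v l) : IsE (k * g * k⁻¹) (k.1 u) (k.1 v) l :=
  ⟨by rw [Isom.map_B, h.orth], h.lam.map k, fun w => by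
    simp only [Isom.mul_apply, h.app, map_sub, map_add, map_smul, Isom.apply_inv, Isom.B_right]⟩

theorem smul_left {a : F} (h : IsE g (a • u) v l) (ha : a ≠ 0) :
    IsE g u (P.σ a • v) (a * P.σ a * l) := by
  have h1 : f.B v u = 0 := by
    have := h.orth
    rw [B_smul_right] at this
    exact (mul_eq_zero.1 this).resolve_left (P.σ_ne_zero ha)
  refine ⟨by rw [B_smul_left, h1, mul_zero], ?_, fun w => ?_⟩
  · have := h.lam.smul (P.σ a)
    rwa [P.σσ, mul_comm (P.σ a) a] at this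
  · rw [h.app]
    simp only [B_smul_right, P.σσ]
    module

theorem of_conj {k : f.Isom} {u' : V} {a : F} (h : IsE g u v l) (hk : k.1 u = a • u') (ha : a ≠ 0) :
    IsE (k * g * k⁻¹) u' (P.σ a • k.1 v) (a * P.σ a * l) :=
  (hk ▸ h.conj k).smul_left ha

theorem add_self (hu : f.Q u = 0) (c : F) (h : IsE g u (v + c • u) l) :
    IsE g u v (l + P.σ c - P.ε * c) := by
  have huu := f.B_self_of_Q hu
  have h1 : f.B v u = 0 := by
    have := h.orth
    rwa [B_add_left, B_smul_left, huu, mul_zero, add_zero] at this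
  have h2 := f.B_eq_zero_symm h1
  refine ⟨h1, ⟨?_, ?_⟩, fun w => ?_⟩
  · have := h.lam.1
    rw [f.Q_add, f.Q_smul, hu, B_smul_right, h1] at this
    have e := P.τ_σ (P.σ c)
    rw [P.σσ] at e
    rw [map_sub, map_add, this, e]; simp
  · have := h.lam.2
    simp only [B_add_left, B_add_right, B_smul_left, B_smul_right, h1, h2, huu] at this
    simp only [map_sub, map_add, map_mul, P.σσ, P.σε]
    linear_combination this - P.σ c * P.εε
  · rw [h.app]
    simp only [B_add_right, B_smul_right]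
    have : P.ε * (l + P.σ c - P.ε * c) = P.ε * l + P.ε * P.σ c - c := by
      linear_combination (-c) * P.εε
    rw [this]
    module

theorem swap {u' : V} {a : F} (hu : f.Q u = 0) (huu : f.B u u' = 0) (h : IsE g u (a • u') 0) :
    IsE g u' ((-(P.ε * P.σ a)) • u) 0 := by
  refine ⟨by rw [B_smul_left, huu, mul_zero], f.isLam_zero_of_Q (by rw [f.Q_smul, hu, mul_zero]),
    fun w => ?_⟩
  rw [h.app]
  simp only [B_smul_right, map_neg, map_mul, P.σε, P.σσ]
  have : P.ε * (-(P.ε * a) * f.B w u) = -(a * f.B w u) := by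
    linear_combination (-(a * f.B w u)) * P.εε
  rw [this]
  module

theorem apply_of_orth (h : IsE g u v l) {w : V} (h1 : f.B w u = 0) (h2 : f.B w v = 0) :
    g.1 w = w := by
  simp [h.app, h1, h2]

theorem apply_self (hu : f.Q u = 0) (h : IsE g u v l) : g.1 u = u :=
  h.apply_of_orth (f.B_self_of_Q hu) (f.B_eq_zero_symm h.orth)

theorem B_apply (hu : f.Q u = 0) (h : IsE g u v l) (w : V) : f.B (g.1 w) u = f.B w u := by
  conv_lhs => rw [← h.apply_self hu, Isom.map_B]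

/-- normalization of the vector parameter -/
theorem exists_orth (hu : f.Q u = 0) {e : V} (he : f.B u e ≠ 0) (h : IsE g u v l) :
    ∃ v' l', IsE g u v' l' ∧ f.B v' e = 0 ∧ ∃ c : F, v = v' + c • u := by
  refine ⟨v - (f.B v e / f.B u e) • u, _, add_self hu (f.B v e / f.B u e) (by simpa using h), ?_,
    _, (sub_add_cancel _ _).symm⟩
  rw [B_sub_left, B_smul_left, div_mul_cancel₀ _ he, sub_self]

end IsE

/-- The Eichler transformations at a singular vector. -/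
def Eu (u : V) (hu : f.Q u = 0) : Subgroup f.Isom where
  carrier := {g | ∃ v l, IsE g u v l}
  one_mem' := ⟨0, 0, isE_one u⟩
  mul_mem' := fun ⟨_, _, h⟩ ⟨_, _, h'⟩ => ⟨_, _, h.mul hu h'⟩
  inv_mem' := fun ⟨_, _, h⟩ => ⟨_, _, h.inv hu⟩

theorem mem_Eu {u : V} {hu : f.Q u = 0} {g : f.Isom} : g ∈ Eu u hu ↔ ∃ v l, IsE g u v l := Iff.rfl

theorem conj_mem_Eu {u u' : V} {hu : f.Q u = 0} {hu' : f.Q u' = 0} {g k : f.Isom} {a : F}
    (hk : k.1 u = a • u') (ha : a ≠ 0) (hg : g ∈ Eu u hu) : k * g * k⁻¹ ∈ Eu u' hu' :=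
  let ⟨_, _, h⟩ := hg; ⟨_, _, h.of_conj hk ha⟩

theorem apply_self_of_mem_Eu {u : V} {hu : f.Q u = 0} {g : f.Isom} (hg : g ∈ Eu u hu) :
    g.1 u = u := let ⟨_, _, h⟩ := hg; h.apply_self hu

theorem B_apply_of_mem_Eu {u : V} {hu : f.Q u = 0} {g : f.Isom} (hg : g ∈ Eu u hu) (w : V) :
    f.B (g.1 w) u = f.B w u := let ⟨_, _, h⟩ := hg; h.B_apply hu w

/-- an Eichler transformation at `u` fixing the point of a hyperbolic partner is trivial -/
theorem eq_one_of_mem_Eu {u e : V} {hu : f.Q u = 0} (he : f.B u e ≠ 0) (hQ : f.Q e = 0)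
    {g : f.Isom} (hg : g ∈ Eu u hu) {c : F} (hc : g.1 e = c • e) : g = 1 := by
  obtain ⟨v, l, h⟩ := hg
  obtain ⟨v, l, h, hv, -⟩ := h.exists_orth hu he
  have he' : f.B e u ≠ 0 := fun h => he (f.B_eq_zero_symm h)
  have hc1 : c = 1 := by
    have := h.B_apply hu e
    rw [hc, B_smul_left] at this
    exact mul_right_cancel₀ he' (by rw [this, one_mul])
  rw [hc1, one_smul, h.app, f.B_eq_zero_symm hv] at hc
  have h1 : f.B e u • v - (P.ε * l * f.B e u) • u = 0 := by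
    rw [← sub_eq_zero.2 hc]; module
  have h2 : l = 0 := by
    have := congrArg (fun x => f.B x e) h1
    simp only [B_sub_left, B_smul_left, hv, B_zero_left] at this
    simpa [he, he', P.ε_ne_zero] using this
  rw [h2] at h1
  have h3 : v = 0 := by simpa [he'] using h1
  exact (h.congr h3 h2).eq_one

/-- A frame: a family of mutually orthogonal hyperbolic pairs with anisotropic complement. -/
structure Frame (f : Form P V) (I : Type*) [InvolutiveNeg I] where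
  e : I → V
  ne : ∀ i : I, -i ≠ i
  Qe : ∀ i, f.Q (e i) = 0
  B_ne : ∀ i, f.B (e i) (e (-i)) ≠ 0
  B_eq : ∀ i j, j ≠ -i → f.B (e i) (e j) = 0
  aniso : ∀ v, (∀ i, f.B v (e i) = 0) → f.Q v = 0 → v = 0

namespace Frame

variable {I : Type*} [InvolutiveNeg I] (fr : Frame f I)

theorem B_ne' (i : I) : f.B (fr.e (-i)) (fr.e i) ≠ 0 := by simpa using fr.B_ne (-i)

theorem B_eq' {i j : I} (h : i ≠ -j) : f.B (fr.e i) (fr.e j) = 0 :=
  fr.B_eq i j fun e => h (by rw [e, neg_neg])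

theorem B_neg {i j : I} (h : i ≠ j) : f.B (fr.e i) (fr.e (-j)) = 0 :=
  fr.B_eq i _ fun e => h (neg_injective e).symm

theorem e_ne_zero (i : I) : fr.e i ≠ 0 := fun h => fr.B_ne i (by rw [h, B_zero_left])

theorem eq_of_B_ne {i j : I} (h : f.B (fr.e i) (fr.e (-j)) ≠ 0) : i = j := by
  by_contra hc; exact h (fr.B_neg hc)

theorem smul_ne_zero {g : f.Isom} {i j : I} {c : F} (h : g.1 (fr.e i) = c • fr.e j) : c ≠ 0 := by
  rintro rfl
  rw [zero_smul, map_eq_zero_iff _ g.1.injective] at h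
  exact fr.e_ne_zero i h

theorem eq_of_smul {i j : I} {c d : F} (hc : c ≠ 0) (h : c • fr.e i = d • fr.e j) : i = j := by
  have := congrArg (fun x => f.B x (fr.e (-i))) h
  simp only [B_smul_left] at this
  refine (fr.eq_of_B_ne fun h0 => ?_).symm
  rw [h0, mul_zero] at this
  exact mul_ne_zero hc (fr.B_ne i) this

/-- the unipotent radical of the stabilizer of the `i`-th point -/
abbrev U (i : I) : Subgroup f.Isom := Eu (fr.e i) (fr.Qe i)

/-- vectors orthogonal to the frame -/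
def V0 : Submodule F V := f.orth (Submodule.span F (Set.range fr.e))

theorem mem_V0 {v : V} : v ∈ fr.V0 ↔ ∀ i, f.B v (fr.e i) = 0 := by
  simp [V0, mem_orth_span]

/-- the root subgroup attached to two indices -/
def RA (i j : I) : Set f.Isom := {g | ∃ a : F, IsE g (fr.e i) (a • fr.e j) 0}

/-- the root subgroup attached to one index -/
def RC (i : I) : Subgroup f.Isom where
  carrier := {g | ∃ v ∈ fr.V0, ∃ l, IsE g (fr.e i) v l}
  one_mem' := ⟨0, zero_mem _, 0, isE_one _⟩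
  mul_mem' := fun ⟨_, hv, _, h⟩ ⟨_, hv', _, h'⟩ => ⟨_, add_mem hv hv', _, h.mul (fr.Qe i) h'⟩
  inv_mem' := fun ⟨_, hv, _, h⟩ => ⟨_, neg_mem hv, _, h.inv (fr.Qe i)⟩

theorem exists_RA {i j : I} (h : j ≠ -i) (a : F) : ∃ g : f.Isom, IsE g (fr.e i) (a • fr.e j) 0 :=
  exists_isE (fr.Qe i) (by rw [B_smul_left, fr.B_eq' h, mul_zero])
    (f.isLam_zero_of_Q (by rw [f.Q_smul, fr.Qe, mul_zero]))

theorem RA_subset_U {i j : I} {g : f.Isom} (h : g ∈ fr.RA i j) : g ∈ fr.U i :=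
  let ⟨_, h⟩ := h; ⟨_, _, h⟩

theorem RC_le_U (i : I) : fr.RC i ≤ fr.U i := fun _ ⟨_, _, _, h⟩ => ⟨_, _, h⟩

theorem RA_swap {i j : I} (hj : j ≠ -i) {g : f.Isom} (h : g ∈ fr.RA i j) : g ∈ fr.RA j i :=
  let ⟨_, h⟩ := h; ⟨_, h.swap (fr.Qe i) (fr.B_eq i j hj)⟩

theorem RA_apply {i j k : I} {g : f.Isom} (h : g ∈ fr.RA i j) (h1 : k ≠ -i) (h2 : k ≠ -j) :
    g.1 (fr.e k) = fr.e k :=
  let ⟨_, h⟩ := h
  h.apply_of_orth (fr.B_eq' h1) (by rw [B_smul_right, fr.B_eq' h2, mul_zero])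

theorem RA_apply_V0 {i j : I} {g : f.Isom} (h : g ∈ fr.RA i j) {v : V} (hv : v ∈ fr.V0) :
    g.1 v = v :=
  let ⟨_, h⟩ := h
  h.apply_of_orth (fr.mem_V0.1 hv i) (by rw [B_smul_right, fr.mem_V0.1 hv j, mul_zero])

theorem RC_apply {i k : I} {g : f.Isom} (h : g ∈ fr.RC i) (h1 : k ≠ -i) :
    g.1 (fr.e k) = fr.e k :=
  let ⟨_, hv, _, h⟩ := h
  h.apply_of_orth (fr.B_eq' h1) (f.B_eq_zero_symm (fr.mem_V0.1 hv k))

theorem one_mem_RA (i j : I) : (1 : f.Isom) ∈ fr.RA i j := ⟨0, by simpa using isE_one _⟩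

theorem mul_mem_RA {i j : I} {g g' : f.Isom} (h : g ∈ fr.RA i j) (h' : g' ∈ fr.RA i j) :
    g * g' ∈ fr.RA i j := by
  obtain ⟨a, h⟩ := h
  obtain ⟨b, h'⟩ := h'
  refine ⟨a + b, (h.mul (fr.Qe i) h').congr (add_smul _ _ _).symm ?_⟩
  simp [f.B_self_of_Q (fr.Qe j)]

theorem inv_mem_RA {i j : I} {g : f.Isom} (h : g ∈ fr.RA i j) : g⁻¹ ∈ fr.RA i j := by
  obtain ⟨a, h⟩ := h
  exact ⟨-a, (h.inv (fr.Qe i)).congr (neg_smul _ _).symm (by simp)⟩

/-- An element of `U i` fixing all other frame vectors except possibly `e (-i)` lies in `RC i`. -/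
theorem mem_RC_of_fix {i : I} {g : f.Isom} (hg : g ∈ fr.U i)
    (h : ∀ k, k ≠ -i → g.1 (fr.e k) = fr.e k) : g ∈ fr.RC i := by
  obtain ⟨v, l, hg⟩ := hg
  obtain ⟨v, l, hg, hv, -⟩ := hg.exists_orth (fr.Qe i) (fr.B_ne i)
  refine ⟨v, fr.mem_V0.2 fun k => ?_, l, hg⟩
  by_cases hk : k = -i
  · rw [hk, hv]
  have := h k hk
  rw [hg.app, fr.B_eq' hk] at this
  have h1 : (P.ε * f.B (fr.e k) v) • fr.e i = 0 := by rw [← neg_eq_zero, ← sub_eq_zero.2 this]; module
  exact f.B_eq_zero_symm (by simpa [fr.e_ne_zero, P.ε_ne_zero] using h1)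

/-- Splitting off a root element. -/
theorem exists_split {i j : I} (h1 : j ≠ i) (h2 : j ≠ -i) {g : f.Isom} (hg : g ∈ fr.U i) :
    ∃ a ∈ fr.RA i j, (g * a⁻¹).1 (fr.e (-j)) = fr.e (-j) := by
  obtain ⟨v, l, hg⟩ := hg
  obtain ⟨a, ha⟩ := fr.exists_RA h2 (f.B v (fr.e (-j)) / f.B (fr.e j) (fr.e (-j)))
  refine ⟨a, ⟨_, ha⟩, ?_⟩
  refine (hg.mul (fr.Qe i) (ha.inv (fr.Qe i))).apply_of_orth
    (fr.B_eq' fun e => h1 (neg_injective e)) (f.B_eq_zero_symm ?_)
  rw [B_add_left, B_neg_left, B_smul_left, div_mul_cancel₀ _ (fr.B_ne j), add_neg_cancel]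

/-- a root element fixing the critical vector is trivial -/
theorem RA_eq_one {i j : I} (h2 : j ≠ -i) {g : f.Isom} (hg : g ∈ fr.RA i j) {c : F}
    (h : g.1 (fr.e (-j)) = c • fr.e (-j)) : g = 1 :=
  eq_one_of_mem_Eu (fr.B_ne j) (fr.Qe _) (fr.RA_subset_U (fr.RA_swap h2 hg)) h

theorem U_eq_one {i : I} {g : f.Isom} (hg : g ∈ fr.U i) {c : F}
    (h : g.1 (fr.e (-i)) = c • fr.e (-i)) : g = 1 :=
  eq_one_of_mem_Eu (fr.B_ne i) (fr.Qe _) hg h

/-- a singular vector with vanishing coordinates is zero -/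
theorem exists_B_ne {z : V} (hz : z ≠ 0) (hQ : f.Q z = 0) : ∃ k, f.B z (fr.e (-k)) ≠ 0 := by
  by_contra h
  push Not at h
  exact hz (fr.aniso z (fun i => by simpa using h (-i)) hQ)

end Frame

end Cfsg.Agent.Cls
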