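import Cfsg.Agent.Lib.Cls.EGid
import Cfsg.Agent.Lib.Forms.Classify
import Cfsg.Agent.Lib.SLn.Mult

/-!
Frames of the standard unitary and orthogonal spaces.
-/

set_option autoImplicit false

namespace Cfsg.Agent.Cls

open Forms Forms.Form Subgroup Module

variable {F : Type*} [Field F] {V : Type*} [AddCommGroup V] [Module F V] {I : Type*}
  [InvolutiveNeg I]

theorem Frame.finrank_V0_lt {P : Param F} {f : Form P V} (fr : Frame f I) {n : ℕ}
    (h : n ≤ finrank F fr.V0 → ∃ v, v ≠ 0 ∧ (f.restrict fr.V0).Q v = 0) : finrank F fr.V0 < n := by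
  by_contra hc
  obtain ⟨v, h0, hv⟩ := h (not_lt.1 hc)
  exact h0 (fr.V0_aniso v hv)

theorem Frame.exists_gen_V0 {P : Param F} {f : Form P V} [Finite I] (fr : Frame f I)
    (hf : f.Nondeg) (h : finrank F fr.V0 = 1) :
    ∃ v ∈ fr.V0, f.B v v ≠ 0 ∧ ∀ u ∈ fr.V0, ∃ c : F, u = c • v := by
  obtain ⟨v, v0, hv⟩ := finrank_eq_one_iff'.1 h
  refine ⟨v, v.2, fun e => v0 (fr.V0_nondeg hf v fun y => ?_), fun u hu =>
    let ⟨c, hc⟩ := hv ⟨u, hu⟩; ⟨c, (congrArg Subtype.val hc).symm⟩⟩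
  obtain ⟨c, rfl⟩ := hv y
  rw [B_smul_right, restrict_B, e, mul_zero]

theorem Frame.V0_eq_zero {P : Param F} {f : Form P V} [FiniteDimensional F V] (fr : Frame f I)
    (h : finrank F fr.V0 = 0) : ∀ v ∈ fr.V0, v = 0 := fun _ hv => by
  rwa [Submodule.finrank_eq_zero.1 h, Submodule.mem_bot] at hv

theorem Frame.TwoG.center {P : Param F} {f : Form P V} {fr : Frame f I} (h : fr.TwoG) {G : Type*}
    [Group G] (j : G →* f.Isom) (hj : Function.Injective j) (hr : j.range = fr.EG) :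
    ∃ a b : G ⧸ center G, closure {a, b} = ⊤ :=
  h.quot j hj hr (QuotientGroup.mk' _) (QuotientGroup.mk'_surjective _)

theorem plus_frame (m : ℕ) : ∃ fr : Frame (plusForm m F) (PM m), ∀ v ∈ fr.V0, v = 0 := by
  have key : ∀ v : Fin m ⊕ Fin m → F, (∀ i : PM m, (plusForm m F).B v
      (Pi.single (if i.2 then .inl i.1 else .inr i.1) 1) = 0) → v = 0 := fun v hv => by
    ext (a | a)
    · simpa [plusForm_B, Pi.single_apply] using hv ⟨a, false⟩
    · simpa [plusForm_B, Pi.single_apply] using hv ⟨a, true⟩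
  refine ⟨⟨fun i => Pi.single (if i.2 then .inl i.1 else .inr i.1) 1, PM.neg_ne, ?_, ?_, ?_,
    fun v hv _ => key v hv⟩, fun v hv => key v (Frame.mem_V0 _ |>.1 hv)⟩
  · rintro ⟨a, s⟩; cases s <;> simp [plusForm_Q, quadFormPlus, Pi.single_apply]
  · rintro ⟨a, s⟩; cases s <;> simp [plusForm_B, Pi.single_apply]
  · rintro ⟨a, s⟩ ⟨b, t⟩ h
    cases s <;> cases t <;> simp_all [plusForm_B, Pi.single_apply]

theorem minus_frame (m : ℕ) {a b : F}
    (hab : ∀ z₁ z₂ : F, z₁ ^ 2 + a * z₁ * z₂ + b * z₂ ^ 2 = 0 → z₁ = 0 ∧ z₂ = 0) :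
    Nonempty (Frame (minusForm m F a b) (PM m)) := by
  refine ⟨⟨fun i => Pi.single (.inl (if i.2 then .inl i.1 else .inr i.1)) 1, PM.neg_ne, ?_, ?_, ?_,
    fun v hv hQ => ?_⟩⟩
  · rintro ⟨a, s⟩; cases s <;> simp [minusForm_Q, quadFormMinus, Pi.single_apply]
  · rintro ⟨a, s⟩; cases s <;> simp [minusForm_B, Pi.single_apply]
  · rintro ⟨a, s⟩ ⟨b, t⟩ h
    clear hab
    cases s <;> cases t <;> simp_all [minusForm_B, Pi.single_apply]
  · have h1 : ∀ c, v (.inl (.inl c)) = 0 := fun c => by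
      simpa [minusForm_B, Pi.single_apply] using hv ⟨c, false⟩
    have h2 : ∀ c, v (.inl (.inr c)) = 0 := fun c => by
      simpa [minusForm_B, Pi.single_apply] using hv ⟨c, true⟩
    have h3 := hab (v (.inr 0)) (v (.inr 1)) (by simpa [minusForm_Q, quadFormMinus, h1] using hQ)
    ext ((c | c) | c)
    · exact h1 c
    · exact h2 c
    · fin_cases c
      exacts [h3.1, h3.2]

variable [Fintype F]

theorem odd_frame (m : ℕ) (h2 : (2 : F) ≠ 0) :
    ∃ fr : Frame (oddForm m F) (PM m), finrank F fr.V0 = 1 := by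
  obtain ⟨k, ⟨fr⟩⟩ := exists_frame (oddForm_nondeg m h2)
  have h1 := fr.finrank_V0 (oddForm_nondeg m h2)
  have h3 := fr.finrank_V0_lt (fr.V0_nondeg (oddForm_nondeg m h2)).orth_exists_singular
  simp only [PM.card, finrank_fintype_fun_eq_card, Fintype.card_sum, Fintype.card_unit,
    Fintype.card_fin] at h1
  obtain rfl : k = m := by omega
  exact ⟨fr, by omega⟩

theorem unit_frame {q : ℕ} (hF : Fintype.card F = q ^ 2) (n : ℕ) :
    ∃ fr : Frame (uForm n hF) (PM (n / 2)), finrank F fr.V0 = n % 2 := by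
  obtain ⟨k, ⟨fr⟩⟩ := exists_frame (uForm_nondeg n hF)
  have h1 := fr.finrank_V0 (uForm_nondeg n hF)
  have h3 := fr.finrank_V0_lt (fr.V0_nondeg (uForm_nondeg n hF)).unit_exists_singular
  simp only [PM.card, finrank_fintype_fun_eq_card, Fintype.card_fin] at h1
  obtain rfl : k = n / 2 := by omega
  exact ⟨fr, by omega⟩

omit [Fintype F] in
/-- the group `Ω` inside the isometry group -/
noncomputable def omegaHom {ι : Type} [Fintype ι] [DecidableEq ι] (f : Form (Param.orth F) (ι → F)) :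
    Omega F f.Q →* f.Isom :=
  (commutator f.Isom).subtype.comp (commutatorEquiv (orthEquiv f)).toMonoidHom

omit [Fintype F] in
theorem omegaHom_injective {ι : Type} [Fintype ι] [DecidableEq ι]
    (f : Form (Param.orth F) (ι → F)) : Function.Injective (omegaHom f) :=
  Subtype.val_injective.comp (commutatorEquiv (orthEquiv f)).injective

omit [Fintype F] in
theorem omegaHom_range {ι : Type} [Fintype ι] [DecidableEq ι] (f : Form (Param.orth F) (ι → F)) :
    (omegaHom f).range = commutator f.Isom := by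
  rw [omegaHom, MonoidHom.range_comp, MonoidHom.range_eq_top.2 (commutatorEquiv _).surjective,
    ← MonoidHom.range_eq_map, range_subtype]

theorem suHom_injective {q : ℕ} (hF : Fintype.card F = q ^ 2) (n : ℕ) :
    Function.Injective (suHom n hF) :=
  Subtype.val_injective.comp (suEquiv n hF).injective

theorem suHom_range {q : ℕ} (hF : Fintype.card F = q ^ 2) (n : ℕ) :
    (suHom n hF).range = (uForm n hF).SIsom := by
  ext g
  exact ⟨fun ⟨x, hx⟩ => hx ▸ (suEquiv n hF x).2,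
    fun h => let ⟨x, hx⟩ := (suEquiv n hF).surjective ⟨g, h⟩; ⟨x, congrArg Subtype.val hx⟩⟩

omit [Fintype F] in
theorem orth_hZ (f : Form (Param.orth F) V) (l : F) (h : f.IsLam 0 l) :
    ∃ a, l = a - (Param.orth F).ε * (Param.orth F).σ a :=
  ⟨0, by simpa [f.Q_zero] using f.orth_isLam_iff.1 h⟩

omit [Fintype F] in
theorem unit_hZ {σ : F →+* F} {hσ : ∀ a, σ (σ a) = a} (f : Form (Param.unit σ hσ) V)
    (hs : ∃ a, σ a ≠ a) (l : F) (h : f.IsLam 0 l) :
    ∃ a, l = a - (Param.unit σ hσ).ε * (Param.unit σ hσ).σ a := by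
  obtain ⟨a, ha⟩ := hs
  have h0 := sub_ne_zero.mpr ha
  have h1 : a - σ a ≠ 0 := sub_ne_zero.mpr ha.symm
  have h2 : σ l = -l := by
    have := f.unit_isLam_iff.1 h
    rw [B_zero_left] at this
    linear_combination this
  refine ⟨l / (a - σ a) * a, ?_⟩
  simp only [Param.unit_ε, Param.unit_σ, map_mul, map_div₀, map_sub, hσ, h2]
  field_simp
  ring

theorem unit_exists_lam {q : ℕ} {hF : Fintype.card F = q ^ 2} (f : Form (uP hF) V) {v : V}
    (hv : f.B v v ≠ 0) (l : F) : ∃ a : F, f.IsLam (a • v) l := by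
  have h1 : frobq hF (f.B v v) = f.B v v := (f.unit_symm v v).symm
  obtain ⟨a, ha⟩ := exists_norm_eq hF (c := (l + frobq hF l) / f.B v v)
    (by rw [map_div₀, map_add, frobq_frobq, h1, add_comm])
  refine ⟨a, f.unit_isLam_iff.2 ?_⟩
  rw [B_smul_left, unit_B_smul_right, ← mul_assoc, ha, div_mul_cancel₀ _ hv]

theorem Frame.exists_torus_odd {q : ℕ} {hF : Fintype.card F = q ^ 2} {f : Form (uP hF) V}
    [Finite I] (fr : Frame f I) (i : I) {v : V} (hv : v ∈ fr.V0) (hB : f.B v v ≠ 0) {t : F}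
    (ht : t ≠ 0) : ∃ h ∈ fr.RC i ⊔ fr.RC (-i), (∀ k, fr.Mv h k k) ∧
      h.1 (fr.e i) = t • fr.e i ∧ h.1 v = (frobq hF t / t) • v := by
  obtain ⟨a, ha⟩ := unit_exists_lam f hB t
  obtain ⟨b, hb⟩ := unit_exists_lam f hB 1
  obtain ⟨h, h1, h2, h3, h4⟩ := fr.exists_torus_of i (Submodule.smul_mem _ a hv)
    (Submodule.smul_mem _ b hv) ha hb ht one_ne_zero
  have key : ∀ {a l : F}, l ≠ 0 → f.IsLam (a • v) l →
      v - (f.B v (a • v) * l⁻¹) • a • v = (-(frobq hF l / l)) • v := fun {a l} l0 h => by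
    have := f.unit_isLam_iff.1 h
    rw [B_smul_left] at this
    match_scalars
    field_simp
    linear_combination this
  refine ⟨h, h1, h2, by simpa using h3, ?_⟩
  have := h4 v hv
  rw [key one_ne_zero hb, key ht ha] at this
  simpa using this

omit [Fintype F] in
theorem span_of_closure [Finite F] {T : Set F} (h1 : 1 ∈ T) (hm : ∀ a ∈ T, ∀ b ∈ T, a * b ∈ T)
    (hT : Subfield.closure T = ⊤) (A : AddSubgroup F) (d : F) (hd : d ≠ 0)
    (h : ∀ s ∈ T, d * s ∈ A) (t : F) : t ∈ A := by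
  have := Fintype.ofFinite F
  let A' := AddSubgroup.closure {x : F | ∃ c ∈ T, x = d * c}
  have h2 : ∀ l ∈ Subfield.closure T, ∀ a ∈ A', l * a ∈ A' := by
    intro l hl
    induction hl using Subfield.closure_induction with
    | mem l hl =>
      refine (AddSubgroup.closure_le (A'.comap (AddMonoidHom.mulLeft l))).2 ?_
      rintro _ ⟨c, hc, rfl⟩
      exact AddSubgroup.subset_closure ⟨l * c, hm _ hl _ hc, mul_left_comm _ _ _⟩
    | one => simp
    | add x y _ _ hx hy => intro a ha; rw [add_mul]; exact add_mem (hx a ha) (hy a ha)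
    | neg x _ hx => intro a ha; rw [neg_mul]; exact neg_mem (hx a ha)
    | mul x y _ _ hx hy => intro a ha; rw [mul_assoc]; exact hx _ (hy a ha)
    | inv x _ hx =>
      by_cases h0 : x = 0
      · simp [h0]
      have hp : ∀ n : ℕ, ∀ a ∈ A', x ^ n * a ∈ A' := fun n => by
        induction n with
        | zero => simp
        | succ n ih => intro a ha; rw [pow_succ, mul_assoc]; exact ih _ (hx a ha)
      have : x⁻¹ = x ^ (Fintype.card F - 2) := by
        rw [inv_eq_iff_eq_inv, eq_comm, inv_eq_iff_eq_inv]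
        refine eq_inv_of_mul_eq_one_left ?_
        rw [← pow_succ, ← FiniteField.pow_card_sub_one_eq_one x h0]
        congr 1
        have : 1 < Fintype.card F := Fintype.one_lt_card
        omega
      rw [this]; exact hp _
  have := h2 (t / d) (hT ▸ Subfield.mem_top _) d (AddSubgroup.subset_closure ⟨1, h1, by simp⟩)
  rw [div_mul_cancel₀ _ hd] at this
  exact (AddSubgroup.closure_le A).2 (by rintro _ ⟨c, hc, rfl⟩; exact h c hc) this

omit [Fintype F] in
theorem span_cube [Finite F] (h4 : Nat.card F ≠ 4) (A : AddSubgroup F) (d : F) (hd : d ≠ 0)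
    (h : ∀ s : F, s ≠ 0 → d * s ^ 3 ∈ A) (t : F) : t ∈ A :=
  span_of_closure (T := {c | ∃ a, c = a ^ 3}) ⟨1, by simp⟩ (by rintro _ ⟨a, rfl⟩ _ ⟨b, rfl⟩; exact ⟨a * b, by ring⟩)
    (SLn.closure_cubes h4) A d hd (by
      rintro _ ⟨s, rfl⟩
      by_cases e : s = 0
      · simp [e]
      · exact h s e) t

theorem frob_sq_div {q : ℕ} (hF : Fintype.card F = q ^ 2) {t : F} (ht : t ≠ 0) :
    (frobq hF t * (frobq hF t / t)) ^ (2 * q + 1) = t ^ 3 := by
  have h1 : frobq hF t ^ q = t := frobq_frobq hF t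
  have h2 : t ^ q = frobq hF t := rfl
  have : frobq hF t ≠ 0 := (uP hF).σ_ne_zero ht
  rw [pow_succ, mul_comm 2, pow_mul, mul_pow, div_pow, h1, h2]
  field_simp

theorem Frame.twoG_three {q : ℕ} {hF : Fintype.card F = q ^ 2} {f : Form (uP hF) V} [Finite I]
    (fr : Frame f I) (hq : q ≠ 2) {i : I} (hT : ∀ a, a = i ∨ a = -i) {v : V} (hv : v ∈ fr.V0)
    (hB : f.B v v ≠ 0) (hV : ∀ u ∈ fr.V0, ∃ c : F, u = c • v) : fr.TwoG := by
  have := two_le_q hF
  have h9 : 9 ≤ Nat.card F := by rw [Nat.card_eq_fintype_card, hF]; nlinarith [show 3 ≤ q by omega]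
  obtain ⟨l, hl⟩ := f.exists_isLam v
  obtain ⟨w, wE, cox, -⟩ := fr.exists_cox_C (q := fun _ => i) (m := 0) (by simp [Indep]) hv hl
    fun e => hB (by simp [← hl.2, e])
  obtain ⟨ζ, ζ0, hζ⟩ := exists_pow_eq (F := F)
  obtain ⟨h, h1, h2, h3, h4⟩ := fr.exists_torus_odd i hv hB ζ0
  have s0 := (uP hF).σ_ne_zero ζ0
  refine fr.twoG_C cox wE (fun a => ⟨0, le_rfl, hT a⟩) (unit_hZ f (frobq_ne hF)) hv hB hV
    (sup_le (fr.RC_le_EG _) (fr.RC_le_EG _) h1) h2 h3 h4 (fr.apply_neg h3 (h2 _)) (fun e => ?_)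
    (fun e => ?_) fun A d hd h => span_cube (by omega) A d hd fun s hs => ?_
  · refine gen_pow_ne hζ three_pos (by omega) ?_
    rw [← frob_sq_div hF ζ0, show frobq hF ζ * (frobq hF ζ / ζ) = 1 from e, one_pow]
  · refine gen_pow_ne hζ (k := q - 2) (by omega)
      (by rw [Nat.card_eq_fintype_card, hF]; nlinarith [Nat.sub_le q 2]) ?_
    rw [map_inv₀, (uP hF).σσ, frobq_apply] at e
    rw [pow_sub₀ _ ζ0 this, ← e]
    field_simp
  · obtain ⟨n, rfl⟩ := hζ s hs
    rw [← pow_mul, mul_comm n, pow_mul, ← frob_sq_div hF ζ0, ← pow_mul]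
    exact h _

end Cfsg.Agent.Cls
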