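import Cfsg.Agent.Lib.Cls.Levi
import Cfsg.Agent.Lib.Forms.Center
import Cfsg.Agent.Lib.Deg.TvGen

/-!
Existence of frames.
-/

set_option autoImplicit false

namespace Cfsg.Agent.Cls

open Forms Forms.Form Module Subgroup

universe u

/-- the standard index set of a frame -/
structure PM (m : ℕ) : Type where
  idx : Fin m
  sgn : Bool

namespace PM

variable {m : ℕ}

instance instInvolutiveNegPM : InvolutiveNeg (PM m) where
  neg x := ⟨x.1, !x.2⟩
  neg_neg x := by cases x; simp

/-- the underlying product -/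
def equiv (m : ℕ) : Fin m × Bool ≃ PM m where
  toFun x := ⟨x.1, x.2⟩
  invFun x := (x.1, x.2)

instance instFintypePM : Fintype (PM m) := Fintype.ofEquiv _ (equiv m)

instance instDecidableEqPM : DecidableEq (PM m) := (equiv m).symm.decidableEq

@[simp] theorem neg_mk (a : Fin m) (s : Bool) : -(⟨a, s⟩ : PM m) = ⟨a, !s⟩ := rfl

theorem card : Fintype.card (PM m) = 2 * m := by
  rw [← Fintype.card_congr (equiv m)]
  simp [mul_comm]

theorem neg_ne (i : PM m) : -i ≠ i := by cases i; simp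

/-- the positive indices -/
def pos (m : ℕ) : Set (PM m) := {i | i.2 = true}

theorem pos1 : ∀ i ∈ pos m, -i ∉ pos m := fun ⟨a, s⟩ hi => by simp_all [pos]

theorem pos2 : ∀ i, i ∈ pos m ∨ -i ∈ pos m := fun ⟨a, s⟩ => by simp [pos]

theorem pos_eq : pos m = Set.range fun a : Fin m => (⟨a, true⟩ : PM m) := by
  ext ⟨a, b⟩
  cases b <;> simp [pos]

theorem ncard_pos : (pos m).ncard = m := by
  rw [pos_eq, Set.ncard_range_of_injective fun a b h => by simpa using h]; simp

theorem exists_ne (T : Finset (PM m)) (h : T.card < m) : ∃ l : PM m, l ∈ pos m ∧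
    ∀ i ∈ T, l ≠ i ∧ l ≠ -i := by
  obtain ⟨a, ha⟩ : ∃ a : Fin m, a ∉ T.image PM.idx := by
    by_contra hc
    push Not at hc
    have h1 := Finset.card_le_card (s := Finset.univ) fun a _ => hc a
    have h2 := Finset.card_image_le (s := T) (f := PM.idx)
    rw [Finset.card_univ, Fintype.card_fin] at h1
    exact absurd (h1.trans h2) (by omega)
  exact ⟨⟨a, true⟩, rfl, fun i hi => ⟨fun e => ha (Finset.mem_image.2 ⟨i, hi, by rw [← e]⟩),
    fun e => ha (Finset.mem_image.2 ⟨i, hi, (congrArg PM.idx e).symm⟩)⟩⟩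

end PM

variable {F : Type*} [Field F] {P : Param F}

theorem exists_frame_aux (n : ℕ) : ∀ (V : Type u) [AddCommGroup V] [Module F V]
    [FiniteDimensional F V] (f : Form P V), f.Nondeg → finrank F V = n →
    ∃ m, Nonempty (Frame f (PM m)) := by
  induction n using Nat.strong_induction_on with | _ n ih => ?_
  intro V _ _ _ f hf hn
  by_cases h : ∃ u, u ≠ 0 ∧ f.Q u = 0
  swap
  · push Not at h
    exact ⟨0, ⟨⟨fun i => i.1.elim0, PM.neg_ne, fun i => i.1.elim0, fun i => i.1.elim0,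
      fun i => i.1.elim0, fun v _ hv => by_contra fun e => h v e hv⟩⟩⟩
  obtain ⟨u, u0, hu⟩ := h
  obtain ⟨e, he⟩ := hf.exists_hypPair hu u0
  have := he.finrank_orth hf
  obtain ⟨m, ⟨fr⟩⟩ := ih _ (by omega) _ _ (he.restrict_orth_nondeg hf) rfl
  have h1 := fun i => mem_orth_pair.1 (fr.e i).2
  refine ⟨m + 1, ⟨⟨fun i => (Fin.cons (if i.2 then u else e) fun a => fr.e ⟨a, i.2⟩ :
    Fin (m + 1) → V) i.1, PM.neg_ne, ?_, ?_, ?_, fun v hv hQ => ?_⟩⟩⟩
  · rintro ⟨a, s⟩
    refine Fin.cases ?_ (fun a => fr.Qe _) a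
    cases s
    exacts [he.Qe, hu]
  · rintro ⟨a, s⟩
    refine Fin.cases ?_ (fun a => fr.B_ne ⟨a, s⟩) a
    cases s <;> simp [he.Bue, he.Beu, P.ε_ne_zero]
  · rintro ⟨a, s⟩ ⟨b, t⟩
    refine Fin.cases ?_ (fun a => ?_) a <;> refine Fin.cases ?_ (fun b => ?_) b <;> intro hh
    · cases s <;> cases t <;> simp_all [he.Buu, he.Bee]
    · cases s <;> simp [f.B_eq_zero_symm (h1 _).1, f.B_eq_zero_symm (h1 _).2]
    · cases t <;> simp [h1]
    · exact fr.B_eq ⟨a, s⟩ ⟨b, t⟩ (by simpa using hh)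
  · have := fr.aniso ⟨v, mem_orth_pair.2 ⟨hv ⟨0, true⟩, hv ⟨0, false⟩⟩⟩
      (fun i => hv ⟨i.1.succ, i.2⟩) hQ
    exact congrArg Subtype.val this

variable {V : Type*} [AddCommGroup V] [Module F V] {f : Form P V} {I : Type*} [InvolutiveNeg I]

theorem exists_frame [FiniteDimensional F V] (hf : f.Nondeg) : ∃ m, Nonempty (Frame f (PM m)) :=
  exists_frame_aux _ V f hf rfl

namespace Frame

variable (fr : Frame f I)

theorem finrank_V0 [Fintype I] [FiniteDimensional F V] (hf : f.Nondeg) :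
    finrank F fr.V0 + Fintype.card I = finrank F V := by
  rw [← hf.finrank_add_orth (Submodule.span F (Set.range fr.e)), add_comm,
    finrank_span_eq_card (b := fr.e) (fr.linearIndependent Function.injective_id)]
  rfl

theorem exists_decomp [Fintype I] (w : V) : ∃ c : I → F, w - ∑ i, c i • fr.e i ∈ fr.V0 := by
  refine ⟨fun i => f.B w (fr.e (-i)) / f.B (fr.e i) (fr.e (-i)), fr.mem_V0.2 fun k => ?_⟩
  rw [B_sub_left, map_sum, LinearMap.sum_apply, Finset.sum_eq_single (-k), B_smul_left]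
  · simp only [neg_neg]; rw [div_mul_cancel₀ _ (fr.B_ne' k), sub_self]
  · intro b _ hb; rw [B_smul_left, fr.B_eq' hb, mul_zero]
  · simp

theorem V0_nondeg [Finite I] (hf : f.Nondeg) : (f.restrict fr.V0).Nondeg := by
  intro x hx
  have := Fintype.ofFinite I
  refine Subtype.ext (hf _ fun y => ?_)
  obtain ⟨c, hc⟩ := fr.exists_decomp y
  have := hx ⟨_, hc⟩
  simpa [fr.mem_V0.1 x.2, LinearMap.map_smulₛₗ] using this

theorem V0_aniso (v : fr.V0) (h : (f.restrict fr.V0).Q v = 0) : v = 0 :=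
  Subtype.ext (fr.aniso v (fr.mem_V0.1 v.2) h)

end Frame

theorem exists_frame_sp [FiniteDimensional F V] {f : Form (Param.sp F) V} (hf : f.Nondeg) {m : ℕ}
    (h : finrank F V = 2 * m) : Nonempty (Frame f (PM m)) := by
  obtain ⟨k, ⟨fr⟩⟩ := exists_frame hf
  have h1 := fr.finrank_V0 hf
  have : fr.V0 = ⊥ := eq_bot_iff.2 fun v hv => fr.aniso v (fr.mem_V0.1 hv) (f.sp_Q v)
  rw [this, finrank_bot, PM.card] at h1
  obtain rfl : k = m := by omega
  exact ⟨fr⟩

theorem Frame.sp_EG [FiniteDimensional F V] {f : Form (Param.sp F) V} (fr : Frame f I)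
    (hf : f.Nondeg) : fr.EG = ⊤ :=
  Deg.HasTr.sp_eq_top hf fun _ _ _ _ => fr.eichler_mem_EG _ _ _ _ _ _

/-- a group of scalar transformations is cyclic -/
theorem isCyclic_of_scalar [Finite F] {G : Type*} [Group G] (j : G →* f.Isom)
    (hj : Function.Injective j) {u : V} (hu : u ≠ 0) (H : Subgroup G)
    (h : ∀ z ∈ H, ∃ c : F, ∀ v, (j z).1 v = c • v) : IsCyclic H := by
  choose c hc using h
  have c1 : ∀ {a b : F}, a • u = b • u → a = b := fun h => smul_left_injective F hu h
  let χ : H →* F :=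
    { toFun := fun z => c z.1 z.2
      map_one' := c1 (by rw [← hc]; simp)
      map_mul' := fun a b => c1 (by
        rw [← hc, mul_smul, ← hc, ← hc, coe_mul, map_mul, Isom.mul_apply]) }
  have inj : Function.Injective χ := fun a b e => Subtype.ext (hj (Isom.ext fun v => by
    rw [hc _ a.2, hc _ b.2]
    exact congrArg (· • v) e))
  have := Finite.of_injective _ inj
  exact isCyclic_of_injective_ringHom χ inj

end Cfsg.Agent.Cls
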