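import Cfsg.Agent.Lib.Cls.SpPres
import Cfsg.Agent.Lib.Cls.Frames

/-!
Coxeter elements and generation lemmas.
-/

set_option autoImplicit false

namespace Cfsg.Agent.Cls

open Forms Forms.Form Subgroup
open scoped commutatorElement

variable {F : Type*} [Field F] {P : Param F} {V : Type*} [AddCommGroup V] [Module F V]
  {f : Form P V} {I : Type*} [InvolutiveNeg I]

theorem IsE.unique {g : f.Isom} {u e v v' : V} {l l' : F} (he : f.B u e ≠ 0) (hQ : f.Q e = 0)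
    (h1 : f.B v e = 0) (h2 : f.B v' e = 0) (h : IsE g u v l) (h' : IsE g u v' l') :
    v = v' ∧ l = l' := by
  have he' : f.B e u ≠ 0 := fun h => he (f.B_eq_zero_symm h)
  have a := (h.app e).symm.trans (h'.app e)
  rw [f.B_eq_zero_symm h1, f.B_eq_zero_symm h2] at a
  have b := congrArg (fun x => f.B x e) a
  simp only [B_sub_left, B_add_left, B_smul_left, h1, h2, f.B_self_of_Q hQ] at b
  have c : l = l' := by simpa [he, he', P.ε_ne_zero] using b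
  exact ⟨by simpa [c, he'] using a, c⟩

/-- the indices of a cycle -/
def cyc (q : ℕ → I) (m : ℕ) : Set I := {a | ∃ t ≤ m, a = q t ∨ a = -q t}

theorem mem_cyc {q : ℕ → I} {m t : ℕ} (h : t ≤ m) : q t ∈ cyc q m := ⟨t, h, .inl rfl⟩

theorem neg_mem_cyc {q : ℕ → I} {m : ℕ} {a : I} (h : a ∈ cyc q m) : -a ∈ cyc q m := by
  obtain ⟨t, ht, rfl | rfl⟩ := h
  exacts [⟨t, ht, .inr rfl⟩, ⟨t, ht, .inl (neg_neg _)⟩]

/-- independent indices -/
def Indep (q : ℕ → I) (m : ℕ) : Prop := ∀ a ≤ m, ∀ b ≤ m, a ≠ b → q a ≠ q b ∧ q a ≠ -q b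

namespace Frame

variable (fr : Frame f I)

theorem Levi_le_EG (S : Set I) : fr.Levi S ≤ fr.EG :=
  fr.Levi_le fun _ _ _ _ _ _ hg => fr.RS_le_EG _ _ hg

theorem Levi_apply {S : Set I} {g : f.Isom} (hg : g ∈ fr.Levi S) {v : V}
    (hv : ∀ a ∈ S, f.B v (fr.e a) = 0 ∧ f.B v (fr.e (-a)) = 0) : g.1 v = v :=
  (fr.Levi_le (N := MulAction.stabilizer _ v |>.comap f.Isom.subtype) fun a ha b hb _ _ ⟨c, hx⟩ =>
    hx.apply_of_orth (hv a ha).1 (by rw [B_smul_right, (hv b hb).2, mul_zero])) hg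

theorem exists_W2_of [Finite I] (i : I) {v : V} {l : F} (hv : v ∈ fr.V0) (hl : f.IsLam v l)
    (l0 : l ≠ 0) : ∃ r ∈ fr.RC i ⊔ fr.RC (-i), r ∈ fr.Mon ∧
      r.1 (fr.e (-i)) = (-(P.ε * l * f.B (fr.e (-i)) (fr.e i))) • fr.e i ∧
      r.1 (fr.e i) = (-(P.σ l * f.B (fr.e (-i)) (fr.e i))⁻¹) • fr.e (-i) ∧
      ∀ w ∈ fr.V0, r.1 w = w - (f.B w v * l⁻¹) • v := by
  obtain ⟨a1, a2⟩ := fr.isLam_W2 (i := i) hl l0
  obtain ⟨x, hx⟩ := exists_isE (fr.Qe i) (fr.mem_V0.1 hv i) hl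
  obtain ⟨z, hz⟩ := exists_isE (fr.Qe (-i)) (fr.mem_V0.1 (Submodule.smul_mem _ _ hv) _) a1
  obtain ⟨z', hz'⟩ := exists_isE (fr.Qe (-i)) (fr.mem_V0.1 (Submodule.smul_mem _ _ hv) _) a2
  obtain ⟨b1, b2, b3⟩ := fr.W2_apply hv l0 hx hz hz'
  have c1 : z ∈ fr.RC (-i) := ⟨_, Submodule.smul_mem _ _ hv, _, hz⟩
  have c2 : z' ∈ fr.RC (-i) := ⟨_, Submodule.smul_mem _ _ hv, _, hz'⟩
  exact ⟨_, mul_mem (mul_mem (mem_sup_right c1) (mem_sup_left ⟨v, hv, l, hx⟩)) (mem_sup_right c2),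
    fr.mon_of_W1 ⟨_, b2⟩ ⟨_, b1⟩ ⟨_, b2⟩ ⟨_, b1⟩ fun k k1 k2 _ _ =>
      fr.W2_fix ⟨v, hv, l, hx⟩ c1 c2 k1 k2, b1, b2, b3⟩

theorem exists_cycle [Finite I] {q : ℕ → I} {m : ℕ} (hq : Indep q m) :
    ∃ u ∈ fr.Levi (cyc q m), u ∈ fr.Mon ∧ (∀ a < m, fr.Mv u (q a) (q (a + 1))) ∧
      fr.Mv u (q m) (q 0) := by
  induction m with
  | zero => exact ⟨1, one_mem _, one_mem _, by simp, .one⟩
  | succ m ih =>
    obtain ⟨u, u1, u2, u3, u4⟩ := ih fun a ha b hb => hq a (by omega) b (by omega)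
    obtain ⟨g, g1, g2, g3, g4, g5⟩ := fr.exists_swap (mem_cyc (q := q) (Nat.zero_le (m + 1)))
      (mem_cyc le_rfl) (hq _ le_rfl _ (by omega) (by omega)).2
    refine ⟨g * u, mul_mem g1 (fr.Levi_mono (fun _ h => h.imp fun _ e => ⟨by omega, e.2⟩) u1),
      mul_mem g2 u2, fun a ha => ?_, g4.mul (.of_eq (fr.Levi_apply u1 ?_))⟩
    · by_cases e : a = m
      · exact e ▸ g3.mul u4
      have b1 := hq (a + 1) (by omega) 0 (by omega) (by omega)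
      have b2 := hq (a + 1) (by omega) (m + 1) (by omega) (by omega)
      exact (Mv.of_eq (g5 _ b1.1 b1.2 b2.1 b2.2)).mul (u3 a (by omega))
    · rintro a ⟨t, ht, rfl | rfl⟩ <;> have b := hq (m + 1) le_rfl t (by omega) (by omega)
      · exact ⟨fr.B_eq' b.2, fr.B_neg b.1⟩
      · exact ⟨fr.B_neg b.1, fr.B_neg b.2⟩

/-- a Coxeter element -/
structure Cox (q : ℕ → I) (m : ℕ) (w : f.Isom) : Prop where
  ne : Indep q m
  mon : w ∈ fr.Mon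
  mv : ∀ a < m, fr.Mv w (q a) (q (a + 1))
  last : fr.Mv w (q m) (-q 0)

theorem exists_cox [Finite I] {q : ℕ → I} {m : ℕ} (hq : Indep q m) {n : f.Isom} (n1 : n ∈ fr.EG)
    (n2 : n ∈ fr.Mon) (n3 : fr.Mv n (q 0) (-q 0)) (n4 : ∀ a, 0 < a → a ≤ m → fr.Mv n (q a) (q a)) :
    ∃ w ∈ fr.EG, fr.Cox q m w ∧ ∀ v, (∀ a ∈ cyc q m, f.B v (fr.e a) = 0) → w.1 v = n.1 v := by
  obtain ⟨u, u1, u2, u3, u4⟩ := fr.exists_cycle hq
  refine ⟨n * u, mul_mem n1 (fr.Levi_le_EG _ u1), ⟨hq, mul_mem n2 u2,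
    fun a ha => (n4 _ (by omega) (by omega)).mul (u3 a ha), n3.mul u4⟩, fun v hv => ?_⟩
  rw [Isom.mul_apply, fr.Levi_apply u1 fun a ha => ⟨hv a ha, hv _ (neg_mem_cyc ha)⟩]

variable {fr}

theorem Mv.conj_apply {w h : f.Isom} {a b : I} {t : F} (hw : fr.Mv w a b)
    (hh : h.1 (fr.e a) = t • fr.e a) : (w * h * w⁻¹).1 (fr.e b) = t • fr.e b := by
  obtain ⟨c, hc⟩ := hw.inv
  rw [Isom.mul_apply, Isom.mul_apply, hc, map_smul, hh, smul_comm, ← hc, map_smul, Isom.apply_inv]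

theorem conj_diag {w h : f.Isom} (hw : w ∈ fr.Mon) (hh : ∀ k, fr.Mv h k k) (k : I) :
    fr.Mv (w * h * w⁻¹) k k :=
  let ⟨a, ha⟩ := hw.2 k; (ha.mul (hh a)).mul ha.inv

theorem RS_le_of_conj {H : Subgroup f.Isom} {w : f.Isom} (hw : w ∈ H) {a b a' b' : I}
    (h1 : fr.Mv w a a') (h2 : fr.Mv w b b') (h : fr.RS a b ≤ H) : fr.RS a' b' ≤ H := fun x hx => by
  simpa [mul_assoc] using H.mul_mem (H.mul_mem hw (h (h1.inv.conj_RA h2.inv hx))) (H.inv_mem hw)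

theorem RC_le_of_conj {H : Subgroup f.Isom} {w : f.Isom} (hw : w ∈ H) (hM : w ∈ fr.Mon) {a a' : I}
    (h1 : fr.Mv w a a') (h : fr.RC a ≤ H) : fr.RC a' ≤ H := fun x hx => by
  simpa [mul_assoc] using H.mul_mem (H.mul_mem hw (h (h1.inv.conj_RC (inv_mem hM) hx)))
    (H.inv_mem hw)

theorem RS_le_trans {H : Subgroup f.Isom} {a b l : I} (h1 : l ≠ a) (h2 : l ≠ -a) (h3 : l ≠ b)
    (h4 : l ≠ -b) (h5 : b ≠ -a) (e1 : fr.RS a l ≤ H) (e2 : fr.RS (-l) b ≤ H) : fr.RS a b ≤ H := by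
  intro s hs
  obtain ⟨x, hx, y, hy, rfl⟩ := fr.exists_comm_A h1 h2 h3 h4 h5 hs
  exact H.mul_mem (H.mul_mem (H.mul_mem (e1 hx) (e2 hy)) (H.inv_mem (e1 hx))) (H.inv_mem (e2 hy))

namespace Cox

variable {q : ℕ → I} {m : ℕ} {w : f.Isom} (h : fr.Cox q m w)
include h

theorem ind {p : I → Prop} (h0 : p (q 0)) (hs : ∀ a b, fr.Mv w a b → p a → p b) :
    ∀ a ∈ cyc q m, p a := by
  have h1 : ∀ t ≤ m, p (q t) := fun t ht => by
    induction t with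
    | zero => exact h0
    | succ t ih => exact hs _ _ (h.mv t (by omega)) (ih (by omega))
  have h2 : ∀ t ≤ m, p (-q t) := fun t ht => by
    induction t with
    | zero => exact hs _ _ h.last (h1 m le_rfl)
    | succ t ih => exact hs _ _ ((h.mv t (by omega)).neg' h.mon) (ih (by omega))
  rintro a ⟨t, ht, rfl | rfl⟩
  exacts [h1 t ht, h2 t ht]

theorem mem {a b : I} (ha : a ∈ cyc q m) (e : fr.Mv w a b) : b ∈ cyc q m := by
  have : ∀ t ≤ m, ∀ b, fr.Mv w (q t) b → b ∈ cyc q m := fun t ht b e => by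
    by_cases c : t = m
    · exact (c ▸ h.last).unique e ▸ neg_mem_cyc (mem_cyc (Nat.zero_le _))
    · exact (h.mv t (by omega)).unique e ▸ mem_cyc (by omega)
  obtain ⟨t, ht, rfl | rfl⟩ := ha
  · exact this t ht b e
  · exact neg_neg b ▸ neg_mem_cyc (this t ht _ (by simpa using e.neg' h.mon))

theorem exists_mv : ∀ b ∈ cyc q m, ∃ a ∈ cyc q m, fr.Mv w a b := fun b hb =>
  (h.ind (p := fun b => b ∈ cyc q m ∧ ∃ a ∈ cyc q m, fr.Mv w a b)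
    ⟨mem_cyc (Nat.zero_le _), _, neg_mem_cyc (mem_cyc le_rfl), by simpa using h.last.neg' h.mon⟩
    (fun a _ e ha => ⟨h.mem ha.1 e, a, ha.1, e⟩) b hb).2

theorem RC_le {H : Subgroup f.Isom} (hw : w ∈ H) (h0 : fr.RC (q 0) ≤ H) :
    ∀ a ∈ cyc q m, fr.RC a ≤ H :=
  h.ind h0 fun _ _ e => RC_le_of_conj hw h.mon e

theorem RS_le {H : Subgroup f.Isom} (hw : w ∈ H) (hm : 1 ≤ m) (h0 : fr.RS (q 0) (-q 1) ≤ H) :
    ∀ a ∈ cyc q m, ∀ b ∈ cyc q m, b ≠ a → b ≠ -a → fr.RS a b ≤ H := by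
  have s1 : ∀ t < m, fr.RS (q t) (-q (t + 1)) ≤ H := fun t ht => by
    induction t with
    | zero => exact h0
    | succ t ih =>
      exact RS_le_of_conj hw (h.mv t (by omega)) ((h.mv _ ht).neg' h.mon) (ih (by omega))
  have s2 : fr.RS (q m) (q 0) ≤ H := by
    obtain ⟨m, rfl⟩ : ∃ k, m = k + 1 := ⟨m - 1, by omega⟩
    exact RS_le_of_conj hw (h.mv m (by omega)) (by simpa using h.last.neg' h.mon) (s1 m (by omega))
  have s3 : ∀ s t, s < t → t ≤ m → fr.RS (q s) (-q t) ≤ H := fun s t h1 h2 => by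
    induction t with
    | zero => omega
    | succ t ih =>
      by_cases e : s = t
      · exact e ▸ s1 s (by omega)
      have a := h.ne t (by omega) s (by omega) (by omega)
      have b := h.ne t (by omega) (t + 1) (by omega) (by omega)
      exact RS_le_trans (l := -q t) (neg_ne_of a.2) (neg_ne_neg_of a.1) (neg_ne_neg_of b.1)
        (neg_ne_neg_of b.2) (neg_ne_neg_of (h.ne _ h2 s (by omega) (by omega)).1)
        (ih (by omega) (by omega)) (by rw [neg_neg]; exact s1 t (by omega))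
  have s4 : ∀ s, 0 < s → s ≤ m → fr.RS (q s) (q 0) ≤ H := fun s h1 h2 => by
    by_cases e : s = m
    · exact e ▸ s2
    have a := h.ne m le_rfl s h2 (by omega)
    have b := h.ne m le_rfl 0 (by omega) (by omega)
    exact RS_le_trans (l := -q m) (neg_ne_of a.2) (neg_ne_neg_of a.1) (neg_ne_of b.2)
      (neg_ne_neg_of b.1) (h.ne 0 (by omega) s h2 (by omega)).2 (s3 s m (by omega) le_rfl)
      (by rwa [neg_neg])
  refine h.ind ?_ fun a a' e ha b' hb' h1 h2 => ?_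
  · rintro b ⟨t, ht, rfl | rfl⟩ h1 h2
    · exact fun x hx => s4 t (Nat.pos_of_ne_zero fun e => h1 (e ▸ rfl)) ht (fr.RA_swap h2 hx)
    · exact s3 0 t (Nat.pos_of_ne_zero fun e => h2 (e ▸ rfl)) ht
  · obtain ⟨b, hb, e'⟩ := h.exists_mv b' hb'
    exact RS_le_of_conj hw e e' (ha b hb (fun c => h1 (e'.unique (c ▸ e)))
      fun c => h2 (e'.unique (c ▸ e.neg' h.mon)))

end Cox

end Frame

/-- Steinberg's trick -/
theorem exists_trick {H N : Subgroup f.Isom} {h w y : f.Isom} (hh : h ∈ H) (hb : y * w ∈ H)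
    (hc : Commute h (w * h * w⁻¹)) (yN : y ∈ N) (hN : ∀ x ∈ N, h * x * h⁻¹ ∈ N)
    (hN' : ∀ x ∈ N, w * h * w⁻¹ * x * (w * h * w⁻¹)⁻¹ ∈ N) {e v : V} {l t ρ t' ρ' : F}
    (hQ : f.Q e = 0) (hy : IsE y e v l) (a1 : h.1 e = t • e) (a2 : h.1 v = ρ • v)
    (a3 : (w * h * w⁻¹).1 e = t' • e) (a4 : (w * h * w⁻¹).1 v = ρ' • v) (t0 : t ≠ 0) (t0' : t' ≠ 0)
    (b1 : P.σ t * ρ ≠ 1) (b2 : P.σ t' * ρ' ≠ 1)
    (hs : ∀ (A : AddSubgroup F) (d : F), d ≠ 0 → (∀ n : ℕ, d * (P.σ t * ρ) ^ n ∈ A) → ∀ c, c ∈ A)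
    (c : F) : ∃ g ∈ H ⊓ N, ∃ l, IsE g e (c • v) l := by
  let A : AddSubgroup F :=
    { carrier := {c | ∃ g ∈ H ⊓ N, ∃ l, IsE g e (c • v) l}
      zero_mem' := ⟨1, one_mem _, 0, by simpa using isE_one _⟩
      add_mem' := fun ⟨y, hy, _, a⟩ ⟨y', hy', _, a'⟩ => ⟨y * y', mul_mem hy hy', _,
        (a.mul hQ a').congr (add_smul _ _ _).symm rfl⟩
      neg_mem' := fun ⟨y, hy, _, a⟩ => ⟨y⁻¹, inv_mem hy, _, (a.inv hQ).congr (neg_smul _ _).symm rfl⟩ }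
  refine hs A ((P.σ t * ρ - 1) * (1 - P.σ t' * ρ'))
    (mul_ne_zero (sub_ne_zero.2 b1) (sub_ne_zero.2 b2.symm)) (fun n => ?_) c
  induction n with
  | zero =>
    set h' := w * h * w⁻¹ with hh'
    have c1 := hy.of_conj a1 t0
    have c2 := (c1.mul hQ (((c1.inv hQ).mul hQ hy).of_conj a3 t0')).mul hQ (hy.inv hQ)
    refine ⟨_, mem_inf.2 ⟨?_, mul_mem (mul_mem (hN y yN) (hN' _ (mul_mem (inv_mem (hN y yN)) yN)))
      (inv_mem yN)⟩, _, c2.congr ?_ rfl⟩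
    · have c3 : y * h' * y⁻¹ ∈ H := by
        convert mul_mem (mul_mem hb hh) (inv_mem hb) using 1; rw [hh']; group
      convert mul_mem (mul_mem (mul_mem hh c3) (inv_mem hh)) (inv_mem c3) using 1
      calc _ = h * y * (h⁻¹ * h' * h) * y⁻¹ * h⁻¹ * y * h'⁻¹ * y⁻¹ := by group
        _ = _ := by rw [mul_assoc h⁻¹, ← hc.eq]; group
    · simp only [map_add, map_neg, map_smul, a2, a4]; module
  | succ n ih =>
    obtain ⟨g, hg, l, a⟩ := ih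
    refine ⟨h * g * h⁻¹, ⟨H.mul_mem (H.mul_mem hh hg.1) (H.inv_mem hh), hN g hg.2⟩, _,
      (a.of_conj a1 t0).congr ?_ rfl⟩
    simp only [map_smul, a2]; module

theorem Frame.RS_le_of_trick (fr : Frame f I) {H : Subgroup f.Isom} {i j : I} (h1 : j ≠ i)
    (h : ∀ c : F, ∃ g ∈ H ⊓ fr.RS i j, ∃ l, IsE g (fr.e i) (c • fr.e j) l) : fr.RS i j ≤ H := by
  rintro x ⟨c, hx⟩
  obtain ⟨g, ⟨g1, d, g2⟩, l, g3⟩ := h c
  have := (g2.unique (fr.B_ne i) (fr.Qe _) (by rw [B_smul_left, fr.B_neg h1, mul_zero])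
    (by rw [B_smul_left, fr.B_neg h1, mul_zero]) g3).1
  exact g2.eq (this ▸ hx) ▸ g1

theorem mem_of_coprime {G : Type*} [Group G] {H : Subgroup G} {a b : G} (h : Commute a b)
    {m n : ℕ} (hmn : m.Coprime n) (ha : a ^ m = 1) (hb : b ^ n = 1) (hab : a * b ∈ H) :
    a ∈ H ∧ b ∈ H := by
  have : a ∈ H := by
    obtain ⟨k, h1, h2⟩ := Nat.chineseRemainder hmn 1 0
    have := H.pow_mem hab k
    rwa [h.mul_pow, pow_eq_pow_of_modEq h1 ha, pow_eq_pow_of_modEq h2 hb, pow_one, pow_zero,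
      mul_one] at this
  exact ⟨this, (H.mul_mem_cancel_left this).1 hab⟩

theorem Frame.absorb (fr : Frame f I) {H : Subgroup f.Isom} {i k : I} (h1 : k ≠ i) (h2 : k ≠ -i)
    (A1 : fr.RS k i ≤ H) (A2 : fr.RS k (-i) ≤ H) {c : f.Isom} {v : V} {l : F}
    (hc : IsE c (fr.e i) v l) (v1 : f.B v (fr.e (-i)) = 0) (v2 : f.B v (fr.e k) = 0)
    (hy : ∀ y ∈ fr.RA k (-i), c * y * c⁻¹ ∈ H) (a : F) :
    ∃ g ∈ H, IsE g (fr.e k) (a • v) (a * P.σ a * l) := by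
  have β0 := fr.B_ne' i
  have e0 := f.symm (fr.e (-i)) (fr.e i)
  set β := f.B (fr.e (-i)) (fr.e i) with hβ
  obtain ⟨y, hy1⟩ := fr.exists_RA (neg_ne_neg_of h1.symm) (a / β)
  obtain ⟨z, hz⟩ := fr.exists_RA (ne_neg_swap h2) (a * P.ε * l)
  have e1 : c.1 (fr.e k) = fr.e k := hc.apply_of_orth (fr.B_eq' h2) (f.B_eq_zero_symm v2)
  have e2 := hy1.conj c
  rw [e1, map_smul, hc.app, f.B_eq_zero_symm v1, ← hβ] at e2
  refine ⟨_, mul_mem (mul_mem (inv_mem (A2 ⟨_, hy1⟩)) (hy y ⟨_, hy1⟩)) (A1 ⟨_, hz⟩),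
    (((hy1.inv (fr.Qe k)).mul (fr.Qe k) e2).mul (fr.Qe k) hz).congr ?_ ?_⟩
  · match_scalars <;> field_simp <;> ring
  · have := P.σ_ne_zero β0
    simp only [B_add_left, B_add_right, B_sub_left, B_sub_right, B_smul_left, B_smul_right,
      B_neg_right, f.B_self_of_Q (fr.Qe _), v1, f.B_eq_zero_symm hc.orth, e0, map_div₀, map_zero,
      map_mul, ← hβ, P.σε]
    rcases P.ε_eq with e | e <;> simp only [e] <;> field_simp <;> ring

theorem Frame.spread (fr : Frame f I) {H : Subgroup f.Isom} {T : Set I} (hT : ∀ a ∈ T, -a ∈ T)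
    (hT' : ∀ a ∈ T, ∃ b ∈ T, b ≠ a ∧ b ≠ -a)
    (hA : ∀ a ∈ T, ∀ b ∈ T, b ≠ a → b ≠ -a → fr.RS a b ≤ H) {i : I} (hi : i ∈ T) {c : f.Isom}
    {v : V} {l : F} (hc : IsE c (fr.e i) v l) (hv : ∀ a ∈ T, f.B v (fr.e a) = 0) (cH : c ∈ H)
    {k : I} (hk : k ∈ T) (a : F) : ∃ g ∈ H, IsE g (fr.e k) (a • v) (a * P.σ a * l) := by
  have key : ∀ i ∈ T, ∀ k ∈ T, k ≠ i → k ≠ -i → ∀ c ∈ H, IsE c (fr.e i) v l →
      ∀ a, ∃ g ∈ H, IsE g (fr.e k) (a • v) (a * P.σ a * l) := fun i hi k hk h1 h2 c cH hc => by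
    have := hA k hk _ (hT i hi) (neg_ne_of (ne_neg_swap h2)) (neg_ne_neg_of h1.symm)
    exact fr.absorb h1 h2 (hA k hk i hi h1.symm (ne_neg_swap h2)) this hc (hv _ (hT i hi)) (hv k hk)
      fun y hy => H.mul_mem (H.mul_mem cH (this hy)) (H.inv_mem cH)
  by_cases e : k = i ∨ k = -i
  · obtain ⟨b, hb, b1, b2⟩ := hT' i hi
    obtain ⟨g, hg, g1⟩ := key i hi b hb b1 b2 c cH hc 1
    refine key b hb k hk ?_ ?_ g hg (by simpa using g1) a <;> rcases e with rfl | rfl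
    exacts [b1.symm, b2.symm, ne_neg_swap b2, neg_ne_neg_of b1.symm]
  · push Not at e
    exact key i hi k hk e.1 e.2 c cH hc a

end Cfsg.Agent.Cls
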