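import Cfsg.Agent.Lib.Cls.TwoGen2
import Cfsg.Agent.Lib.Forms.Orth

/-!
Identification of the group generated by the Eichler transformations.
-/

set_option autoImplicit false

namespace Cfsg.Agent.Cls

open Forms Forms.Form Subgroup Module
open scoped commutatorElement

variable {F : Type*} [Field F] {P : Param F} {V : Type*} [AddCommGroup V] [Module F V]
  {f : Form P V} {I : Type*} [InvolutiveNeg I]

namespace Frame

variable (fr : Frame f I) [Finite I] [Finite F] [FiniteDimensional F V]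

theorem exists_reduce (i : I) (g : f.Isom) : ∃ t ∈ fr.EG, t * g ∈ fr.Mon ∧
    (∀ v ∈ fr.V0, (t * g).1 v = v) ∧ ∀ k, k ≠ i → k ≠ -i → (t * g).1 (fr.e k) = fr.e k := by
  have h1 : ∀ S : Set V, S.Finite → S ⊆ fr.V0 → ∃ t ∈ fr.EG, t * g ∈ fr.Mon ∧
      ∀ v ∈ S, (t * g).1 v = v := by
    intro S hS
    induction S, hS using Set.Finite.induction_on with
    | empty => exact fun _ => let ⟨t, h1, h2⟩ := fr.exists_mon g; ⟨t, h1, h2, by simp⟩
    | @insert v S _ _ ih =>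
      intro hv
      obtain ⟨t, t1, t2, t3⟩ := ih ((Set.subset_insert _ _).trans hv)
      have v1 : v ∈ fr.V0 := hv (Set.mem_insert _ _)
      by_cases e : (t * g).1 v = v
      · exact ⟨t, t1, t2, by simpa only [Set.forall_mem_insert] using ⟨e, t3⟩⟩
      have v2 := fr.mem_V0_of_mon t2 v1
      have hl := isLam_sub (Isom.map_B (t * g) v v) (Isom.map_Q (t * g) v)
      have l0 : f.B ((t * g).1 v) ((t * g).1 v - v) ≠ 0 := fun h => e (sub_eq_zero.1
        (fr.aniso _ (fr.mem_V0.1 (sub_mem v2 v1)) (h ▸ hl).Q_eq_zero))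
      obtain ⟨r, r1, r2, -, -, r3⟩ := fr.exists_W2_of i (sub_mem v2 v1) hl l0
      refine ⟨r * t, mul_mem (sup_le (fr.RC_le_EG _) (fr.RC_le_EG _) r1) t1,
        by rw [mul_assoc]; exact mul_mem r2 t2, ?_⟩
      rintro u (rfl | hu) <;> rw [mul_assoc, Isom.mul_apply]
      · rw [r3 _ v2, mul_inv_cancel₀ l0]; simp
      · have := Isom.map_B (t * g) u v
        rw [t3 u hu] at this ⊢
        rw [r3 u (hv (Set.mem_insert_of_mem _ hu)), B_sub_right, this]; simp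
  have := Module.finite_of_finite F (M := V)
  obtain ⟨t₀, a1, a2, a3⟩ := h1 _ (Set.toFinite _) subset_rfl
  have h2 : ∀ T : Set I, (∀ k ∈ T, k ≠ i ∧ k ≠ -i) → ∃ t ∈ fr.EG, t * g ∈ fr.Mon ∧
      (∀ v ∈ fr.V0, (t * g).1 v = v) ∧ ∀ k ∈ T, (t * g).1 (fr.e k) = fr.e k := by
    intro T
    induction T, Set.toFinite T using Set.Finite.induction_on with
    | empty => exact fun _ => ⟨t₀, a1, a2, a3, by simp⟩
    | @insert r T hr _ ih =>
      intro hT
      obtain ⟨t, t1, t2, t3, t4⟩ := ih fun k hk => hT k (Set.mem_insert_of_mem _ hk)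
      obtain ⟨r1, r2⟩ := hT r (Set.mem_insert _ _)
      by_cases e : -r ∈ T
      · refine ⟨t, t1, t2, t3, ?_⟩
        rintro k (rfl | hk)
        · simpa using fr.apply_neg ((t4 _ e).trans (one_smul F _).symm)
            ((Mv.of_eq (t4 _ e)).neg' t2)
        · exact t4 k hk
      obtain ⟨j, hj⟩ := t2.1 r
      have j1 : ∀ k ∈ T, (k ≠ j ∧ k ≠ -j) ∧ k ≠ r ∧ k ≠ -r := fun k hk =>
        ⟨⟨by rintro rfl; exact hr (hj.inj (.of_eq (t4 k hk)) ▸ hk), by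
          rintro rfl; exact e ((hj.neg' t2).inj (.of_eq (t4 _ hk)) ▸ hk)⟩,
          fun h => hr (h ▸ hk), fun h => e (h ▸ hk)⟩
      have j2 := fun k hk => hT k (Set.mem_insert_of_mem _ hk)
      obtain ⟨s, s1, s2, ⟨c, s3⟩, s4⟩ : ∃ s ∈ fr.Levi Set.univ, s ∈ fr.Mon ∧ fr.Mv s j r ∧
          ∀ k ∈ T, s.1 (fr.e k) = fr.e k := by
        by_cases c : r = -j
        · obtain ⟨g, g0, g1, g2, -, g4⟩ := fr.exists_swap (S := Set.univ) (a := j) (b := i) trivial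
            trivial (c ▸ r1.symm)
          obtain ⟨g', h0, h1, h2, -, h4⟩ := fr.exists_swap (S := Set.univ) trivial trivial r2
          exact ⟨g' * g, mul_mem h0 g0, mul_mem h1 g1, h2.mul g2, fun k hk => by
            rw [Isom.mul_apply, g4 k (j1 k hk).1.1 (j1 k hk).1.2 (j2 k hk).1 (j2 k hk).2,
              h4 k (j2 k hk).1 (j2 k hk).2 (j1 k hk).2.1 (j1 k hk).2.2]⟩
        · obtain ⟨g, g0, g1, g2, -, g4⟩ := fr.exists_swap (S := Set.univ) trivial trivial c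
          exact ⟨g, g0, g1, g2, fun k hk =>
            g4 k (j1 k hk).1.1 (j1 k hk).1.2 (j1 k hk).2.1 (j1 k hk).2.2⟩
      obtain ⟨d, hd⟩ := hj
      have c0 := mul_ne_zero (fr.smul_ne_zero hd) (fr.smul_ne_zero s3)
      obtain ⟨h, h1, h2, -, h4, h5, -⟩ := fr.exists_torus_A r1.symm (ne_neg_swap r2) (inv_ne_zero c0)
      have h6 := mul_mem (h1 Set.univ trivial trivial) s1
      refine ⟨h * s * t, mul_mem (fr.Levi_le_EG _ h6) t1, (mul_assoc _ t g).symm ▸ mul_mem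
        (mul_mem (fr.mem_Mon fun k => ⟨k, h4 k⟩) s2) t2, fun v hv => ?_, ?_⟩
      · rw [mul_assoc, Isom.mul_apply, t3 v hv,
          fr.Levi_apply h6 fun a _ => ⟨fr.mem_V0.1 hv _, fr.mem_V0.1 hv _⟩]
      rintro k (rfl | hk) <;> rw [mul_assoc, Isom.mul_apply, Isom.mul_apply]
      · rw [hd, map_smul, s3, smul_smul, map_smul, h2, smul_smul, mul_inv_cancel₀ c0, one_smul]
      · rw [t4 k hk, s4 k hk, h5 k (j1 k hk).2.1 (j1 k hk).2.2 (j2 k hk).1 (j2 k hk).2]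
  obtain ⟨t, t1, t2, t3, t4⟩ := h2 _ fun k hk => hk
  exact ⟨t, t1, t2, t3, fun k h1 h2 => t4 k ⟨h1, h2⟩⟩

omit [Finite I] [Finite F] [FiniteDimensional F V] in
theorem exists_mv_pair {g : f.Isom} (hg : g ∈ fr.Mon) {i : I}
    (h : ∀ k, k ≠ i → k ≠ -i → g.1 (fr.e k) = fr.e k) {a : I} (ha : a = i ∨ a = -i) :
    ∃ b, (b = i ∨ b = -i) ∧ fr.Mv g a b := by
  obtain ⟨b, hb⟩ := hg.1 a
  refine ⟨b, ?_, hb⟩
  by_contra hc
  exact hc (hb.inj (Mv.of_eq (h b (not_or.1 hc).1 (not_or.1 hc).2)) ▸ ha)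

theorem commutator_le {i j : I} (h1 : j ≠ i) (h2 : j ≠ -i) : commutator f.Isom ≤ fr.EG := by
  refine Subgroup.commutator_le.2 fun g _ g' _ => ?_
  obtain ⟨t, t1, t2, t3, t4⟩ := fr.exists_reduce i g
  obtain ⟨s, s1, s2, s3, s4⟩ := fr.exists_reduce j g'
  have n : ∀ {a b}, (a = i ∨ a = -i) → (b = j ∨ b = -j) → a ≠ b := by
    rintro _ _ (rfl | rfl) (rfl | rfl)
    exacts [h1.symm, ne_neg_swap h2, h2.symm, neg_ne_neg_of h1.symm]
  have : Commute (t * g) (s * g') := fr.ext (fun k => by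
    rw [Isom.mul_apply, Isom.mul_apply (s * g')]
    by_cases b1 : k = i ∨ k = -i
    · obtain ⟨b, b2, c, hc⟩ := fr.exists_mv_pair t2 t4 b1
      rw [s4 k (n b1 (.inl rfl)) (n b1 (.inr rfl)), hc, map_smul,
        s4 b (n b2 (.inl rfl)) (n b2 (.inr rfl))]
    rw [t4 k (not_or.1 b1).1 (not_or.1 b1).2]
    by_cases b2 : k = j ∨ k = -j
    · obtain ⟨b, b2, c, hc⟩ := fr.exists_mv_pair s2 s4 b2
      rw [hc, map_smul, t4 b (n (.inl rfl) b2).symm (n (.inr rfl) b2).symm]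
    rw [s4 k (not_or.1 b2).1 (not_or.1 b2).2, t4 k (not_or.1 b1).1 (not_or.1 b1).2])
    fun v hv => by rw [Isom.mul_apply, Isom.mul_apply (s * g'), t3 v hv, s3 v hv, t3 v hv]
  have := commutatorElement_eq_one_iff_commute.2 (this.map (QuotientGroup.mk' fr.EG))
  rw [map_mul, map_mul, QuotientGroup.mk'_apply, QuotientGroup.mk'_apply _ s,
    (QuotientGroup.eq_one_iff t).2 t1, (QuotientGroup.eq_one_iff s).2 s1, one_mul, one_mul,
    ← map_commutatorElement] at this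
  exact (QuotientGroup.eq_one_iff _).1 this

theorem orth_EG {f : Form (Param.orth F) V} (fr : Frame f I) (hf : f.Nondeg) (h : 5 ≤ finrank F V)
    {i j : I} (h1 : j ≠ i) (h2 : j ≠ -i) : fr.EG = commutator f.Isom := by
  refine le_antisymm (iSup_le fun k g ⟨v, l, hg⟩ => ?_) (fr.commutator_le h1 h2)
  rw [hg.eq_eichler (fr.Qe k), eichler_eq_siegel]
  refine hf.siegel_mem (.inr h) (fun u v hu hv hQ => ?_) _ _ _ _
  rw [siegel_eq_refl_mul _ _ _ _ _ hQ]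
  refine hf.refl_mul_refl_mem_commutator _ _ ⟨f.Q v, ?_⟩
  rw [orth_Q_add, orth_Q_smul, orth_B_smul_right, hu, hv]; simp

omit [Finite F] in
theorem det_pair {g : f.Isom} {i : I} {s t : F} (h1 : g.1 (fr.e i) = s • fr.e i)
    (h2 : g.1 (fr.e (-i)) = t • fr.e (-i)) (h3 : ∀ k, k ≠ i → k ≠ -i → g.1 (fr.e k) = fr.e k)
    (h4 : ∀ v ∈ fr.V0, g.1 v = v) : LinearMap.det (g.1 : V →ₗ[F] V) = s * t := by
  have := Fintype.ofFinite I
  have b1 := fr.B_ne i
  have b2 := fr.B_ne' i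
  have : (g.1 : V →ₗ[F] V) =
      LinearMap.transvection (((s - 1) / f.B (fr.e i) (fr.e (-i))) • f.B.flip (fr.e (-i))) (fr.e i) *
      LinearMap.transvection (((t - 1) / f.B (fr.e (-i)) (fr.e i)) • f.B.flip (fr.e i)) (fr.e (-i)) := by
    ext w
    obtain ⟨c, hc⟩ := fr.exists_decomp w
    rw [← sub_add_cancel w (∑ i, c i • fr.e i), map_add, map_add, map_sum, map_sum]
    congr 1
    · generalize w - _ = u at hc
      simp [LinearMap.transvection.apply, h4 _ hc, fr.mem_V0.1 hc]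
    refine Finset.sum_congr rfl fun k _ => ?_
    rw [map_smul, map_smul]
    congr 1
    by_cases e1 : k = i
    · simp [LinearMap.transvection.apply, e1, h1, f.B_self_of_Q (fr.Qe _), b1, sub_smul]
    by_cases e2 : k = -i
    · simp [LinearMap.transvection.apply, e2, h2, f.B_self_of_Q (fr.Qe _), b2, sub_smul]
    simp [LinearMap.transvection.apply, h3 k e1 e2, fr.B_eq' e2, fr.B_neg e1]
  rw [this, map_mul, LinearMap.transvection.det, LinearMap.transvection.det]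
  simp [b1, b2]

omit [Finite F] [FiniteDimensional F V] in
theorem exists_torus_of (i : I) {v v' : V} {l l' : F} (hv : v ∈ fr.V0) (hv' : v' ∈ fr.V0)
    (hl : f.IsLam v l) (hl' : f.IsLam v' l') (l0 : l ≠ 0) (l0' : l' ≠ 0) :
    ∃ h ∈ fr.RC i ⊔ fr.RC (-i), (∀ k, fr.Mv h k k) ∧ h.1 (fr.e i) = (l / l') • fr.e i ∧
      ∀ w ∈ fr.V0, h.1 (w - (f.B w v' * l'⁻¹) • v') = w - (f.B w v * l⁻¹) • v := by
  obtain ⟨r, r1, r2, r3, r4, r5⟩ := fr.exists_W2_of i hv hl l0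
  obtain ⟨s, s1, s2, s3, s4, s5⟩ := fr.exists_W2_of i hv' hl' l0'
  have h := mul_mem r1 (inv_mem s1)
  refine ⟨r * s⁻¹, h, fun k => ?_, ?_, fun w hw => ?_⟩
  · by_cases b1 : k = i
    · exact b1 ▸ Mv.mul ⟨_, r3⟩ (Mv.inv ⟨_, s3⟩)
    by_cases b2 : k = -i
    · exact b2 ▸ Mv.mul ⟨_, r4⟩ (Mv.inv ⟨_, s4⟩)
    exact .of_eq (fr.RC_sup_fix h b1 b2)
  · refine smul_right_injective V (fr.smul_ne_zero s3) ?_
    simp only
    rw [← map_smul, ← s3, Isom.mul_apply, Isom.inv_apply, r3, smul_smul]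
    congr 1; field_simp
  · rw [← s5 w hw, Isom.mul_apply, Isom.inv_apply, r5 w hw]

theorem unit_EG {σ : F →+* F} {hσ : ∀ a, σ (σ a) = a} {f : Form (Param.unit σ hσ) V}
    (fr : Frame f I) (i : I) (hs : ∃ a, σ a ≠ a) : fr.EG = f.SIsom := by
  have h0 : fr.EG ≤ f.SIsom := iSup_le fun k g ⟨v, l, hg⟩ => by
    rw [hg.eq_eichler (fr.Qe k)]; exact eichler_mem_SIsom _ _ _ _ _ _
  refine le_antisymm h0 fun g hg => ?_
  obtain ⟨a, ha⟩ := hs
  have z0 : a - σ a ≠ 0 := sub_ne_zero.2 ha.symm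
  have hz : ∀ c, σ c = c → f.IsLam 0 (c * (a - σ a)) := fun c hc =>
    f.unit_isLam_iff.2 (by simp [hσ, hc]; ring)
  have key : ∀ g ∈ f.SIsom, g ∈ fr.Mon → (∀ v ∈ fr.V0, g.1 v = v) →
      (∀ k, k ≠ i → k ≠ -i → g.1 (fr.e k) = fr.e k) → fr.Mv g i i → g ∈ fr.EG := by
    rintro g hg g1 g2 g3 ⟨t, ht⟩
    have t0 := fr.smul_ne_zero ht
    have g4 := fr.apply_neg ht (Mv.neg' g1 ⟨t, ht⟩)
    have g5 := (fr.det_pair ht g4 g3 g2).symm.trans (mem_SIsom.1 hg)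
    have g6 : σ t = t := ((mul_inv_eq_one₀ ((Param.unit σ hσ).σ_ne_zero t0)).1 g5).symm
    obtain ⟨h, h1, h2, h3, h4⟩ := fr.exists_torus_of i (zero_mem _) (zero_mem _) (hz t g6)
      (hz 1 (map_one σ)) (mul_ne_zero t0 z0) (by simpa)
    rw [one_mul, mul_div_cancel_right₀ _ z0] at h3
    refine fr.ext (g := h) (g' := g) (fun k => ?_) (fun v hv => by simpa [g2 v hv] using h4 v hv) ▸
      sup_le (fr.RC_le_EG _) (fr.RC_le_EG _) h1
    by_cases b1 : k = i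
    · rw [b1, h3, ht]
    by_cases b2 : k = -i
    · rw [b2, g4, fr.apply_neg h3 (h2 _)]
    rw [g3 k b1 b2, fr.RC_sup_fix h1 b1 b2]
  obtain ⟨t, t1, t2, t3, t4⟩ := fr.exists_reduce i g
  have t5 := mul_mem (h0 t1) hg
  rw [← fr.EG.mul_mem_cancel_left t1]
  obtain ⟨b, rfl | rfl, hb⟩ := fr.exists_mv_pair t2 t4 (.inl rfl)
  · exact key _ t5 t2 t3 t4 hb
  obtain ⟨r, r1, r2, r3, -, r5⟩ := fr.exists_W2_of i (zero_mem _) (hz 1 (map_one σ)) (by simpa)
  have r6 := sup_le (fr.RC_le_EG _) (fr.RC_le_EG _) r1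
  exact (fr.EG.mul_mem_cancel_left r6).1 (key _ (mul_mem (h0 r6) t5) (mul_mem r2 t2)
    (fun v hv => by rw [Isom.mul_apply, t3 v hv, r5 v hv]; simp)
    (fun k h1 h2 => by rw [Isom.mul_apply, t4 k h1 h2, fr.RC_sup_fix r1 h1 h2]) (Mv.mul ⟨_, r3⟩ hb))

end Frame

end Cfsg.Agent.Cls
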