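import Cfsg.Agent.Lib.Cls.Torus
import Cfsg.Agent.Lib.Forms.Concrete

/-!
The kernel of a group with the parabolic Steinberg relations.
-/

set_option autoImplicit false

namespace Cfsg.Agent.Cls

open Forms Forms.Form Subgroup

variable {F : Type*} [Field F] {P : Param F} {V : Type*} [AddCommGroup V] [Module F V]
  {f : Form P V} {I : Type*} [InvolutiveNeg I] {J : Type*} [Group J]

namespace Frame

variable (fr : Frame f I)

theorem apply_neg {g : f.Isom} {i : I} {t : F} (h : g.1 (fr.e i) = t • fr.e i)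
    (h' : fr.Mv g (-i) (-i)) : g.1 (fr.e (-i)) = (P.σ t)⁻¹ • fr.e (-i) := by
  obtain ⟨c, hc⟩ := h'
  have := Isom.map_B g (fr.e (-i)) (fr.e i)
  rw [h, hc, B_smul_left, B_smul_right, ← mul_assoc] at this
  rw [hc, eq_inv_of_mul_eq_one_left (mul_right_cancel₀ (fr.B_ne' i) (this.trans (one_mul _).symm))]

theorem isLam_W2 {i : I} {v : V} {l : F} (hl : f.IsLam v l) (h0 : l ≠ 0) :
    f.IsLam ((P.ε * (l * f.B (fr.e i) (fr.e (-i)))⁻¹) • v)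
      (P.σ l * f.B (fr.e i) (fr.e (-i)) * P.σ (f.B (fr.e i) (fr.e (-i))))⁻¹ ∧
    f.IsLam ((P.σ l * f.B (fr.e i) (fr.e (-i)))⁻¹ • v)
      (P.σ l * f.B (fr.e i) (fr.e (-i)) * P.σ (f.B (fr.e i) (fr.e (-i))))⁻¹ := by
  have n1 := fr.B_ne i
  have n2 := P.σ_ne_zero n1
  have n3 := P.σ_ne_zero h0
  have hε := P.εε
  constructor
  · convert hl.smul (P.ε * (l * f.B (fr.e i) (fr.e (-i)))⁻¹) using 1
    simp only [map_mul, map_inv₀, P.σε]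
    field_simp
    rw [sq, hε]
  · convert hl.smul (P.σ l * f.B (fr.e i) (fr.e (-i)))⁻¹ using 1
    simp only [map_mul, map_inv₀, P.σσ]
    field_simp

theorem W2_apply {i : I} {x y y' : f.Isom} {v : V} {l : F} (hv : v ∈ fr.V0) (h0 : l ≠ 0)
    (hx : IsE x (fr.e i) v l)
    (hy : IsE y (fr.e (-i)) ((P.ε * (l * f.B (fr.e i) (fr.e (-i)))⁻¹) • v)
      (P.σ l * f.B (fr.e i) (fr.e (-i)) * P.σ (f.B (fr.e i) (fr.e (-i))))⁻¹)
    (hy' : IsE y' (fr.e (-i)) ((P.σ l * f.B (fr.e i) (fr.e (-i)))⁻¹ • v)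
      (P.σ l * f.B (fr.e i) (fr.e (-i)) * P.σ (f.B (fr.e i) (fr.e (-i))))⁻¹) :
    (y * x * y').1 (fr.e (-i)) = (-(P.ε * l * f.B (fr.e (-i)) (fr.e i))) • fr.e i ∧
    (y * x * y').1 (fr.e i) = (-(P.σ l * f.B (fr.e (-i)) (fr.e i))⁻¹) • fr.e (-i) ∧
    ∀ w ∈ fr.V0, (y * x * y').1 w = w - (f.B w v * l⁻¹) • v := by
  have n1 := fr.B_ne i
  have n3 := P.σ_ne_zero h0
  have n4 := fr.B_ne' i
  have n5 := P.ε_ne_zero
  have hε := P.εε
  have v1 := fr.mem_V0.1 hv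
  have v2 : ∀ i, f.B (fr.e i) v = 0 := fun i => f.B_eq_zero_symm (v1 i)
  have z1 := f.B_self_of_Q (fr.Qe i)
  have z2 := f.B_self_of_Q (fr.Qe (-i))
  have hv' := hx.lam.2
  have s1 := f.σ_B (fr.e i) (fr.e (-i))
  have x1 : x.1 (fr.e i) = fr.e i := hx.apply_self (fr.Qe _)
  have y1 : y.1 (fr.e (-i)) = fr.e (-i) := hy.apply_self (fr.Qe _)
  have y1' : y'.1 (fr.e (-i)) = fr.e (-i) := hy'.apply_self (fr.Qe _)
  refine ⟨?_, ?_, fun w hw => ?_⟩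
  · simp only [Isom.mul_apply, y1', hx.app, hy.app, B_add_left, B_sub_left, B_smul_left,
      B_smul_right, v1, v2, z1, z2, ← hv', map_mul, map_inv₀, P.σε, s1]
    rcases P.ε_eq with e | e <;> simp only [e] <;> match_scalars <;> field_simp <;> ring
  · simp only [Isom.mul_apply, hy'.app, hx.app, hy.app, B_add_left, B_sub_left, B_smul_left,
      B_smul_right, v1, v2, z1, z2, ← hv', map_mul, map_inv₀, P.σε, s1, P.σσ]
    rcases P.ε_eq with e | e <;> simp only [e] <;> match_scalars <;> field_simp <;> ring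
  · have w1 := fr.mem_V0.1 hw
    simp only [Isom.mul_apply, hy'.app, hx.app, hy.app, B_add_left, B_sub_left, B_smul_left,
      B_smul_right, v1, v2, z1, z2, ← hv', map_mul, map_inv₀, P.σε, s1, P.σσ, w1]
    rcases P.ε_eq with e | e <;> simp only [e] <;> match_scalars <;> field_simp <;> ring

end Frame

variable {fr : Frame f I} {φ : J →* f.Isom} {U : I → Subgroup J}

theorem HR_apply_V0 {i j : I} (h1 : j ≠ i) {g : J} (hg : g ∈ HR fr φ U i j) {v : V}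
    (hv : v ∈ fr.V0) : (φ g).1 v = v := by
  let N : Subgroup J :=
    { carrier := {g | (φ g).1 v = v}
      one_mem' := by simp
      mul_mem' := fun {a b} ha hb => by
        change (φ _).1 v = v
        rw [map_mul, Isom.mul_apply, hb, ha]
      inv_mem' := fun {a} ha => by
        change (φ _).1 v = v
        rw [map_inv, inv_apply_of_apply ha] }
  have k : ∀ r ∈ WR fr φ U i j, r ∈ N := by
    rintro _ ⟨-, x, hx, -, y, hy, y', hy', rfl⟩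
    rw [mem_XR_of_ne (neg_ne_neg_of h1)] at hy hy'
    exact N.mul_mem (N.mul_mem (fr.RA_apply_V0 hy.2 hv)
      (fr.RA_apply_V0 ((mem_XR_of_ne h1).1 hx).2 hv)) (fr.RA_apply_V0 hy'.2 hv)
  exact HR_le (N := N) (fun r hr r' hr' => mul_mem (k r hr) (inv_mem (k r' hr'))) hg

theorem PSt0.exists_W2 [Finite I] (h : PSt0 fr φ U) {i : I} {r : J} (hr : r ∈ WR fr φ U i i) :
    ∃ v ∈ fr.V0, ∃ l, l ≠ 0 ∧ ∃ x ∈ U i, ∃ y ∈ U (-i), ∃ y' ∈ U (-i), r = y * x * y' ∧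
      IsE (φ x) (fr.e i) v l ∧
      IsE (φ y) (fr.e (-i)) ((P.ε * (l * f.B (fr.e i) (fr.e (-i)))⁻¹) • v)
        (P.σ l * f.B (fr.e i) (fr.e (-i)) * P.σ (f.B (fr.e i) (fr.e (-i))))⁻¹ ∧
      IsE (φ y') (fr.e (-i)) ((P.σ l * f.B (fr.e i) (fr.e (-i)))⁻¹ • v)
        (P.σ l * f.B (fr.e i) (fr.e (-i)) * P.σ (f.B (fr.e i) (fr.e (-i))))⁻¹ := by
  obtain ⟨hM, x, hx, x0, y, hy, y', hy', rfl⟩ := hr
  obtain ⟨v, hv, l, hl⟩ := (mem_XR_self.1 hx).2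
  have l0 := fr.l_ne_zero hv hl fun e => x0 (h.inj i x hx.1 e)
  obtain ⟨a1, a2⟩ := fr.isLam_W2 (i := i) hl.lam l0
  obtain ⟨z, hz⟩ := exists_isE (fr.Qe (-i)) (fr.mem_V0.1 (Submodule.smul_mem _ _ hv) _) a1
  obtain ⟨z', hz'⟩ := exists_isE (fr.Qe (-i)) (fr.mem_V0.1 (Submodule.smul_mem _ _ hv) _) a2
  obtain ⟨b1, b2, -⟩ := fr.W2_apply hv l0 hl hz hz'
  have c1 : z ∈ fr.RC (-i) := ⟨_, Submodule.smul_mem _ _ hv, _, hz⟩
  have c2 : z' ∈ fr.RC (-i) := ⟨_, Submodule.smul_mem _ _ hv, _, hz'⟩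
  obtain ⟨rfl, rfl⟩ := fr.W_unique (fr.ne i).symm hx.2 (fun e => x0 (h.inj i x hx.1 e)) hy.2 hy'.2
    (by rwa [fr.RX_self]) (by rwa [fr.RX_self]) (by simpa using hM)
    (fr.mon_of_W1 ⟨_, b2⟩ ⟨_, b1⟩ ⟨_, b2⟩ ⟨_, b1⟩ fun k k1 k2 _ _ =>
      fr.W2_fix ⟨v, hv, l, hl⟩ c1 c2 k1 k2)
  exact ⟨v, hv, l, l0, x, hx.1, y, hy.1, y', hy'.1, rfl, hl, hz, hz'⟩

namespace PSt1

variable (h : PSt1 fr φ U) [Finite I]
include h

section

variable [Finite F] {i j : I} (h1 : j ≠ i) (h2 : j ≠ -i)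
include h1 h2

theorem HR_apply {g : J} (hg : g ∈ HR fr φ U i j) :
    ∃ t, t ≠ 0 ∧ (φ g).1 (fr.e j) = t • fr.e j ∧ (φ g).1 (fr.e i) = P.σ t • fr.e i := by
  obtain ⟨η, -, a1, a2⟩ := h.exists_torus h1 h2
  obtain ⟨t, ht, rfl⟩ := a1 g hg
  exact ⟨_, inv_ne_zero ht, (a2 t ht).2⟩

theorem exists_HR {t : F} (ht : t ≠ 0) :
    ∃ g ∈ HR fr φ U i j, (φ g).1 (fr.e j) = t • fr.e j ∧ (φ g).1 (fr.e i) = P.σ t • fr.e i := by
  obtain ⟨η, -, -, a2⟩ := h.exists_torus h1 h2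
  simpa using (⟨_, a2 _ (inv_ne_zero ht)⟩ : ∃ g, g ∈ HR fr φ U i j ∧
    (φ g).1 (fr.e j) = t⁻¹⁻¹ • fr.e j ∧ (φ g).1 (fr.e i) = P.σ t⁻¹⁻¹ • fr.e i)

theorem HR_eq_one {g : J} (hg : g ∈ HR fr φ U i j) (e : (φ g).1 (fr.e i) = fr.e i) : g = 1 := by
  obtain ⟨η, a0, a1, a2⟩ := h.exists_torus h1 h2
  obtain ⟨t, ht, rfl⟩ := a1 g hg
  have := (a2 t ht).2.2
  rw [e, eq_comm, ← sub_eq_zero, ← one_smul F (fr.e i), smul_smul, mul_one, ← sub_smul,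
    smul_eq_zero_iff_left (fr.e_ne_zero i), sub_eq_zero, ← map_one P.σ] at this
  rw [inv_eq_one.1 (P.σ.injective this), a0]

theorem HR_eq {g g' : J} (hg : g ∈ HR fr φ U i j) (hg' : g' ∈ HR fr φ U i j)
    (e : (φ g).1 (fr.e i) = (φ g').1 (fr.e i)) : g = g' :=
  (inv_mul_eq_one.1 (h.HR_eq_one h1 h2 (mul_mem (inv_mem hg') hg) (by
    rw [map_mul, map_inv, Isom.mul_apply, e, Isom.inv_apply]))).symm

end

theorem mem_HS_of_fix [Finite F] {S : Set I} (hS : ∀ i ∈ S, -i ∈ S) {j : I} (hj : j ∈ S)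
    (hC : fr.HasC ∨ ∃ l ∈ S, l ≠ j ∧ l ≠ -j) {g : J} (hg : g ∈ HS fr φ U Set.univ)
    (hv : g ∈ FixV fr φ S) : g ∈ HS fr φ U S := by
  have key : ∀ n (T : Set I), T.ncard = n → (∀ i ∈ T, -i ∈ T) → S ⊆ T → g ∈ HS fr φ U T →
      g ∈ HS fr φ U S := by
    intro n
    induction n using Nat.strong_induction_on with
    | _ n ih =>
      intro T hn hT hST hg
      by_cases e : T ⊆ S
      · exact HS_mono e hg
      obtain ⟨r, hr, hr'⟩ := Set.not_subset.1 e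
      have a1 : S ⊆ rm T r := fun i hi =>
        ⟨hST hi, fun e => hr' (e ▸ hi), fun e => neg_notMem hS hr' (e ▸ hi)⟩
      obtain ⟨a, ha, b, hb, rfl⟩ := h.exists_of_mem_sup (HS_mono (Set.subset_univ _))
        (h.HS_step hT (a1 hj) (hC.imp_right fun ⟨l, hl, e⟩ => ⟨l, a1 hl, e⟩) hg)
      have a2 := hv r hr'
      rw [map_mul, Isom.mul_apply, HS_le_FixV (rm_closed hT r) hb r fun e => e.2.1 rfl] at a2
      exact ih _ (hn ▸ Set.ncard_lt_ncard ⟨fun _ hi => hi.1, fun e => (e hr).2.1 rfl⟩) _ rfl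
        (rm_closed hT r) a1 (by simpa [h.HR_eq_one (a1 hj).2.1 (a1 hj).2.2 ha a2] using hb)
  exact key _ _ rfl (by simp) (Set.subset_univ _) hg

theorem ker_mem_HR [Finite F] (hC : fr.HasC) (i : I) {g : J} (hg : g ∈ ⨆ i, U i) (h1 : φ g = 1) :
    g ∈ HR fr φ U i i := by
  have := h.mem_HS_of_fix (S := {i, -i}) (by simp) (j := i) (by simp) (Or.inl hC)
    (h.mem_HS hg fun k => by rw [h1]; exact .one) fun k _ => by rw [h1]; rfl
  refine HS_le ?_ this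
  rintro a (rfl | rfl) b (rfl | rfl) e
  · exact le_rfl
  · exact absurd rfl e
  · exact absurd (neg_neg _).symm e
  · simpa using h.HR_neg e

theorem HR_C_le [Finite F] {i j : I} (h1 : j ≠ i) (h2 : j ≠ -i)
    (hT : ∀ v ∈ fr.V0, ∀ v' ∈ fr.V0, ∀ l l', f.IsLam v l → f.IsLam v' l' → l ≠ 0 → l' ≠ 0 →
      ∃ t, t ≠ 0 ∧ v' = t • v ∧ l' = t * P.σ t * l) :
    HR fr φ U i i ≤ HR fr φ U i j ⊔ HR fr φ U i (-j) := by
  have h0 := h.toPSt0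
  refine HR_le fun r' hr' r hr => ?_
  obtain ⟨hM, x, hx, x0, y, hy, y', hy', rfl⟩ := id hr
  obtain ⟨hM', z, hz, z0, w, hw, w', hw', rfl⟩ := id hr'
  obtain ⟨v, hv, l, hl⟩ := (mem_XR_self.1 hx).2
  obtain ⟨v', hv', l', hl'⟩ := (mem_XR_self.1 hz).2
  obtain ⟨t, ht, rfl, rfl⟩ := hT v hv v' hv' l l' hl.lam hl'.lam
    (fr.l_ne_zero hv hl fun e => x0 (h.inj i x hx.1 e))
    (fr.l_ne_zero hv' hl' fun e => z0 (h.inj i z hz.1 e))
  obtain ⟨g, hg, -, a2⟩ := h.exists_HR h1 h2 ht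
  have a3 := h.HR_le_Mx h2 hg
  have a4 := h.HR_mv' h2 hg
  have a5 : g * x * g⁻¹ = z := h0.eq (Mx_conj a3 (a4 i) hx.1) hz.1 (IsE.eq (by
    rw [map_mul, map_mul, map_inv]
    exact (hl.of_conj a2 (P.σ_ne_zero ht)).congr (by rw [P.σσ, HR_apply_V0 h1 hg hv])
      (by rw [P.σσ, mul_comm t])) hl')
  obtain ⟨rfl, rfl⟩ := h0.W_eq (fr.ne i).symm hz z0 hw hw' (Mx_conj_X a3 (a4 _) (a4 _) hy)
    (Mx_conj_X a3 (a4 _) (a4 _) hy') hM' (by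
      convert (Mx_conj_W a3 (a4 i) (a4 i) hr).1 using 2
      rw [← a5]; group)
  have a6 := h.HR_neg (by rw [neg_neg]; exact h1) (Mx_conj_HR (h.monoW i i (fr.ne i).symm _ hr)
    (h0.W_mv2 (fr.ne i).symm hr) (.of_eq (W_fix hr h1 h2 h1 h2)) (inv_mem hg))
  rw [neg_neg] at a6
  convert mul_mem (mem_sup_left hg : _ ∈ HR fr φ U i j ⊔ HR fr φ U i (-j)) (mem_sup_right a6) using 1
  rw [← a5]; group

theorem ker_D [Finite F] {i j : I} (h1 : j ≠ i) (h2 : j ≠ -i) {g : J}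
    (hg : g ∈ HR fr φ U i j ⊔ HR fr φ U i (-j)) (h3 : φ g = 1) :
    ∃ t, t * P.σ t = 1 ∧ ∃ a ∈ HR fr φ U i j, ∃ b ∈ HR fr φ U i (-j), g = a * b ∧
      (φ a).1 (fr.e i) = t • fr.e i ∧ (φ b).1 (fr.e i) = t⁻¹ • fr.e i := by
  obtain ⟨a, ha, b, hb, rfl⟩ := h.exists_of_mem_sup
    (HR_le_HS (Set.mem_univ _) (Set.mem_univ _) (neg_ne_neg_of h1)) hg
  obtain ⟨t, ht, a1, a2⟩ := h.HR_apply h1 h2 ha
  obtain ⟨s, hs, b1, b2⟩ := h.HR_apply (neg_ne_of h2) (neg_ne_neg_of h1) hb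
  have b3 := fr.apply_neg b1 (h.HR_mv' (neg_ne_neg_of h1) hb _)
  rw [neg_neg] at b3
  have c1 : (φ (a * b)).1 (fr.e i) = fr.e i := by rw [h3]; rfl
  have c2 : (φ (a * b)).1 (fr.e j) = fr.e j := by rw [h3]; rfl
  rw [map_mul, Isom.mul_apply, b2, map_smul, a2, smul_smul] at c1
  rw [map_mul, Isom.mul_apply, b3, map_smul, a1, smul_smul] at c2
  have d1 := smul_left_injective F (fr.e_ne_zero i) (c1.trans (one_smul _ _).symm)
  have d2 := smul_left_injective F (fr.e_ne_zero j) (c2.trans (one_smul _ _).symm)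
  have d3 := P.σ_ne_zero hs
  have d4 : t = P.σ s := by field_simp at d2; exact d2
  refine ⟨P.σ t, by rw [P.σσ, mul_comm, ← d1, d4], a, ha, b, hb, rfl, a2, ?_⟩
  rw [b2, eq_inv_of_mul_eq_one_left d1]

theorem ker_mem_D [Finite F] (hC : ¬ fr.HasC) {i j : I} (h1 : j ≠ i) (h2 : j ≠ -i) {g : J}
    (hg : g ∈ ⨆ i, U i) (h3 : φ g = 1) : g ∈ HR fr φ U i j ⊔ HR fr φ U i (-j) := by
  have h0 := h.toPSt0
  have := h.mem_HS_of_fix (S := {i, -i, j, -j}) (by simp) (j := i) (by simp)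
    (Or.inr ⟨j, by simp, h1, h2⟩) (h.mem_HS hg fun k => by rw [h3]; exact .one)
    fun k _ => by rw [h3]; rfl
  refine HS_le ?_ this
  have a1 : HR fr φ U i j ≤ HR fr φ U i j ⊔ HR fr φ U i (-j) := le_sup_left
  have a2 : HR fr φ U i (-j) ≤ HR fr φ U i j ⊔ HR fr φ U i (-j) := le_sup_right
  have a3 : HR fr φ U (-i) (-j) ≤ HR fr φ U i j ⊔ HR fr φ U i (-j) :=
    (h.HR_neg (neg_ne_neg_of h2)).trans (by simp)
  have a4 : HR fr φ U (-i) j ≤ HR fr φ U i j ⊔ HR fr φ U i (-j) :=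
    (h.HR_neg (by rwa [neg_neg])).trans (by simp)
  rintro a (rfl | rfl | rfl | rfl) b (rfl | rfl | rfl | rfl) e <;>
    first | assumption | exact absurd rfl e | exact absurd (neg_neg _).symm e |
      exact (h0.HR_symm e).trans (by assumption) | simp [h0.HR_eq_bot hC]

end PSt1

theorem ker_sp {f : Form (Param.sp F) V} {fr : Frame f I} {φ : J →* f.Isom} {U : I → Subgroup J}
    [Finite I] [Finite F] (h : PSt1 fr φ U) {g : J} (hg : g ∈ ⨆ i, U i) (h1 : φ g = 1) : g = 1 := by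
  have h0 := h.toPSt0
  rcases isEmpty_or_nonempty I with hI | ⟨⟨i⟩⟩
  · simpa [iSup_of_empty] using hg
  have hV : ∀ v ∈ fr.V0, v = 0 := fun v hv => fr.aniso v (fr.mem_V0.1 hv) (f.sp_Q v)
  have n1 := fr.B_ne i
  have n2 := f.sp_symm (fr.e i) (fr.e (-i))
  have hX : ∀ i (c a : F), ∃ y ∈ XR fr φ U i i, IsE (φ y) (fr.e i) 0 (c * a) := fun i c a => by
    obtain ⟨g, hg⟩ := exists_isE (fr.Qe i) (f.B_zero_left _) (f.sp_isLam 0 (c * a))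
    obtain ⟨y, hy, rfl⟩ := h0.exists_C ⟨_, zero_mem _, _, hg⟩
    exact ⟨y, hy, hg⟩
  choose X hX1 hX2 using hX
  have aX : ∀ i c a b, X i c (a + b) = X i c a * X i c b := fun i c a b =>
    h0.eq (hX1 _ _ _).1 (mul_mem (hX1 _ _ _).1 (hX1 _ _ _).1) ((hX2 _ _ _).eq (by
      rw [map_mul]
      exact ((hX2 i c a).mul (fr.Qe i) (hX2 i c b)).congr (add_zero _) (by simp [mul_add])))
  set β := f.B (fr.e i) (fr.e (-i))
  have hφ : ∀ t, φ (SL2.stW (X (-i) (-(β * β)⁻¹)) (X i 1) t) =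
      φ (X (-i) (-(β * β)⁻¹) t) * φ (X i 1 (-t⁻¹)) * φ (X (-i) (-(β * β)⁻¹) t) := fun t => by
    simp [SL2.stW]
  have hA := fun t (ht : t ≠ 0) => fr.W2_apply (zero_mem _) (l := 1 * -t⁻¹) (by simpa) (hX2 i 1 (-t⁻¹))
    ((hX2 (-i) (-(β * β)⁻¹) t).congr (smul_zero _).symm (by simp [β]; field_simp))
    ((hX2 (-i) (-(β * β)⁻¹) t).congr (smul_zero _).symm (by simp [β]; field_simp))
  have hW : ∀ t, t ≠ 0 → SL2.stW (X (-i) (-(β * β)⁻¹)) (X i 1) t ∈ WR fr φ U i i := fun t ht => by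
    obtain ⟨a1, a2, -⟩ := hA t ht
    refine ⟨?_, _, hX1 _ _ _, fun e => ?_, _, hX1 _ _ _, _, hX1 _ _ _, rfl⟩
    · rw [hφ]
      exact fr.mon_of_W1 ⟨_, a2⟩ ⟨_, a1⟩ ⟨_, a2⟩ ⟨_, a1⟩ fun k k1 k2 _ _ =>
        fr.W2_fix ⟨_, zero_mem _, _, hX2 _ _ _⟩ ⟨_, zero_mem _, _, hX2 _ _ _⟩
          ⟨_, zero_mem _, _, hX2 _ _ _⟩ k1 k2
    · have := (hX2 i 1 (-t⁻¹)).app (fr.e (-i))
      rw [e, map_one, eq_comm] at this
      simpa [fr.e_ne_zero, fr.B_ne', ht] using this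
  have hW' : ∀ r ∈ WR fr φ U i i, ∃ t, t ≠ 0 ∧ r = SL2.stW (X (-i) (-(β * β)⁻¹)) (X i 1) t := by
    intro r hr
    obtain ⟨v, hv, l, l0, x, hx, y, hy, y', hy', rfl, a1, a2, a3⟩ := h0.exists_W2 hr
    obtain rfl := hV v hv
    refine ⟨-l⁻¹, by simpa, ?_⟩
    rw [h0.eq hx (hX1 i 1 (-(-l⁻¹)⁻¹)).1 (a1.eq ((hX2 _ _ _).congr rfl (by simp))),
      h0.eq hy (hX1 _ (-(β * β)⁻¹) (-l⁻¹)).1 (a2.eq ((hX2 _ _ _).congr (smul_zero _).symm
        (by simp [β]; field_simp))),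
      h0.eq hy' (hX1 _ (-(β * β)⁻¹) (-l⁻¹)).1 (a3.eq ((hX2 _ _ _).congr (smul_zero _).symm
        (by simp [β]; field_simp)))]
    rfl
  have hw : ∀ t u : F, t ≠ 0 → SL2.stW (X (-i) (-(β * β)⁻¹)) (X i 1) t * X (-i) (-(β * β)⁻¹) u *
      (SL2.stW (X (-i) (-(β * β)⁻¹)) (X i 1) t)⁻¹ = X i 1 (-(t⁻¹ ^ 2 * u)) := by
    intro t u ht
    obtain ⟨a1, -⟩ := hA t ht
    rw [← hφ] at a1
    refine h0.eq (Mx_conj (h.monoW i i (fr.ne i).symm _ (hW t ht)) ⟨_, a1⟩ (hX1 _ _ u).1)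
      (hX1 _ _ _).1 (IsE.eq ?_ (hX2 _ _ _))
    rw [map_mul, map_mul, map_inv]
    refine ((hX2 _ _ u).of_conj a1 (fr.smul_ne_zero a1)).congr (by simp) ?_
    simp only [n2, Param.sp_σ, Param.sp_ε]
    field_simp
  obtain ⟨t, ht, rfl⟩ := exists_stH (aX _ _) (aX _ _) hw hW'
    (h.ker_mem_HR ⟨0, zero_mem _, 1, f.sp_isLam _ _, one_ne_zero⟩ i hg h1)
  rw [SL2.stH, map_mul, map_inv, mul_inv_eq_one] at h1
  have a1 := (hA t ht).1
  rw [← hφ, h1, hφ, (hA 1 one_ne_zero).1] at a1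
  have a2 := smul_left_injective F (fr.e_ne_zero i) a1
  simp only [n2, Param.sp_ε] at a2
  have : t = 1 := by field_simp at a2; simpa using a2
  rw [this]
  exact mul_inv_cancel _

end Cfsg.Agent.Cls
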