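import Cfsg.Agent.Lib.Cls.Kernel
import Cfsg.Agent.Lib.SLn.PresAll

/-!
Subgroups isomorphic to special linear groups.
-/

set_option autoImplicit false

namespace Cfsg.Agent.Cls

open Forms Forms.Form Subgroup Matrix SLn
open scoped MatrixGroups

variable {F : Type*} [Field F] {P : Param F} {V : Type*} [AddCommGroup V] [Module F V]
  {f : Form P V} {I : Type*} [InvolutiveNeg I]

theorem exists_hom_SL2 {K G : Type*} [Field K] [Finite K] [Group G] {x y : K → G}
    (hx : ∀ a b, x (a + b) = x a * x b) (hy : ∀ a b, y (a + b) = y a * y b)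
    (hw : ∀ t u : K, t ≠ 0 → SL2.stW x y t * x u * (SL2.stW x y t)⁻¹ = y (-(t⁻¹ ^ 2 * u))) :
    ∃ l : SL(2, K) →* G, (∀ a, l (SL2.up a) = x a) ∧ ∀ a, l (SL2.lo a) = y a := by
  let L := closure (Set.range (fun a => (x a, SL2.up a)) ∪ Set.range fun a => (y a, SL2.lo a))
  let x' : K → L := fun a => ⟨(x a, SL2.up a), subset_closure (Or.inl ⟨a, rfl⟩)⟩
  let y' : K → L := fun a => ⟨(y a, SL2.lo a), subset_closure (Or.inr ⟨a, rfl⟩)⟩
  let π : L →* SL(2, K) := (MonoidHom.snd _ _).comp L.subtype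
  have hb : Function.Bijective π := by
    refine ⟨SL2.steinberg_injective (x := x') (y := y')
      (fun a b => Subtype.ext (Prod.ext (hx a b) (SL2.up_mul a b).symm))
      (fun a b => Subtype.ext (Prod.ext (hy a b) ?_))
      (fun t u ht => Subtype.ext (Prod.ext (hw t u ht) ?_)) ?_ π (fun _ => rfl) fun _ => rfl, ?_⟩
    · apply SL2.SL_ext
      change (SL2.lo (a + b)).1 = (SL2.lo a).1 * (SL2.lo b).1
      apply SL2.mat_ext <;> simp
    · change SL2.up t * SL2.lo (-t⁻¹) * SL2.up t * SL2.up u *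
        (SL2.up t * SL2.lo (-t⁻¹) * SL2.up t)⁻¹ = SL2.lo _
      rw [mul_inv_eq_iff_eq_mul]
      apply SL2.SL_ext
      simp only [SL2.SL_coe_mul]
      apply SL2.mat_ext <;> simp [ht] <;> field_simp <;> ring
    · apply Subgroup.map_injective L.subtype_injective
      rw [MonoidHom.map_closure, ← MonoidHom.range_eq_map, range_subtype, Set.image_union,
        ← Set.range_comp, ← Set.range_comp]
      rfl
    · rw [← MonoidHom.range_eq_top]
      exact SL2.eq_top_of_up_lo (fun a => ⟨x' a, rfl⟩) fun a => ⟨y' a, rfl⟩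
  refine ⟨((MonoidHom.fst _ _).comp L.subtype).comp (MulEquiv.ofBijective π hb).symm.toMonoidHom,
    fun a => ?_, fun a => ?_⟩
  · have : (MulEquiv.ofBijective π hb).symm (SL2.up a) = x' a := (MulEquiv.symm_apply_eq _).2 rfl
    simp [this, x']
  · have : (MulEquiv.ofBijective π hb).symm (SL2.lo a) = y' a := (MulEquiv.symm_apply_eq _).2 rfl
    simp [this, y']

theorem xSL_zero_one {K : Type*} [Field K] (a : K) : xSL (0 : Fin 2) 1 a = SL2.up a := by
  apply SL2.SL_ext
  rw [coe_xSL (by simp)]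
  apply SL2.mat_ext <;> simp [transvection]

theorem xSL_one_zero {K : Type*} [Field K] (a : K) : xSL (1 : Fin 2) 0 a = SL2.lo a := by
  apply SL2.SL_ext
  rw [coe_xSL (by simp)]
  apply SL2.mat_ext <;> simp [transvection]

theorem fin_two_cases {a b : Fin 2} (h : a ≠ b) : a = 0 ∧ b = 1 ∨ a = 1 ∧ b = 0 := by
  revert a b; decide

theorem act_of_act {ι K : Type*} [Fintype ι] [DecidableEq ι] [Field K] (ρ : K →+* F)
    (l : SpecialLinearGroup ι K →* f.Isom) {e : ι → V}
    (h : ∀ a b, a ≠ b → ∀ t c, (l (xSL a b t)).1 (e c) = e c + if c = b then ρ t • e a else 0)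
    (g : SpecialLinearGroup ι K) (b : ι) : (l g).1 (e b) = ∑ a, ρ (g.1 a b) • e a := by
  let T : (ι → K) → V := fun v => ∑ a, ρ (v a) • e a
  let N : Subgroup (SpecialLinearGroup ι K) :=
    { carrier := {g | ∀ v, (l g).1 (T v) = T (g.1 *ᵥ v)}
      one_mem' := fun v => by simp
      mul_mem' := fun {a b} ha hb v => by
        rw [map_mul, Isom.mul_apply, hb, ha, mulVec_mulVec]; rfl
      inv_mem' := fun {a} ha v => by
        apply (l a).1.injective
        rw [map_inv, Isom.apply_inv, ha, mulVec_mulVec, coe_mul_inv, one_mulVec] }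
  have hN : N = ⊤ := eq_top_of_xSL_mem fun a b hab t v => by
    simp only [T, map_sum, map_smul, h a b hab, coe_xSL hab, transvection, add_mulVec, one_mulVec,
      Pi.add_apply, map_add, add_smul, smul_add, Finset.sum_add_distrib, smul_ite, smul_zero,
      Finset.sum_ite_eq', Finset.mem_univ, if_true, single_mulVec]
    congr 1
    rw [Finset.sum_eq_single a] <;> simp +contextual [smul_smul, mul_comm]
  have := (hN ▸ mem_top g : g ∈ N) (Pi.single b 1)
  rw [mulVec_single_one] at this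
  convert this using 2
  · simp only [T]
    rw [Finset.sum_eq_single b] <;> simp +contextual [Pi.single_apply]
  · rfl

theorem injective_of_act {ι K : Type*} [Fintype ι] [DecidableEq ι] [Field K] (ρ : K →+* F)
    (l : SpecialLinearGroup ι K →* f.Isom) {e : ι → V} (he : LinearIndependent F e)
    (h : ∀ g b, (l g).1 (e b) = ∑ a, ρ (g.1 a b) • e a) : Function.Injective l := by
  refine (injective_iff_map_eq_one l).2 fun g hg => Subtype.ext (Matrix.ext fun a b => ?_)
  have := h g b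
  rw [hg, ← map_one l, h] at this
  exact ρ.injective (Fintype.linearIndependent_iffₛ.1 he _ _ this a).symm

theorem range_eq_of {ι K G : Type*} [Fintype ι] [DecidableEq ι] [Field K] [Group G]
    {l : SpecialLinearGroup ι K →* G} {H : Subgroup G}
    (h1 : ∀ a b, a ≠ b → ∀ t, l (xSL a b t) ∈ H) (h2 : H ≤ l.range) : l.range = H :=
  le_antisymm (by
    rintro _ ⟨g, rfl⟩
    exact (eq_top_of_xSL_mem (H := H.comap l) h1 ▸ mem_top g : g ∈ H.comap l)) h2

namespace Frame

variable (fr : Frame f I)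

theorem linearIndependent {ι : Type*} {p : ι → I} (hp : Function.Injective p) :
    LinearIndependent F fun a => fr.e (p a) := by
  rw [linearIndependent_iff']
  intro s c h a ha
  have := congrArg (fun w => f.B w (fr.e (-p a))) h
  simp only [map_sum, LinearMap.sum_apply, B_smul_left, B_zero_left] at this
  rw [Finset.sum_eq_single a (fun b _ hb => by rw [fr.B_neg fun e => hb (hp e), mul_zero])
    (by simp [ha])] at this
  exact (mul_eq_zero.1 this).resolve_right (fr.B_ne _)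

/-- the linear group attached to a set of indices -/
def Levi (S : Set I) : Subgroup f.Isom := closure {g | ∃ i ∈ S, ∃ j ∈ S, j ≠ i ∧ g ∈ fr.RA i (-j)}

theorem mem_Levi {S : Set I} {i j : I} (hi : i ∈ S) (hj : j ∈ S) (h : j ≠ i) {g : f.Isom}
    (hg : g ∈ fr.RA i (-j)) : g ∈ fr.Levi S := subset_closure ⟨i, hi, j, hj, h, hg⟩

theorem Levi_le {S : Set I} {N : Subgroup f.Isom}
    (h : ∀ i ∈ S, ∀ j ∈ S, j ≠ i → ∀ g ∈ fr.RA i (-j), g ∈ N) : fr.Levi S ≤ N :=
  (closure_le _).2 fun g ⟨i, hi, j, hj, e, hg⟩ => h i hi j hj e g hg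

theorem Levi_mono {S T : Set I} (h : S ⊆ T) : fr.Levi S ≤ fr.Levi T :=
  fr.Levi_le fun _ hi _ hj e _ hg => fr.mem_Levi (h hi) (h hj) e hg

theorem exists_hom_levi [Finite F] {n : ℕ} (hn : 2 ≤ n) {p : Fin n → I}
    (hp : Function.Injective p) (hp' : ∀ a b, p a ≠ -p b) :
    ∃ l : SpecialLinearGroup (Fin n) F →* f.Isom, l.range = fr.Levi (Set.range p) ∧
      ∀ g b, (l g).1 (fr.e (p b)) = ∑ a, g.1 a b • fr.e (p a) := by
  have hx : ∀ a b (t : F), ∃ g : f.Isom, a ≠ b → IsE g (fr.e (p a))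
      (P.σ (-(P.ε * t * (f.B (fr.e (p b)) (fr.e (-p b)))⁻¹)) • fr.e (-p b)) 0 := fun a b t => by
    by_cases h : a = b
    · exact ⟨1, fun h' => absurd h h'⟩
    · exact (fr.exists_RA (neg_ne_neg_of fun e => h (hp e).symm) _).imp fun _ h _ => h
  choose x hx using hx
  have hε := P.εε
  have z : ∀ a b, f.B (fr.e (p a)) (fr.e (p b)) = 0 := fun a b => fr.B_eq' (hp' a b)
  have act : ∀ a b, a ≠ b → ∀ t c, (x a b t).1 (fr.e (p c)) =
      fr.e (p c) + if c = b then t • fr.e (p a) else 0 := fun a b hab t c => by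
    rw [(hx a b t hab).app, z, B_smul_right, P.σσ]
    split_ifs with h
    · subst h
      have := fr.B_ne (p c)
      match_scalars
      · rfl
      · ring
      · field_simp; linear_combination t * hε
    · simp [fr.B_neg fun e => h (hp e)]
  have act' : ∀ a b, a ≠ b → ∀ t c, c ≠ a → (x a b t).1 (fr.e (-p c)) = fr.e (-p c) :=
    fun a b hab t c h => fr.RA_apply ⟨_, hx a b t hab⟩ (neg_ne_neg_of fun e => h (hp e))
      (by rw [neg_neg]; exact (hp' _ _).symm)
  have add : ∀ {a b}, a ≠ b → ∀ t u, x a b t * x a b u = x a b (t + u) := fun {a b} h t u =>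
    (((hx a b t h).mul (fr.Qe _) (hx a b u h)).congr (by rw [← add_smul, ← map_add]; congr 2; ring)
      (by simp [f.B_self_of_Q (fr.Qe _)])).eq (hx a b _ h)
  obtain ⟨l, hl⟩ : ∃ l : SpecialLinearGroup (Fin n) F →* f.Isom,
      ∀ a b, a ≠ b → ∀ t, l (xSL a b t) = x a b t := by
    rcases hn.eq_or_lt with rfl | hn
    · obtain ⟨l, h1, h2⟩ := exists_hom_SL2 (x := x 0 1) (y := x 1 0)
        (fun a b => (add (by simp) a b).symm) (fun a b => (add (by simp) a b).symm) (fun t u ht => by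
          have n0 := fr.B_ne (p 0)
          have n1 := fr.B_ne (p 1)
          have a1 := (hx 0 1 t (by simp)).swap (fr.Qe _) (fr.B_neg fun e => by simpa using hp e)
          obtain ⟨b1, b2, -, -⟩ := fr.W1_apply (i := p 1) (j := -p 0) (y := x 0 1 t) (hp' _ _).symm
            (neg_ne_neg_of fun e => by simpa using hp e)
            (P.σ_ne_zero (by simp [ht, n0, P.ε_ne_zero])) (hx 1 0 (-t⁻¹) (by simp)) (by
              rw [neg_neg]
              refine a1.congr ?_ rfl
              congr 1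
              simp only [map_mul, map_inv₀, P.σσ, f.σ_B (fr.e (-_)), P.σε]
              rcases P.ε_eq with e | e <;> simp only [e] <;> field_simp)
          rw [neg_neg] at b2
          refine IsE.eq ?_ (hx 1 0 _ (by simp))
          refine ((hx 0 1 u (by simp)).of_conj b2 (fr.smul_ne_zero b2)).congr ?_ (mul_zero _)
          rw [map_smul, b1, smul_smul, smul_smul]
          congr 1
          apply P.σ.injective
          simp only [map_mul, map_neg, P.σσ, f.σ_B (fr.e (-_))]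
          rcases P.ε_eq with e | e <;> simp only [e] <;> field_simp)
      refine ⟨l, fun a b hab t => ?_⟩
      rcases fin_two_cases hab with ⟨rfl, rfl⟩ | ⟨rfl, rfl⟩
      · rw [xSL_zero_one, h1]
      · rw [xSL_one_zero, h2]
    refine StR.exists_hom (by rw [Fintype.card_fin]; exact hn) ⟨add, fun {a b c d} h1 h2 h3 h4 t u => ?_,
      fun {a b c} h1 h2 h3 t u => ?_⟩
    · exact fr.commute_RA ⟨_, hx c d u h2⟩ (by rw [act a b h1, if_neg h4.symm, add_zero])
        (act' a b h1 t d h3.symm)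
    · have a1 := ((hx a b t h1).inv (fr.Qe _)).conj (x b c u)
      rw [act b c h2, if_neg h3, add_zero] at a1
      rw [mul_assoc, mul_assoc, ← mul_assoc (x b c u)]
      have a2 : (x b c u).1 (fr.e (-p b)) = fr.e (-p b) + (f.B (fr.e (-p b)) (fr.e (p b)) *
          P.σ (-(P.ε * u * (f.B (fr.e (p c)) (fr.e (-p c)))⁻¹))) • fr.e (-p c) := by
        rw [(hx b c u h2).app, B_smul_right, fr.B_neg (hp' c b).symm, smul_smul]; simp
      refine (((hx a b t h1).mul (fr.Qe _) a1).congr ?_ ?_).eq (hx a c _ h3)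
      · rw [map_neg (x b c u).1, map_smul (x b c u).1, a2]
        have n0 := fr.B_ne (p b)
        have n1 := fr.B_ne (p c)
        match_scalars
        · ring
        · apply P.σ.injective
          simp only [map_mul, map_neg, P.σσ, f.σ_B (fr.e (-_)), map_one]
          rcases P.ε_eq with e | e <;> simp only [e] <;> field_simp
      · rw [map_neg (x b c u).1, map_smul (x b c u).1, a2]
        simp [f.B_self_of_Q (fr.Qe _), fr.B_neg (hp' b c).symm]
  refine ⟨l, range_eq_of (fun a b hab t => ?_) ?_, act_of_act (RingHom.id F) l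
    (e := fun a => fr.e (p a)) fun a b hab t c => by rw [hl a b hab, act a b hab]; rfl⟩
  · rw [hl a b hab]
    exact fr.mem_Levi (Set.mem_range_self a) (Set.mem_range_self b) (fun e => hab (hp e).symm) ⟨_, hx a b t hab⟩
  · refine fr.Levi_le ?_
    rintro _ ⟨a, rfl⟩ _ ⟨b, rfl⟩ e g ⟨c, hg⟩
    have hab : a ≠ b := fun e' => e (by rw [e'])
    refine ⟨xSL a b (-(P.ε * P.σ c * f.B (fr.e (p b)) (fr.e (-p b)))), ?_⟩
    rw [hl a b hab]
    refine (hx a b _ hab).eq (hg.congr ?_ rfl)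
    congr 1
    apply P.σ.injective
    have n0 := fr.B_ne (p b)
    rw [P.σσ]
    rcases P.ε_eq with e | e <;> simp only [e] <;> field_simp

theorem exists_param {S : Set I} {n : ℕ} (hn : 2 ≤ n) (hS : S.ncard = n) :
    ∃ p : Fin n → I, Function.Injective p ∧ Set.range p = S := by
  have : Finite S := Set.finite_of_ncard_pos (by omega)
  obtain ⟨e⟩ : Nonempty (Fin n ≃ S) := Finite.card_eq.1 (by simpa using hS.symm)
  refine ⟨fun a => e a, fun a b h => e.injective (Subtype.ext h), ?_⟩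
  ext i; exact ⟨by rintro ⟨a, rfl⟩; exact (e a).2, fun h => ⟨e.symm ⟨i, h⟩, by simp⟩⟩

theorem exists_equiv_levi [Finite F] {S : Set I} {n : ℕ} (hn : 2 ≤ n) (hS : S.ncard = n)
    (hS' : ∀ i ∈ S, -i ∉ S) : Nonempty (SpecialLinearGroup (Fin n) F ≃* fr.Levi S) := by
  obtain ⟨p, hp, rfl⟩ := exists_param hn hS
  obtain ⟨l, h1, h2⟩ := fr.exists_hom_levi hn hp fun a b h => hS' _ ⟨b, rfl⟩ ⟨a, h⟩
  exact ⟨h1 ▸ MonoidHom.ofInjective
    (injective_of_act (RingHom.id F) l (fr.linearIndependent hp) h2)⟩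

theorem Levi_eq_one [Finite F] [Finite I] {S : Set I} (hS' : ∀ i ∈ S, -i ∉ S) {j : I}
    {g : f.Isom} (hg : g ∈ fr.Levi S) (h1 : ∀ a ∈ S, a ≠ j → g.1 (fr.e a) = fr.e a)
    (h2 : fr.Mv g j j) : g = 1 := by
  by_cases hn : 2 ≤ S.ncard
  swap
  · refine fr.Levi_le (N := ⊥) (fun a ha b hb e => absurd ?_ hn) hg
    exact (Set.one_lt_ncard (Set.toFinite S)).2 ⟨a, ha, b, hb, e.symm⟩
  obtain ⟨p, hp, hS⟩ := exists_param hn rfl
  obtain ⟨l, h3, h4⟩ := fr.exists_hom_levi hn hp fun a b h =>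
    hS' _ (hS.le ⟨b, rfl⟩) (hS.le ⟨a, h⟩)
  rw [hS] at h3
  obtain ⟨g, rfl⟩ := h3.ge hg
  obtain ⟨c, hc⟩ := h2
  have key : ∀ b, ∃ d : F, (p b ≠ j → d = 1) ∧ ∀ a, g.1 a b = if a = b then d else 0 := fun b => by
    have : ∃ d : F, (p b ≠ j → d = 1) ∧ (l g).1 (fr.e (p b)) = d • fr.e (p b) := by
      by_cases e : p b = j
      · exact ⟨c, fun h => absurd e h, e ▸ hc⟩
      · exact ⟨1, fun _ => rfl, by rw [h1 _ (hS.le ⟨b, rfl⟩) e, one_smul]⟩
    obtain ⟨d, d1, d2⟩ := this
    refine ⟨d, d1, Fintype.linearIndependent_iffₛ.1 (fr.linearIndependent hp) _ _ ?_⟩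
    rw [← h4, d2]; simp
  choose d d1 d2 using key
  have e1 : g.1 = diagonal d := by ext a b; rw [d2, diagonal_apply]; split_ifs with h <;> simp [*]
  have e2 := g.2
  rw [e1, det_diagonal] at e2
  have e3 : ∀ b, d b = 1 := fun b => by
    by_cases e : p b = j
    · rwa [Finset.prod_eq_single b (fun a _ ha => d1 a fun e' => ha (hp (e'.trans e.symm)))
        (by simp)] at e2
    · exact d1 b e
  rw [show g = 1 from Subtype.ext (by rw [e1, show d = fun _ => 1 from funext e3]; simp), map_one]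

end Frame

theorem exists_two_gen_of_equiv {K G : Type*} [Field K] [Finite K] [Group G] {n : ℕ} (hn : 2 ≤ n)
    {H : Subgroup G} (e : Nonempty (SpecialLinearGroup (Fin n) K ≃* H)) :
    ∃ a ∈ H, ∃ b ∈ H, H ≤ closure {a, b} := by
  obtain ⟨e⟩ := e
  obtain ⟨a, b, h⟩ := exists_two_gen (K := K) hn
  refine ⟨e a, (e a).2, e b, (e b).2, fun g hg => ?_⟩
  have := congrArg (map (H.subtype.comp e.toMonoidHom)) h
  rw [MonoidHom.map_closure, Set.image_pair] at this
  exact this.ge ⟨e.symm ⟨g, hg⟩, mem_top _, by simp⟩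

theorem Frame.exists_hom_C {K : Type*} [Field K] [Finite K] (fr : Frame f I) (i : I)
    (hV : ∀ v ∈ fr.V0, v = 0) (ρ : K →+* F) (hρ : ∀ a, P.σ (ρ a) = ρ a) {z : F} (hz : z ≠ 0)
    (hΛ : ∀ l, f.IsLam 0 l ↔ ∃ a, l = ρ a * z) :
    ∃ l : SL(2, K) →* f.Isom, l.range = fr.RC i ⊔ fr.RC (-i) ∧ ∃ c : F, c ≠ 0 ∧
      ∀ g b, (l g).1 (![fr.e (-i), c • fr.e i] b) = ∑ a, ρ (g.1 a b) • ![fr.e (-i), c • fr.e i] a := by
  have n1 := fr.B_ne i
  have n2 := fr.B_ne' i
  have n3 := P.σ_ne_zero n1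
  have n4 := P.σ_ne_zero hz
  have n5 := f.σ_B (fr.e i) (fr.e (-i))
  have z1 := ((hΛ z).2 ⟨1, by simp⟩)
  have z2 : P.σ z = -(P.ε * z) := by
    have := z1.2
    rw [B_zero_left] at this
    linear_combination P.ε * this - P.σ z * P.εε
  set z' := -(P.σ z * f.B (fr.e i) (fr.e (-i)) * P.σ (f.B (fr.e i) (fr.e (-i))))⁻¹ with hz'
  have z3 : ∀ a, f.IsLam 0 (ρ a * z') := fun a => by
    by_cases h : a = 0
    · simpa [h] using f.isLam_zero_of_Q f.Q_zero
    have a0 : ρ a ≠ 0 := by simpa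
    have := (fr.isLam_W2 (i := i) ((hΛ _).2 ⟨-a⁻¹, rfl⟩) (by simp [h, hz])).1
    rw [smul_zero] at this
    convert this using 1
    simp only [hz', map_mul, hρ, map_neg, map_inv₀]
    field_simp
  have hX : ∀ a, ∃ g : f.Isom, IsE g (fr.e (-i)) 0 (ρ a * z') :=
    fun a => exists_isE (fr.Qe _) (f.B_zero_left _) (z3 a)
  have hY : ∀ a, ∃ g : f.Isom, IsE g (fr.e i) 0 (ρ a * z) :=
    fun a => exists_isE (fr.Qe _) (f.B_zero_left _) ((hΛ _).2 ⟨a, rfl⟩)
  choose X hX using hX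
  choose Y hY using hY
  obtain ⟨l, h1, h2⟩ := exists_hom_SL2 (x := X) (y := Y)
    (fun a b => (hX _).eq (((hX a).mul (fr.Qe _) (hX b)).congr (add_zero _) (by simp [add_mul])))
    (fun a b => (hY _).eq (((hY a).mul (fr.Qe _) (hY b)).congr (add_zero _) (by simp [add_mul])))
    (fun t u ht => by
      have a0 : ρ t ≠ 0 := by simpa
      have e : ρ t * z' = (P.σ (ρ (-t⁻¹) * z) * f.B (fr.e i) (fr.e (-i)) *
          P.σ (f.B (fr.e i) (fr.e (-i))))⁻¹ := by
        simp only [hz', map_mul, hρ, map_neg, map_inv₀]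
        field_simp
      obtain ⟨a1, -⟩ := fr.W2_apply (y := X t) (y' := X t) (zero_mem _)
        (by simp [ht, hz]) (hY (-t⁻¹)) ((hX t).congr (smul_zero _).symm e)
        ((hX t).congr (smul_zero _).symm e)
      refine IsE.eq ?_ (hY _)
      refine ((hX u).of_conj a1 (fr.smul_ne_zero a1)).congr (by simp) ?_
      simp only [hz', map_mul, hρ, map_neg, map_inv₀, map_pow, P.σε, f.σ_B (fr.e (-i)), n5]
      rcases P.ε_eq with e | e <;> simp only [e] <;> field_simp)
  refine ⟨l, range_eq_of (fun a b hab t => ?_) ?_, -(P.ε * z * f.B (fr.e (-i)) (fr.e i)),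
    by simp [hz, n2, P.ε_ne_zero], act_of_act ρ l fun a b hab t c => ?_⟩
  rotate_right
  · rcases fin_two_cases hab with ⟨rfl, rfl⟩ | ⟨rfl, rfl⟩
    · rw [xSL_zero_one, h1, (hX _).app]
      fin_cases c
      · simp [f.B_self_of_Q (fr.Qe _)]
      · simp only [Fin.mk_one, cons_val_one, cons_val_zero, if_true, B_smul_left, B_zero_right, hz',
          n5, z2]
        rcases P.ε_eq with e | e <;> simp only [e] <;> match_scalars <;> field_simp <;> ring
    · rw [xSL_one_zero, h2, (hY _).app]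
      fin_cases c
      · simp only [Fin.zero_eta, cons_val_one, cons_val_zero, if_true, B_zero_right]
        module
      · simp [f.B_self_of_Q (fr.Qe _)]
  · rcases fin_two_cases hab with ⟨rfl, rfl⟩ | ⟨rfl, rfl⟩
    · rw [xSL_zero_one, h1]; exact mem_sup_right ⟨0, zero_mem _, _, hX _⟩
    · rw [xSL_one_zero, h2]; exact mem_sup_left ⟨0, zero_mem _, _, hY _⟩
  · refine sup_le ?_ ?_ <;> rintro g ⟨v, hv, c, hg⟩ <;> obtain rfl := hV v hv
    · obtain ⟨a, rfl⟩ := (hΛ c).1 hg.lam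
      exact ⟨SL2.lo a, (h2 _).trans ((hY _).eq hg)⟩
    · obtain ⟨a, ha⟩ := (hΛ c).1 hg.lam
      obtain ⟨b, hb⟩ := (hΛ _).1 (z3 1)
      have b0 : b ≠ 0 := by rintro rfl; simp [hz', n1, n3, n4] at hb
      refine ⟨SL2.up (a * b⁻¹), (h1 _).trans ((hX _).eq (hg.congr rfl ?_))⟩
      rw [map_one, one_mul] at hb
      have : ρ b ≠ 0 := by simpa
      rw [ha, hb, map_mul, map_inv₀]
      field_simp

theorem Frame.li_pair (fr : Frame f I) (i : I) {c : F} (hc : c ≠ 0) :
    LinearIndependent F ![fr.e (-i), c • fr.e i] := by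
  have := (fr.linearIndependent (p := ![-i, i]) (by
    intro a b h
    by_contra hab
    rcases fin_two_cases hab with ⟨rfl, rfl⟩ | ⟨rfl, rfl⟩
    · exact fr.ne i h
    · exact fr.ne i h.symm)).units_smul ![1, Units.mk0 c hc]
  convert this using 1
  ext a
  fin_cases a <;> simp [Units.smul_def]

section

variable {K : Type*} [Field K] [Finite K] (fr : Frame f I) (i : I)
  (hV : ∀ v ∈ fr.V0, v = 0) (ρ : K →+* F) (hρ : ∀ a, P.σ (ρ a) = ρ a) {z : F} (hz : z ≠ 0)
  (hΛ : ∀ l, f.IsLam 0 l ↔ ∃ a, l = ρ a * z)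
include hV hρ hz hΛ

theorem Frame.exists_equiv_C : Nonempty (SL(2, K) ≃* (fr.RC i ⊔ fr.RC (-i) : Subgroup _)) := by
  obtain ⟨l, h1, c, hc, h2⟩ := fr.exists_hom_C i hV ρ hρ hz hΛ
  exact ⟨h1 ▸ MonoidHom.ofInjective (injective_of_act ρ l (fr.li_pair i hc) h2)⟩

theorem Frame.torus_C {g : f.Isom} (hg : g ∈ fr.RC i ⊔ fr.RC (-i)) (h : fr.Mv g (-i) (-i)) :
    ∃ a, g.1 (fr.e (-i)) = ρ a • fr.e (-i) := by
  obtain ⟨l, h1, c, hc, h2⟩ := fr.exists_hom_C i hV ρ hρ hz hΛ
  obtain ⟨g, rfl⟩ := h1.ge hg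
  obtain ⟨d, hd⟩ := h
  have := h2 g 0
  simp only [cons_val_zero, hd] at this
  have := Fintype.linearIndependent_iffₛ.1 (fr.li_pair i hc) ![d, 0] (fun a => ρ (g.1 a 0))
    (by simpa using this) 0
  exact ⟨g.1 0 0, by rw [hd]; exact congrArg (· • _) this⟩

theorem Frame.exists_torus_C {a : K} (ha : a ≠ 0) : ∃ g ∈ fr.RC i ⊔ fr.RC (-i),
    g.1 (fr.e (-i)) = ρ a • fr.e (-i) ∧ fr.Mv g i i := by
  obtain ⟨l, h1, c, hc, h2⟩ := fr.exists_hom_C i hV ρ hρ hz hΛ
  refine ⟨l (SL2.dg (Units.mk0 a ha)), h1.le ⟨_, rfl⟩, by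
    simpa [SL2.dg] using h2 (SL2.dg (Units.mk0 a ha)) 0,
    ρ a⁻¹, smul_right_injective _ hc ?_⟩
  have := h2 (SL2.dg (Units.mk0 a ha)) 1
  simp only [cons_val_one, cons_val_zero, map_smul] at this
  simp only [this]
  simp [SL2.dg, smul_smul, mul_comm]

end

end Cfsg.Agent.Cls
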