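import Cfsg.Agent.Lib.Cls.OfBase

/-!
Monomial elements of the linear subgroups; spanning root subgroups by the action of tori.
-/

set_option autoImplicit false

namespace Cfsg.Agent.Cls

open Forms Forms.Form Subgroup
open scoped commutatorElement

variable {F : Type*} [Field F] {P : Param F} {V : Type*} [AddCommGroup V] [Module F V]
  {f : Form P V} {I : Type*} [InvolutiveNeg I] {J : Type*} [Group J]

namespace Frame

variable (fr : Frame f I)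

theorem pSt1 [Finite I] : PSt1 fr (MonoidHom.id _) fr.U where
  inj _ _ _ h := h
  mem _ _ h := h
  surj _ g h := ⟨g, h, rfl⟩
  norm _ _ _ _ h _ hy := fr.conj_mem_U h hy
  swap _ _ _ h _ _ hx := fr.RA_subset_U (fr.RA_swap h hx)
  monoW _ _ _ r hr := ⟨hr.1, fun i j h y => ⟨h.conj_U, fun hy => by
    simpa [mul_assoc] using h.inv.conj_U hy⟩⟩

theorem exists_torus_A [Finite I] [Finite F] {a b : I} (h1 : b ≠ a) (h2 : b ≠ -a) {v : F}
    (hv : v ≠ 0) : ∃ g : f.Isom, (∀ S : Set I, a ∈ S → b ∈ S → g ∈ fr.Levi S) ∧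
      g.1 (fr.e a) = v • fr.e a ∧ g.1 (fr.e b) = v⁻¹ • fr.e b ∧ (∀ k, fr.Mv g k k) ∧
      (∀ k, k ≠ a → k ≠ -a → k ≠ b → k ≠ -b → g.1 (fr.e k) = fr.e k) ∧ ∀ w ∈ fr.V0, g.1 w = w := by
  obtain ⟨g, hg, a1, a2⟩ := fr.pSt1.exists_HR (neg_ne_of h2) (neg_ne_neg_of h1) (P.σ_ne_zero hv)
  have a3 := fr.pSt1.HR_mv' (neg_ne_neg_of h1) hg
  refine ⟨g, fun S ha hb => HR_le (N := fr.Levi S) (fun r hr r' hr' => ?_) hg,
    by rwa [P.σσ] at a2, ?_, a3, fun k k1 k2 k3 k4 => ?_, fun w => HR_apply_V0 (neg_ne_of h2) hg⟩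
  · have : ∀ r ∈ WR fr (MonoidHom.id _) fr.U a (-b), r ∈ fr.Levi S := by
      rintro _ ⟨-, x, hx, -, y, hy, y', hy', rfl⟩
      rw [neg_neg, mem_XR_of_ne h2] at hy hy'
      exact mul_mem (mul_mem (fr.mem_Levi hb ha h1.symm (fr.RA_swap (by rwa [neg_neg]) hy.2))
        (fr.mem_Levi ha hb h1 ((mem_XR_of_ne (neg_ne_of h2)).1 hx).2))
        (fr.mem_Levi hb ha h1.symm (fr.RA_swap (by rwa [neg_neg]) hy'.2))
    exact mul_mem (this r hr) (inv_mem (this r' hr'))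
  · simpa [P.σσ] using fr.apply_neg a1 (a3 _)
  · exact HR_le_FixV (S := {a, -a, b, -b}) (by simp) (by simp) (by simp) hg k (by simp [*])

theorem Levi_stab [Finite I] [Finite F] {S : Set I} (hS : ∀ i ∈ S, -i ∉ S)
    (hS' : ∀ i, i ∈ S ∨ -i ∈ S) {T : Set I} (hTS : T ⊆ S) {g : f.Isom} (hg : g ∈ fr.Levi S)
    (hM : g ∈ fr.Mon) (hT : ∀ i ∈ T, g.1 (fr.e i) = fr.e i) : g ∈ fr.Levi (S \ T) := by
  have ne : ∀ {a b}, a ∈ S → b ∈ S → b ≠ -a := fun ha hb e => hS _ ha (e ▸ hb)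
  rcases (S \ T).eq_empty_or_nonempty with h0 | ⟨j, hj⟩
  · rcases S.eq_empty_or_nonempty with rfl | ⟨i, hi⟩
    · simpa using hg
    have : ∀ a ∈ S, g.1 (fr.e a) = fr.e a := fun a ha => hT a (Set.sdiff_eq_empty.1 h0 ha)
    rw [fr.Levi_eq_one hS hg (fun a ha _ => this a ha) (.of_eq (this i hi))]
    exact one_mem _
  have key : ∀ n (g : f.Isom), g ∈ fr.Levi S → g ∈ fr.Mon → (∀ i ∈ T, g.1 (fr.e i) = fr.e i) →
      {a | a ∈ S ∧ a ≠ j ∧ g.1 (fr.e a) ≠ fr.e a}.ncard = n → g ∈ fr.Levi (S \ T) := by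
    intro n
    induction n using Nat.strong_induction_on with
    | _ n ih =>
      intro g hg hM hT hn
      by_cases h0 : ∀ a ∈ S, a ≠ j → g.1 (fr.e a) = fr.e a
      · obtain ⟨b, hb⟩ := hM.1 j
        have : b = j := by
          by_contra e
          exact e ((Mv.of_eq (h0 b (fr.mv_mem_of_Levi hS hS' hg hj.1 hb) e)).inj hb)
        rw [fr.Levi_eq_one hS hg h0 (this ▸ hb)]
        exact one_mem _
      push Not at h0
      obtain ⟨a, ha, a1, a2⟩ := h0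
      obtain ⟨b, hb⟩ := hM.1 a
      have b1 := fr.mv_mem_of_Levi hS hS' hg ha hb
      have nf : ∀ k, g.1 (fr.e k) = fr.e k → k ≠ a ∧ k ≠ b := fun k hk =>
        ⟨fun e => a2 (e ▸ hk), fun e => a2 ((Mv.of_eq hk).inj (e ▸ hb) ▸ hk)⟩
      have a3 : a ∈ S \ T := ⟨ha, fun e => a2 (hT a e)⟩
      obtain ⟨s, hs, s1, -, ⟨c, s2⟩, s3⟩ := fr.exists_swap a3
        (⟨b1, fun e => (nf b (hT b e)).2 rfl⟩ : b ∈ S \ T) (ne ha b1)
      obtain ⟨d, hd⟩ := hb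
      obtain ⟨t, t1, t2, -, t3, t4, -⟩ := fr.exists_torus_A a1.symm (ne ha hj.1)
        (inv_ne_zero (mul_ne_zero (fr.smul_ne_zero hd) (fr.smul_ne_zero s2)))
      have fx : ∀ k ∈ S, k ≠ j → g.1 (fr.e k) = fr.e k → (t * s * g).1 (fr.e k) = fr.e k :=
        fun k hk k1 k2 => by
          rw [Isom.mul_apply, k2, Isom.mul_apply, s3 k (nf k k2).1 (ne ha hk) (nf k k2).2 (ne b1 hk),
            t4 k (nf k k2).1 (ne ha hk) k1 (ne hj.1 hk)]
      have m1 : t * s ∈ fr.Levi (S \ T) := mul_mem (t1 _ a3 hj) hs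
      refine (mul_mem_cancel_left m1).1 (ih _ ?_ _ (mul_mem (fr.Levi_mono Set.sdiff_subset m1) hg)
        (mul_mem (mul_mem (fr.mem_Mon fun k => ⟨k, t3 k⟩) s1) hM) (fun k hk => ?_) rfl)
      · refine hn ▸ Set.ncard_lt_ncard ⟨fun k hk => ⟨hk.1, hk.2.1, fun e => hk.2.2 (fx k hk.1 hk.2.1 e)⟩,
          fun e => (e ⟨ha, a1, a2⟩).2.2 ?_⟩
        rw [Isom.mul_apply, hd, map_smul, Isom.mul_apply, s2, map_smul, t2, smul_smul, smul_smul,
          mul_inv_cancel₀ (mul_ne_zero (fr.smul_ne_zero hd) (fr.smul_ne_zero s2)), one_smul]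
      · exact fx k (hTS hk) (fun e => hj.2 (e ▸ hk)) (hT k hk)
  exact key _ g hg hM hT rfl

end Frame

end Cfsg.Agent.Cls
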