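import Cfsg.Agent.Lib.Cls.Std

/-!
Root subgroups and Weyl elements in a group with the parabolic Steinberg relations.
-/

set_option autoImplicit false

namespace Cfsg.Agent.Cls

open Forms Forms.Form Subgroup
open scoped commutatorElement

variable {F : Type*} [Field F] {P : Param F} {V : Type*} [AddCommGroup V] [Module F V]
  {f : Form P V} {I : Type*} [InvolutiveNeg I] {J : Type*} [Group J]

namespace Frame

variable (fr : Frame f I)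

open Classical in
/-- the root subgroups, of both kinds -/
noncomputable def RX (i j : I) : Subgroup f.Isom := if j = i then fr.RC i else fr.RS i j

theorem RX_self (i : I) : fr.RX i i = fr.RC i := if_pos rfl

theorem RX_of_ne {i j : I} (h : j ≠ i) : fr.RX i j = fr.RS i j := if_neg h

theorem RX_le_U (i j : I) : fr.RX i j ≤ fr.U i := by
  by_cases h : j = i
  · rw [h, RX_self]; exact fr.RC_le_U i
  · rw [fr.RX_of_ne h]; exact fun _ => fr.RA_subset_U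

theorem RX_symm {i j : I} (h2 : j ≠ -i) : fr.RX i j ≤ fr.RX j i := by
  by_cases h : j = i
  · rw [h]
  · rw [fr.RX_of_ne h, fr.RX_of_ne (Ne.symm h)]; exact fun _ => fr.RA_swap h2

theorem RX_apply {i j k : I} {g : f.Isom} (h : g ∈ fr.RX i j) (h1 : k ≠ -i) (h2 : k ≠ -j) :
    g.1 (fr.e k) = fr.e k := by
  by_cases e : j = i
  · rw [e, RX_self] at h; exact fr.RC_apply h h1
  · rw [fr.RX_of_ne e] at h; exact fr.RA_apply h h1 h2

theorem RX_B_ne {i j : I} (h2 : j ≠ -i) {g : f.Isom} (h : g ∈ fr.RX i j) (h0 : g ≠ 1) :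
    f.B (g.1 (fr.e (-i))) (fr.e (-j)) ≠ 0 := by
  by_cases e : j = i
  · rw [e, RX_self] at h; rw [e]; exact fr.B_apply_ne h h0
  · rw [fr.RX_of_ne e] at h
    obtain ⟨a, h⟩ := h
    have ha : a ≠ 0 := by rintro rfl; exact h0 (IsE.eq_one (by simpa using h))
    rw [h.app, B_smul_right, fr.B_eq' (neg_ne_neg_of (Ne.symm e))]
    simp [fr.B_neg (neg_ne_of (ne_neg_swap h2)), fr.B_ne, fr.B_ne', ha]

theorem Mv.neg' {fr : Frame f I} {g : f.Isom} (hg : g ∈ fr.Mon) {i j : I} (h : fr.Mv g i j) :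
    fr.Mv g (-i) (-j) := let ⟨_, hk⟩ := hg.1 (-i); h.neg hk ▸ hk

theorem Mv.conj_RX {fr : Frame f I} {g x : f.Isom} (hg : g ∈ fr.Mon) {i j i' j' : I}
    (h : fr.Mv g i i') (h' : fr.Mv g j j') (hx : x ∈ fr.RX i j) : g * x * g⁻¹ ∈ fr.RX i' j' := by
  by_cases e : j = i
  · subst e
    obtain rfl := h.unique h'
    rw [RX_self] at hx ⊢
    exact h.conj_RC hg hx
  · rw [fr.RX_of_ne e] at hx
    rw [fr.RX_of_ne fun e' : j' = i' => e (h'.inj (e' ▸ h))]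
    exact h.conj_RA h' hx

theorem exists_W [Finite I] {i j : I} (h2 : j ≠ -i) {x : f.Isom} (hx : x ∈ fr.RX i j)
    (h0 : x ≠ 1) : ∃ y ∈ fr.RX (-i) (-j), ∃ y' ∈ fr.RX (-i) (-j), y * x * y' ∈ fr.Mon := by
  by_cases e : j = i
  · subst e
    rw [RX_self] at hx ⊢
    obtain ⟨y, hy, y', hy', h, -⟩ := fr.W2_mem hx h0
    exact ⟨y, hy, y', hy', h⟩
  · rw [fr.RX_of_ne e] at hx
    rw [fr.RX_of_ne (neg_ne_neg_of e)]
    obtain ⟨y, hy, h, -⟩ := fr.W1_mem e h2 hx h0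
    exact ⟨y, hy, y, hy, h⟩

theorem exists_comm_A {a b l : I} (h1 : l ≠ a) (h2 : l ≠ -a) (h3 : l ≠ b) (h4 : l ≠ -b)
    (h5 : b ≠ -a) {s : f.Isom} (hs : s ∈ fr.RA a b) :
    ∃ x ∈ fr.RA a l, ∃ y ∈ fr.RA (-l) b, s = ⁅x, y⁆ := by
  obtain ⟨c, hs⟩ := hs
  obtain ⟨x, hx⟩ := fr.exists_RA h2 (-c)
  obtain ⟨y, hy⟩ := fr.exists_RA (i := -l) (j := b) (by rw [neg_neg]; exact h3.symm)
    (f.B (fr.e l) (fr.e (-l)))⁻¹
  refine ⟨x, ⟨_, hx⟩, y, ⟨_, hy⟩, hs.eq ?_⟩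
  have e1 : y.1 (fr.e a) = fr.e a :=
    fr.RA_apply ⟨_, hy⟩ (by rw [neg_neg]; exact h1.symm) (ne_neg_swap h5)
  have e2 : y.1 (fr.e l) = fr.e l + fr.e b := by
    rw [hy.app, B_smul_right, fr.B_eq' h4, smul_smul, mul_inv_cancel₀ (fr.B_ne l)]; simp
  have := (hx.inv (fr.Qe a)).conj y
  rw [e1] at this
  replace this := hx.mul (fr.Qe a) this
  rw [commutatorElement_def, mul_assoc, mul_assoc, ← mul_assoc y]
  refine this.congr ?_ ?_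
  · simp only [map_neg, map_smul, e2]; module
  · simp [e2, f.B_self_of_Q (fr.Qe l), fr.B_eq' (ne_neg_swap h4)]

theorem comm_AC {a b : I} (h1 : b ≠ a) (h2 : b ≠ -a) {x y : f.Isom} {c l : F} {v : V}
    (hv : v ∈ fr.V0) (hx : IsE x (fr.e a) (c • fr.e b) 0) (hy : IsE y (fr.e (-b)) v l) :
    ∃ s : f.Isom, IsE s (fr.e a) ((c * P.ε * l * f.B (fr.e b) (fr.e (-b))) • fr.e (-b)) 0 ∧
      IsE (⁅x, y⁆ * s⁻¹) (fr.e a) (-(c * f.B (fr.e b) (fr.e (-b))) • v)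
        (c * f.B (fr.e b) (fr.e (-b)) * P.σ (c * f.B (fr.e b) (fr.e (-b))) * l) := by
  obtain ⟨s, hs⟩ := fr.exists_RA (neg_ne_neg_of h1) (c * P.ε * l * f.B (fr.e b) (fr.e (-b)))
  refine ⟨s, hs, ?_⟩
  have v1 := fr.mem_V0.1 hv
  have v2 : ∀ i, f.B (fr.e i) v = 0 := fun i => f.B_eq_zero_symm (v1 i)
  have e1 : y.1 (fr.e a) = fr.e a := hy.apply_of_orth (fr.B_neg h1.symm) (v2 a)
  have e2 : y.1 (fr.e b) = fr.e b + f.B (fr.e b) (fr.e (-b)) • v -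
      (P.ε * l * f.B (fr.e b) (fr.e (-b))) • fr.e (-b) := by
    rw [hy.app, v2]; simp
  have := (hx.inv (fr.Qe a)).conj y
  rw [e1] at this
  replace this := hx.mul (fr.Qe a) this
  rw [commutatorElement_def, mul_assoc x y, mul_assoc x]
  refine (this.mul (fr.Qe a) (hs.inv (fr.Qe a))).congr ?_ ?_
  · simp only [map_neg, map_smul, e2]; module
  · rw [map_neg y.1, map_smul y.1, e2]
    simp only [B_neg_left, B_neg_right, B_add_left, B_add_right, B_sub_left,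
      B_sub_right, B_smul_left, B_smul_right, v1, v2, f.B_self_of_Q (fr.Qe _), map_zero, map_mul,
      f.σ_B]
    ring

theorem exists_comm_C {a b : I} (h1 : b ≠ a) (h2 : b ≠ -a) {s : f.Isom} (hs : s ∈ fr.RC a) :
    ∃ x ∈ fr.RA a b, ∃ y ∈ fr.RC (-b), ∃ t ∈ fr.RA a (-b), s = ⁅x, y⁆ * t := by
  obtain ⟨v, hv, l, hs⟩ := hs
  obtain ⟨x, hx⟩ := fr.exists_RA h2 (f.B (fr.e b) (fr.e (-b)))⁻¹
  obtain ⟨y, hy⟩ := exists_isE (fr.Qe (-b)) (fr.mem_V0.1 (neg_mem hv) _) hs.lam.neg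
  obtain ⟨t, ht, h⟩ := fr.comm_AC h1 h2 (neg_mem hv) hx hy
  refine ⟨x, ⟨_, hx⟩, y, ⟨_, neg_mem hv, _, hy⟩, t⁻¹, fr.inv_mem_RA ⟨_, ht⟩, hs.eq ?_⟩
  rw [inv_mul_cancel₀ (fr.B_ne b)] at h
  simpa using h

theorem l_ne_zero {i : I} {y : f.Isom} {v : V} {l : F} (hv : v ∈ fr.V0) (hy : IsE y (fr.e i) v l)
    (h0 : y ≠ 1) : l ≠ 0 := by
  rintro rfl
  have := fr.aniso v (fr.mem_V0.1 hv) (by rw [← hy.lam.1, map_zero])
  subst this
  exact h0 hy.eq_one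

theorem exists_comm_A' {a b : I} (h1 : b ≠ a) (h2 : b ≠ -a) (hC : fr.RC b ≠ ⊥) {s : f.Isom}
    (hs : s ∈ fr.RA a b) :
    ∃ x ∈ fr.RA a (-b), ∃ y ∈ fr.RC b, ∃ t ∈ fr.RC a, s = t * ⁅x, y⁆ := by
  obtain ⟨c, hs⟩ := hs
  obtain ⟨⟨y, v, hv, l, hy⟩, h0⟩ := ne_bot_iff_exists_ne_one.1 hC
  have hl := fr.l_ne_zero hv hy fun e => h0 (Subtype.ext e)
  obtain ⟨x, hx⟩ := fr.exists_RA (neg_ne_neg_of h1)
    (c * (P.ε * l * f.B (fr.e (-b)) (fr.e b))⁻¹)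
  obtain ⟨t, ht, h⟩ := fr.comm_AC (neg_ne_of h2) (neg_ne_neg_of h1) hv hx (by rwa [neg_neg])
  rw [neg_neg] at ht
  have : t = s := ht.eq (hs.congr (by
    congr 1
    have := fr.B_ne' b
    have := P.ε_ne_zero
    field_simp) rfl)
  subst this
  exact ⟨x, ⟨_, hx⟩, y, ⟨_, hv, _, hy⟩, _, inv_mem ⟨_, Submodule.smul_mem _ _ hv, _, h⟩, by group⟩

end Frame

section defs

variable (fr : Frame f I) (φ : J →* f.Isom) (U : I → Subgroup J)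

/-- the root subgroups -/
noncomputable def XR (i j : I) : Subgroup J := U i ⊓ (fr.RX i j).comap φ

/-- the monomial elements permuting the groups `U i` -/
def Mx : Subgroup J where
  carrier := {m | φ m ∈ fr.Mon ∧ ∀ i j, fr.Mv (φ m) i j → ∀ y, y ∈ U i ↔ m * y * m⁻¹ ∈ U j}
  one_mem' := ⟨by rw [map_one]; exact one_mem _, fun i j h y => by
    rw [map_one] at h; rw [h.unique .one]; simp⟩
  mul_mem' := fun {a b} ha hb => ⟨by rw [map_mul]; exact mul_mem ha.1 hb.1, fun i j h y => by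
    obtain ⟨k, hk⟩ := hb.1.1 i
    have : fr.Mv (φ a) k j := by simpa using h.mul hk.inv
    rw [hb.2 i k hk, ha.2 k j this]; simp [mul_assoc]⟩
  inv_mem' := fun {a} ha => ⟨by rw [map_inv]; exact inv_mem ha.1, fun i j h y => by
    rw [ha.2 j i (by simpa using h.inv)]; simp [mul_assoc]⟩

/-- the Weyl elements -/
def WR (i j : I) : Set J :=
  {r | φ r ∈ fr.Mon ∧ ∃ x ∈ XR fr φ U i j, x ≠ 1 ∧ ∃ y ∈ XR fr φ U (-i) (-j),
    ∃ y' ∈ XR fr φ U (-i) (-j), r = y * x * y'}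

/-- The parabolic Steinberg relations, with the action of the Weyl elements. -/
structure PSt1 : Prop extends PSt0 fr φ U where
  monoW : ∀ i j, j ≠ -i → ∀ r ∈ WR fr φ U i j, r ∈ Mx fr φ U

end defs

variable {fr : Frame f I} {φ : J →* f.Isom} {U : I → Subgroup J}

theorem Mx_conj {m y : J} (hm : m ∈ Mx fr φ U) {i j : I} (h : fr.Mv (φ m) i j) (hy : y ∈ U i) :
    m * y * m⁻¹ ∈ U j := (hm.2 i j h y).1 hy

theorem Mx_conj_X {m y : J} (hm : m ∈ Mx fr φ U) {i j i' j' : I} (h : fr.Mv (φ m) i i')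
    (h' : fr.Mv (φ m) j j') (hy : y ∈ XR fr φ U i j) : m * y * m⁻¹ ∈ XR fr φ U i' j' :=
  ⟨Mx_conj hm h hy.1, by
    change φ _ ∈ fr.RX _ _
    rw [map_mul, map_mul, map_inv]; exact h.conj_RX hm.1 h' hy.2⟩

theorem Mx_conj_W {m r : J} (hm : m ∈ Mx fr φ U) {i j i' j' : I} (h : fr.Mv (φ m) i i')
    (h' : fr.Mv (φ m) j j') (hr : r ∈ WR fr φ U i j) : m * r * m⁻¹ ∈ WR fr φ U i' j' := by
  obtain ⟨h1, x, hx, h0, y, hy, y', hy', rfl⟩ := hr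
  refine ⟨by rw [map_mul, map_mul, map_inv]; exact mul_mem (mul_mem hm.1 h1) (inv_mem hm.1),
    _, Mx_conj_X hm h h' hx, by simpa using h0, _, Mx_conj_X hm (h.neg' hm.1) (h'.neg' hm.1) hy,
    _, Mx_conj_X hm (h.neg' hm.1) (h'.neg' hm.1) hy', by group⟩

theorem inv_mem_W {r : J} {i j : I} (hr : r ∈ WR fr φ U i j) : r⁻¹ ∈ WR fr φ U i j := by
  obtain ⟨h1, x, hx, h0, y, hy, y', hy', rfl⟩ := hr
  exact ⟨by rw [map_inv]; exact inv_mem h1, _, inv_mem hx, inv_ne_one.2 h0, _, inv_mem hy',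
    _, inv_mem hy, by group⟩

theorem W_fix {r : J} {i j k : I} (hr : r ∈ WR fr φ U i j) (h1 : k ≠ i) (h2 : k ≠ -i) (h3 : k ≠ j)
    (h4 : k ≠ -j) : (φ r).1 (fr.e k) = fr.e k := by
  obtain ⟨-, x, hx, -, y, hy, y', hy', rfl⟩ := hr
  rw [map_mul, map_mul, Isom.mul_apply, Isom.mul_apply,
    fr.RX_apply hy'.2 (by rwa [neg_neg]) (by rwa [neg_neg]), fr.RX_apply hx.2 h2 h4,
    fr.RX_apply hy.2 (by rwa [neg_neg]) (by rwa [neg_neg])]

namespace PSt0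

variable (h : PSt0 fr φ U)
include h

theorem eq {i : I} {x y : J} (hx : x ∈ U i) (hy : y ∈ U i) (e : φ x = φ y) : x = y :=
  mul_inv_eq_one.1 (h.inj i _ (mul_mem hx (inv_mem hy)) (by simp [e]))

theorem mem_Mx {m : J} (h1 : φ m ∈ fr.Mon)
    (h2 : ∀ i j, fr.Mv (φ m) i j → ∀ y ∈ U i, m * y * m⁻¹ ∈ U j) : m ∈ Mx fr φ U := by
  refine ⟨h1, fun i j hij y => ⟨h2 i j hij y, fun hy => ?_⟩⟩
  obtain ⟨x, hx, e⟩ := h.surj i _ (hij.inv.conj_U (h.mem j _ hy))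
  have := h.eq (h2 i j hij x hx) hy (by simp [e, mul_assoc])
  rwa [← mul_left_cancel (mul_right_cancel this)]

theorem X_symm {i j : I} (h2 : j ≠ -i) : XR fr φ U i j ≤ XR fr φ U j i := fun x hx => by
  by_cases e : j = i
  · rwa [e] at hx ⊢
  exact ⟨h.swap i j e h2 x hx.1 (by simpa [fr.RX_of_ne e, fr.mem_RS] using hx.2), fr.RX_symm h2 hx.2⟩

theorem exists_X {i j : I} {g : f.Isom} (hg : g ∈ fr.RX i j) : ∃ x ∈ XR fr φ U i j, φ x = g :=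
  let ⟨x, hx, e⟩ := h.surj i g (fr.RX_le_U i j hg); ⟨x, ⟨hx, show φ x ∈ fr.RX i j from e ▸ hg⟩, e⟩

theorem W_symm {i j : I} (h2 : j ≠ -i) {r : J} (hr : r ∈ WR fr φ U i j) : r ∈ WR fr φ U j i := by
  obtain ⟨h1, x, hx, h0, y, hy, y', hy', rfl⟩ := hr
  exact ⟨h1, x, h.X_symm h2 hx, h0, y, h.X_symm (neg_ne_neg_of h2) hy, y',
    h.X_symm (neg_ne_neg_of h2) hy', rfl⟩

theorem W_mv1 {i j : I} (h2 : j ≠ -i) {r : J} (hr : r ∈ WR fr φ U i j) : fr.Mv (φ r) (-i) j := by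
  obtain ⟨h1, x, hx, h0, y, hy, y', hy', rfl⟩ := hr
  obtain ⟨k, hk⟩ := h1.1 (-i)
  rwa [← hk.eq_of_B (k := j)]
  rw [map_mul, map_mul, Isom.mul_apply, Isom.mul_apply,
    apply_self_of_mem_Eu (fr.RX_le_U _ _ hy'.2),
    B_apply_of_mem_Eu (fr.RX_le_U _ _ (fr.RX_symm (neg_ne_neg_of h2) hy.2))]
  exact fr.RX_B_ne h2 hx.2 fun e => h0 (h.inj i x hx.1 e)

theorem W_mv2 {i j : I} (h2 : j ≠ -i) {r : J} (hr : r ∈ WR fr φ U i j) : fr.Mv (φ r) i (-j) := by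
  simpa using (h.W_mv1 h2 hr).neg' hr.1

theorem W_mv3 {i j : I} (h2 : j ≠ -i) {r : J} (hr : r ∈ WR fr φ U i j) : fr.Mv (φ r) (-j) i :=
  h.W_mv1 (ne_neg_swap h2) (h.W_symm h2 hr)

theorem W_mv4 {i j : I} (h2 : j ≠ -i) {r : J} (hr : r ∈ WR fr φ U i j) : fr.Mv (φ r) j (-i) :=
  h.W_mv2 (ne_neg_swap h2) (h.W_symm h2 hr)

theorem exists_W [Finite I] {i j : I} (h2 : j ≠ -i) {x : J} (hx : x ∈ XR fr φ U i j) (h0 : x ≠ 1) :
    ∃ y ∈ XR fr φ U (-i) (-j), ∃ y' ∈ XR fr φ U (-i) (-j), y * x * y' ∈ WR fr φ U i j := by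
  obtain ⟨a, ha, a', ha', hM⟩ := fr.exists_W h2 hx.2 fun e => h0 (h.inj i x hx.1 e)
  obtain ⟨y, hy, rfl⟩ := h.exists_X ha
  obtain ⟨y', hy', rfl⟩ := h.exists_X ha'
  exact ⟨y, hy, y', hy', by simpa using hM, x, hx, h0, y, hy, y', hy', rfl⟩

theorem comm_mem {i j : I} {x y : J} (hx : x ∈ U i) (hy : y ∈ U j)
    (hf : (φ y).1 (fr.e i) = fr.e i) : ⁅x, y⁆ ∈ U i := by
  simpa [commutatorElement_def, mul_assoc] using mul_mem hx (h.norm i j y hy hf _ (inv_mem hx))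

theorem mem_of_UC {a b : I} (h1 : b ≠ a) (h2 : b ≠ -a) {s : J} (hs : s ∈ U a ⊔ XR fr φ U b b) :
    (φ s ∈ fr.U a → s ∈ U a) ∧ (φ s ∈ fr.U b → s ∈ U b) := by
  have : XR fr φ U b b ≤ normalizer (U a : Set J) := le_normalizer_iff.2 fun x hx y hy =>
    h.norm a b x hx.1 (fr.RX_apply hx.2 (ne_neg_swap h2) (ne_neg_swap h2)) y hy
  rw [← SetLike.mem_coe, coe_mul_of_right_le_normalizer_left _ _ this] at hs
  obtain ⟨u, hu, c, hc, rfl⟩ := hs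
  have a1 := h.mem a u hu
  have a2 := h.mem b c hc.1
  simp only [map_mul]
  refine ⟨fun h3 => mul_mem hu ?_, fun h3 => mul_mem ?_ hc.1⟩
  · exact h.swap b a h1.symm (ne_neg_swap h2) c hc.1
      (fr.mem_RA_of_mem_U h1.symm (ne_neg_swap h2) a2 ((mul_mem_cancel_left a1).1 h3))
  · exact h.swap a b h1 h2 u hu (fr.mem_RA_of_mem_U h1 h2 a1 ((mul_mem_cancel_right a2).1 h3))

end PSt0

end Cfsg.Agent.Cls
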