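import Cfsg.Agent.Lib.Cls.Mono

/-!
In rank at least two the action of the Weyl elements follows from the other relations.
-/

set_option autoImplicit false

namespace Cfsg.Agent.Cls

open Forms Forms.Form Subgroup
open scoped commutatorElement

variable {F : Type*} [Field F] {P : Param F} {V : Type*} [AddCommGroup V] [Module F V]
  {f : Form P V} {I : Type*} [InvolutiveNeg I] {J : Type*} [Group J]
  {fr : Frame f I} {φ : J →* f.Isom} {U : I → Subgroup J}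

/-- conjugation by `m` moves a root subgroup as expected -/
def GA (fr : Frame f I) (φ : J →* f.Isom) (U : I → Subgroup J) (m : J) (a b : I) : Prop :=
  ∀ a', fr.Mv (φ m) a a' → ∀ s ∈ XR fr φ U a b, m * s * m⁻¹ ∈ U a'

theorem mem_XR_of_ne {i j : I} (h : j ≠ i) {x : J} :
    x ∈ XR fr φ U i j ↔ x ∈ U i ∧ φ x ∈ fr.RA i j := by
  rw [XR, fr.RX_of_ne h]; rfl

theorem mem_XR_self {i : I} {x : J} : x ∈ XR fr φ U i i ↔ x ∈ U i ∧ φ x ∈ fr.RC i := by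
  rw [XR, fr.RX_self]; rfl

namespace PSt0

variable (h : PSt0 fr φ U)
include h

theorem U_le [Finite I] {i : I} {N : Subgroup J} (hN : ∀ j, j ≠ -i → XR fr φ U i j ≤ N) :
    U i ≤ N := fun x hx => by
  have key : ∀ j, j ≠ -i → fr.RX i j ≤ (U i ⊓ N).map φ := fun j hj g hg =>
    let ⟨y, hy, e⟩ := h.exists_X hg; ⟨y, ⟨hy.1, hN j hj hy⟩, e⟩
  obtain ⟨y, hy, e⟩ := fr.U_induction ∅ (T := (U i ⊓ N).map φ)
    (fun j h1 h2 _ g hg => key j h2 (by rwa [fr.RX_of_ne h1]))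
    (by rw [← fr.RX_self]; exact key i (fr.ne i).symm) (h.mem i x hx) (by simp) (by simp)
  exact h.eq hy.1 hx e ▸ hy.2

theorem exists_A {i j : I} (h1 : j ≠ i) {g : f.Isom} (hg : g ∈ fr.RA i j) :
    ∃ x ∈ XR fr φ U i j, φ x = g := h.exists_X (by rwa [fr.RX_of_ne h1])

theorem exists_C {i : I} {g : f.Isom} (hg : g ∈ fr.RC i) :
    ∃ x ∈ XR fr φ U i i, φ x = g := h.exists_X (by rwa [fr.RX_self])

theorem mem_AC {i j : I} (h1 : j ≠ i) {x : J} (hx : x ∈ U i) (hg : φ x ∈ fr.RS i j ⊔ fr.RC i) :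
    x ∈ XR fr φ U i j ⊔ XR fr φ U i i := by
  have : fr.RS i j ⊔ fr.RC i ≤ (XR fr φ U i j ⊔ XR fr φ U i i).map φ :=
    sup_le (fun g hg => let ⟨y, hy, e⟩ := h.exists_A h1 hg; ⟨y, mem_sup_left hy, e⟩)
      fun g hg => let ⟨y, hy, e⟩ := h.exists_C hg; ⟨y, mem_sup_right hy, e⟩
  obtain ⟨y, hy, e⟩ := this hg
  exact h.eq ((sup_le inf_le_left inf_le_left : _ ≤ U i) hy) hx e ▸ hy

variable {m : J} (hm : φ m ∈ fr.Mon)
include hm

theorem GA_symm {a b : I} (h2 : b ≠ -a) (hG : GA fr φ U m a b) : GA fr φ U m b a := by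
  intro b' hb s hs
  obtain ⟨a', ha⟩ := hm.1 a
  have hs' := h.X_symm (ne_neg_swap h2) hs
  refine (h.X_symm (i := a') (j := b') (fun e => h2 (hb.inj (e ▸ ha.neg' hm))) ⟨hG a' ha s hs', ?_⟩).1
  change φ _ ∈ fr.RX _ _
  rw [map_mul, map_mul, map_inv]
  exact ha.conj_RX hm hb hs'.2

theorem GA_comm {i i' k l : I} (hi : fr.Mv (φ m) i i') {x y : J} (hx : m * x * m⁻¹ ∈ U i')
    (hy : y ∈ XR fr φ U k l) (hG : GA fr φ U m k l) (hf : (φ y).1 (fr.e i) = fr.e i) :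
    m * ⁅x, y⁆ * m⁻¹ ∈ U i' := by
  obtain ⟨k', hk⟩ := hm.1 k
  have := h.comm_mem hx (hG k' hk y hy) (conj_fix hi hf)
  convert this using 1
  simp only [commutatorElement_def]; group

theorem GA_one {a b l : I} (h1 : l ≠ a) (h2 : l ≠ -a) (h3 : l ≠ b) (h4 : l ≠ -b) (h5 : b ≠ -a)
    (h6 : b ≠ a) (G1 : GA fr φ U m a l) (G2 : GA fr φ U m (-l) b) : GA fr φ U m a b := by
  intro a' ha s hs
  rw [mem_XR_of_ne h6] at hs
  obtain ⟨x, gx, y, gy, e⟩ := fr.exists_comm_A h1 h2 h3 h4 h5 hs.2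
  have e1 := fr.RA_apply gy (k := a) (by rw [neg_neg]; exact h1.symm) (ne_neg_swap h5)
  obtain ⟨x, hx, rfl⟩ := h.exists_A h1 gx
  obtain ⟨y, hy, rfl⟩ := h.exists_A (ne_neg_swap h4) gy
  rw [h.eq hs.1 (h.comm_mem hx.1 hy.1 e1) (by rw [e, map_commutatorElement])]
  exact h.GA_comm hm ha (G1 a' ha x hx) hy G2 e1

theorem GA_two {a b : I} (h1 : b ≠ a) (h2 : b ≠ -a) (hC : fr.RC b ≠ ⊥)
    (G1 : GA fr φ U m a (-b)) (G2 : GA fr φ U m b b) (G3 : GA fr φ U m a a) :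
    GA fr φ U m a b := by
  intro a' ha s hs
  rw [mem_XR_of_ne h1] at hs
  obtain ⟨x, gx, y, gy, t, gt, e⟩ := fr.exists_comm_A' h1 h2 hC hs.2
  have e1 := fr.RC_apply gy (ne_neg_swap h2)
  obtain ⟨x, hx, rfl⟩ := h.exists_A (neg_ne_of h2) gx
  obtain ⟨y, hy, rfl⟩ := h.exists_C gy
  obtain ⟨t, ht, rfl⟩ := h.exists_C gt
  rw [h.eq hs.1 (mul_mem ht.1 (h.comm_mem hx.1 hy.1 e1)) (by rw [e, map_mul, map_commutatorElement])]
  have := mul_mem (G3 a' ha t ht) (h.GA_comm hm ha (G1 a' ha x hx) hy G2 e1)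
  convert this using 1
  group

theorem GA_three {a b : I} (h1 : b ≠ a) (h2 : b ≠ -a)
    (G1 : GA fr φ U m a b) (G2 : GA fr φ U m (-b) (-b)) (G3 : GA fr φ U m a (-b)) :
    GA fr φ U m a a := by
  intro a' ha s hs
  rw [mem_XR_self] at hs
  obtain ⟨x, gx, y, gy, t, gt, e⟩ := fr.exists_comm_C h1 h2 hs.2
  have e1 := fr.RC_apply gy (k := a) (by rw [neg_neg]; exact h1.symm)
  obtain ⟨x, hx, rfl⟩ := h.exists_A h1 gx
  obtain ⟨y, hy, rfl⟩ := h.exists_C gy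
  obtain ⟨t, ht, rfl⟩ := h.exists_A (neg_ne_of h2) gt
  rw [h.eq hs.1 (mul_mem (h.comm_mem hx.1 hy.1 e1) ht.1) (by rw [e, map_mul, map_commutatorElement])]
  have := mul_mem (h.GA_comm hm ha (G1 a' ha x hx) hy G2 e1) (G3 a' ha t ht)
  convert this using 1
  group

theorem mem_Mx_of_GA [Finite I] (hG : ∀ a b, b ≠ -a → GA fr φ U m a b) : m ∈ Mx fr φ U :=
  h.mem_Mx hm fun i j hij _ hy =>
    h.U_le (N := (U j).comap (MulAut.conj m).toMonoidHom) (fun k hk => hG i k hk j hij) hy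

omit hm in
theorem GA_far {i j k l : I} (h2 : j ≠ -i) {r : J} (hr : r ∈ WR fr φ U i j) (a1 : k ≠ i)
    (a2 : k ≠ -i) (a3 : k ≠ j) (a4 : k ≠ -j) : GA fr φ U r k l := by
  intro k' hk s hs
  obtain rfl := hk.unique (.of_eq (W_fix hr a1 a2 a3 a4))
  obtain ⟨-, x, hx, -, y, hy, y', hy', rfl⟩ := hr
  have b1 := h.norm k' _ y' hy'.1 (fr.RX_apply hy'.2 (by rwa [neg_neg]) (by rwa [neg_neg])) s hs.1
  have b2 := h.norm k' _ x hx.1 (fr.RX_apply hx.2 a2 a4) _ b1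
  have b3 := h.norm k' _ y hy.1 (fr.RX_apply hy.2 (by rwa [neg_neg]) (by rwa [neg_neg])) _ b2
  convert b3 using 1
  group

omit hm in
theorem conj_N [Finite I] {i j : I} (h1 : j ≠ i) (h2 : j ≠ -i) {x : J} (hx : x ∈ XR fr φ U i j) {s : J}
    (hs : s ∈ XR fr φ U i (-j) ⊔ XR fr φ U i i ⊔ XR fr φ U (-j) (-j)) :
    x * s * x⁻¹ ∈ XR fr φ U i (-j) ⊔ XR fr φ U i i ⊔ XR fr φ U (-j) (-j) := by
  rw [mem_XR_of_ne h1] at hx
  refine (sup_le (sup_le (fun s hs => ?_) fun s hs => ?_) fun s hs => ?_ :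
    _ ≤ (XR fr φ U i (-j) ⊔ XR fr φ U i i ⊔ XR fr φ U (-j) (-j)).comap
      (MulAut.conj x).toMonoidHom) hs
  · refine conj_mem_of_comm (mem_sup_left (mem_sup_right ?_)) (mem_sup_left (mem_sup_left hs))
    rw [mem_XR_of_ne (neg_ne_of h2)] at hs
    exact mem_XR_self.2 ⟨mul_mem (mul_mem (mul_mem hx.1 hs.1) (inv_mem hx.1)) (inv_mem hs.1), by
      rw [map_commutatorElement]; exact fr.rgd.R2 i j h1 h2 _ hx.2 _ hs.2⟩
  · refine mem_sup_left (mem_sup_right ?_)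
    rw [mem_XR_self] at hs
    refine mem_XR_self.2 ⟨mul_mem (mul_mem hx.1 hs.1) (inv_mem hx.1), ?_⟩
    change φ (x * s * x⁻¹) ∈ _
    rw [map_mul, map_mul, map_inv]
    exact conj_mem_of_commute (fr.rgd.R4 i j i h1 h2 (fr.ne i).symm (ne_neg_swap h2) _ hx.2 _ hs.2) hs.2
  · refine conj_mem_of_comm (mem_sup_left ?_) (mem_sup_right hs)
    rw [mem_XR_self] at hs
    exact h.mem_AC (neg_ne_of h2) (h.comm_mem hx.1 hs.1
      (fr.RC_apply hs.2 (by rw [neg_neg]; exact h1.symm)))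
      (by rw [map_commutatorElement]; exact fr.rgd.R5 i j h1 h2 _ hx.2 _ hs.2)

omit hm in
theorem GA_near [Finite I] {i j : I} (h1 : j ≠ i) (h2 : j ≠ -i) {r : J} (hr : r ∈ WR fr φ U i j) :
    GA fr φ U r i (-j) ∧ GA fr φ U r i i ∧ GA fr φ U r (-j) (-j) := by
  have key : ∀ s ∈ XR fr φ U i (-j) ⊔ XR fr φ U i i ⊔ XR fr φ U (-j) (-j),
      r * s * r⁻¹ ∈ U i ⊔ XR fr φ U (-j) (-j) := by
    obtain ⟨-, x, hx, -, y, hy, y', hy', rfl⟩ := hr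
    have e : XR fr φ U (-j) (- -i) ⊔ XR fr φ U (-j) (-j) ⊔ XR fr φ U (- -i) (- -i) =
        XR fr φ U i (-j) ⊔ XR fr φ U i i ⊔ XR fr φ U (-j) (-j) := by
      rw [neg_neg, le_antisymm (h.X_symm (i := -j) (j := i) (by rw [neg_neg]; exact h1.symm))
        (h.X_symm (neg_ne_neg_of h1)), sup_right_comm]
    have k1 : ∀ y ∈ XR fr φ U (-i) (-j), ∀ s ∈ XR fr φ U i (-j) ⊔ XR fr φ U i i ⊔ XR fr φ U (-j) (-j),
        y * s * y⁻¹ ∈ XR fr φ U i (-j) ⊔ XR fr φ U i i ⊔ XR fr φ U (-j) (-j) := fun y hy s hs => by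
      rw [← e] at hs ⊢
      exact h.conj_N (neg_ne_neg_of h1.symm) (neg_ne_neg_of (ne_neg_swap h2))
        (h.X_symm (neg_ne_neg_of h2) hy) hs
    intro s hs
    have := k1 y hy _ (h.conj_N h1 h2 hx (k1 y' hy' s hs))
    refine (sup_le_sup_right (sup_le inf_le_left inf_le_left : XR fr φ U i (-j) ⊔ XR fr φ U i i ≤ U i)
      _ :) ?_
    convert this using 1
    group
  have k2 : ∀ s ∈ XR fr φ U i (-j) ⊔ XR fr φ U i i, s ∈ U i → r * s * r⁻¹ ∈ U (-j) := fun s hs hs' =>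
    (h.mem_of_UC (neg_ne_of h2) (neg_ne_neg_of h1) (key s (mem_sup_left hs))).2 (by
      rw [map_mul, map_mul, map_inv]; exact (h.W_mv2 h2 hr).conj_U (h.mem _ _ hs'))
  refine ⟨fun a' ha s hs => ?_, fun a' ha s hs => ?_, fun a' ha s hs => ?_⟩
  · rw [ha.unique (h.W_mv2 h2 hr)]; exact k2 s (mem_sup_left hs) hs.1
  · rw [ha.unique (h.W_mv2 h2 hr)]; exact k2 s (mem_sup_right hs) hs.1
  · rw [ha.unique (h.W_mv3 h2 hr)]
    exact (h.mem_of_UC (neg_ne_of h2) (neg_ne_neg_of h1) (key s (mem_sup_right hs))).1 (by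
      rw [map_mul, map_mul, map_inv]; exact (h.W_mv3 h2 hr).conj_U (h.mem _ _ hs.1))

omit hm in
theorem pSt1 [Finite I] (hA : (∀ i j : I, ∃ l, l ≠ i ∧ l ≠ -i ∧ l ≠ j ∧ l ≠ -j) ∨ ∀ k, fr.RC k ≠ ⊥)
    (hC : ∀ i : I, ∃ j, j ≠ i ∧ j ≠ -i) : PSt1 fr φ U := by
  refine ⟨h, fun i j h2 r hr => h.mem_Mx_of_GA hr.1 fun a b hab => ?_⟩
  have far : ∀ k l, k ≠ i → k ≠ -i → k ≠ j → k ≠ -j → GA fr φ U r k l := fun k l =>
    h.GA_far h2 hr
  have far' : ∀ k l, l ≠ -k → l ≠ i → l ≠ -i → l ≠ j → l ≠ -j → GA fr φ U r k l :=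
    fun k l a0 a1 a2 a3 a4 => h.GA_symm hr.1 (ne_neg_swap a0) (far l k a1 a2 a3 a4)
  by_cases ha : a ≠ i ∧ a ≠ -i ∧ a ≠ j ∧ a ≠ -j
  · exact far a b ha.1 ha.2.1 ha.2.2.1 ha.2.2.2
  by_cases hb : b ≠ i ∧ b ≠ -i ∧ b ≠ j ∧ b ≠ -j
  · exact far' a b hab hb.1 hb.2.1 hb.2.2.1 hb.2.2.2
  simp only [not_and_or, not_not] at ha hb
  by_cases h1 : j = i
  · subst h1
    obtain ⟨l, l1, l2⟩ := hC j
    have l3 : -l ≠ j := neg_ne_of l2
    have l4 : -l ≠ -j := neg_ne_neg_of l1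
    have key : ∀ a, a = j ∨ a = -j → GA fr φ U r a a := fun a ha => by
      have b1 : l ≠ a := by rcases ha with rfl | rfl <;> assumption
      have b2 : l ≠ -a := by rcases ha with rfl | rfl <;> simpa
      exact h.GA_three hr.1 b1 b2 (far' _ _ b2 l1 l2 l1 l2) (far _ _ l3 l4 l3 l4)
        (far' _ _ (neg_ne_neg_of b1) l3 l4 l3 l4)
    have : b = a := by
      rcases ha with rfl | rfl | rfl | rfl <;> rcases hb with rfl | rfl | rfl | rfl <;> simp_all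
    rw [this]
    exact key a (by tauto)
  obtain ⟨n1, n2, n3⟩ := h.GA_near h1 h2 hr
  obtain ⟨n4, n5, n6⟩ := h.GA_near (Ne.symm h1) (ne_neg_swap h2) (h.W_symm h2 hr)
  have n7 := h.GA_symm hr.1 (neg_ne_neg_of h1) n1
  have n8 := h.GA_symm hr.1 (neg_ne_neg_of (Ne.symm h1)) n4
  have n9 : GA fr φ U r i j ∧ GA fr φ U r (-i) (-j) := by
    rcases hA with hA | hA
    · obtain ⟨l, l1, l2, l3, l4⟩ := hA i j
      have l5 := far (-l) j (neg_ne_of l2) (neg_ne_neg_of l1) (neg_ne_of l4) (neg_ne_neg_of l3)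
      have l6 := far (-l) (-j) (neg_ne_of l2) (neg_ne_neg_of l1) (neg_ne_of l4) (neg_ne_neg_of l3)
      exact ⟨h.GA_one hr.1 l1 l2 l3 l4 h2 h1 (far' _ _ l2 l1 l2 l3 l4) l5,
        h.GA_one hr.1 l2 (by rwa [neg_neg]) l4 (by rwa [neg_neg]) (neg_ne_neg_of h2)
          (neg_ne_neg_of h1) (far' _ _ (by rwa [neg_neg]) l1 l2 l3 l4) l6⟩
    · exact ⟨h.GA_two hr.1 h1 h2 (hA j) n1 n5 n2, h.GA_two hr.1 (neg_ne_neg_of h1)
        (neg_ne_neg_of h2) (hA _) (by rwa [neg_neg]) n3 n6⟩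
  have n10 := h.GA_symm hr.1 h2 n9.1
  have n11 := h.GA_symm hr.1 (neg_ne_neg_of h2) n9.2
  rcases ha with rfl | rfl | rfl | rfl <;> rcases hb with rfl | rfl | rfl | rfl <;>
    first | assumption | exact n9.1 | exact n9.2 | exact absurd rfl hab | exact absurd (neg_neg _).symm hab

end PSt0

end Cfsg.Agent.Cls
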