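import Cfsg.Agent.Lib.Cls.Levi

/-!
Root subgroups obtained by conjugating one root subgroup of each kind by monomial elements.
-/

set_option autoImplicit false

namespace Cfsg.Agent.Cls

open Forms Forms.Form Subgroup
open scoped commutatorElement

variable {F : Type*} [Field F] {P : Param F} {V : Type*} [AddCommGroup V] [Module F V]
  {f : Form P V} {I : Type*} [InvolutiveNeg I] {J : Type*} [Group J]

/-- `φ` maps `L` isomorphically onto `H` -/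
structure Box {G : Type*} [Group G] (φ : J →* G) (L : Subgroup J) (H : Subgroup G) : Prop where
  inj : ∀ x ∈ L, φ x = 1 → x = 1
  mem : ∀ x ∈ L, φ x ∈ H
  surj : ∀ g ∈ H, ∃ x ∈ L, φ x = g

namespace Box

variable {G : Type*} [Group G] {φ : J →* G} {L : Subgroup J} {H : Subgroup G}

theorem eq (h : Box φ L H) {x y : J} (hx : x ∈ L) (hy : y ∈ L) (e : φ x = φ y) : x = y :=
  mul_inv_eq_one.1 (h.inj _ (mul_mem hx (inv_mem hy)) (by simp [e]))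

theorem inf (h : Box φ L H) {H' : Subgroup G} (hH : H' ≤ H) : Box φ (L ⊓ H'.comap φ) H' :=
  ⟨fun x hx => h.inj x hx.1, fun _ hx => hx.2, fun g hg =>
    let ⟨x, hx, e⟩ := h.surj g (hH hg); ⟨x, ⟨hx, show φ x ∈ H' from e ▸ hg⟩, e⟩⟩

theorem commute (h : Box φ L H) {x y : J} (hx : x ∈ L) (hy : y ∈ L) (e : Commute (φ x) (φ y)) :
    Commute x y := h.eq (mul_mem hx hy) (mul_mem hy hx) (by simpa using e.eq)

theorem of_range {ψ : H →* J} (h : ∀ x, φ (ψ x) = x) : Box φ ψ.range H :=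
  ⟨by rintro _ ⟨x, rfl⟩ e; rw [show x = 1 from Subtype.ext ((h x).symm.trans e), map_one],
    by rintro _ ⟨x, rfl⟩; rw [h]; exact x.2, fun g hg => ⟨_, ⟨⟨g, hg⟩, rfl⟩, h _⟩⟩

theorem mem_closure (h : Box φ L H) {s : Set J} (hs : ∀ x ∈ s, x ∈ L) {x : J} (hx : x ∈ L)
    (e : φ x ∈ closure (φ '' s)) : x ∈ closure s := by
  rw [← MonoidHom.map_closure] at e
  obtain ⟨y, hy, e⟩ := e
  exact h.eq ((closure_le _).2 hs hy) hx e ▸ hy

theorem mem_of_le (h : Box φ L H) {N : Subgroup J} {H' : Subgroup G} (hN : H' ≤ (L ⊓ N).map φ)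
    {x : J} (hx : x ∈ L) (e : φ x ∈ H') : x ∈ N :=
  let ⟨_, hy, e⟩ := hN e; h.eq hy.1 hx e ▸ hy.2

end Box

namespace Frame

variable (fr : Frame f I)

theorem mv_mem_of_Levi {S : Set I} (hS : ∀ i ∈ S, -i ∉ S) (hS' : ∀ i, i ∈ S ∨ -i ∈ S) {g : f.Isom}
    (hg : g ∈ fr.Levi S) {a k : I} (ha : a ∈ S) (h : fr.Mv g a k) : k ∈ S := by
  let W := Submodule.span F (fr.e '' S)
  have k1 : ∀ i ∈ S, ∀ j ∈ S, ∀ g ∈ fr.RA i (-j), ∀ w ∈ W, g.1 w ∈ W := by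
    rintro i hi j hj g ⟨c, hg⟩ w hw
    refine (Submodule.span_le.2 ?_ : W ≤ W.comap (g.1 : V →ₗ[F] V)) hw
    rintro _ ⟨s, hs, rfl⟩
    change g.1 _ ∈ W
    rw [hg.app, fr.B_eq' fun e => hS i hi (e ▸ hs)]
    simpa using W.sub_mem (Submodule.subset_span ⟨s, hs, rfl⟩)
      (W.smul_mem _ (Submodule.subset_span ⟨i, hi, rfl⟩))
  let N : Subgroup f.Isom :=
    { carrier := {g | ∀ w, w ∈ W ↔ g.1 w ∈ W}
      one_mem' := fun _ => Iff.rfl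
      mul_mem' := fun ha hb w => (hb w).trans (ha _)
      inv_mem' := fun {a} ha w => by rw [ha (a⁻¹.1 w), Isom.apply_inv] }
  have := (fr.Levi_le (N := N) (fun i hi j hj _ g hg w => ⟨k1 i hi j hj g hg w, fun h => by
    simpa using k1 i hi j hj _ (fr.inv_mem_RA hg) _ h⟩) hg _).1 (Submodule.subset_span ⟨a, ha, rfl⟩)
  refine (hS' k).resolve_right fun hk => ?_
  obtain ⟨c, hc⟩ := h
  have h2 : W ≤ LinearMap.ker (f.B.flip (fr.e (-k))) := Submodule.span_le.2 (by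
    rintro _ ⟨s, hs, rfl⟩
    exact fr.B_neg fun e => hS s hs (e ▸ hk))
  have h3 : f.B (g.1 (fr.e a)) (fr.e (-k)) = 0 := h2 this
  rw [hc, B_smul_left] at h3
  exact mul_ne_zero (fr.smul_ne_zero hc) (fr.B_ne k) h3

theorem exists_swap [Finite I] {S : Set I} {a b : I} (ha : a ∈ S) (hb : b ∈ S) (h : b ≠ -a) :
    ∃ g ∈ fr.Levi S, g ∈ fr.Mon ∧ fr.Mv g a b ∧ fr.Mv g b a ∧
      ∀ k, k ≠ a → k ≠ -a → k ≠ b → k ≠ -b → g.1 (fr.e k) = fr.e k := by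
  by_cases e : b = a
  · exact ⟨1, one_mem _, one_mem _, e ▸ .one, e ▸ .one, fun _ _ _ _ _ => rfl⟩
  obtain ⟨x, hx, x0⟩ := fr.exists_RX_ne_one (Or.inl (neg_ne_of h)) (neg_ne_neg_of e)
  rw [fr.RX_of_ne (neg_ne_of h)] at hx
  obtain ⟨y, hy, a1, a2, a3, a4⟩ := fr.exists_W1 (neg_ne_of h) (neg_ne_neg_of e) hx x0
  have a5 := fun k k1 k2 k3 k4 => fr.W1_fix (k := k) hx hy hy k1 k2 k3 k4
  have a6 := fr.mon_of_W1 a3 a1 a4 a2 a5
  have a7 := fr.mem_Levi hb ha (Ne.symm e) (fr.RA_swap (by rwa [neg_neg]) (by simpa using hy))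
  rw [neg_neg] at a2 a3 a5
  exact ⟨_, mul_mem (mul_mem a7 (fr.mem_Levi ha hb e hx)) a7, a6, a3, a2,
    fun k k1 k2 k3 k4 => a5 k k1 k2 k4 k3⟩

theorem exists_two_trans [Finite I] {S : Set I} (hS : ∀ i ∈ S, -i ∉ S) (hS' : ∀ i, i ∈ S ∨ -i ∈ S)
    {a b a' b' : I} (ha : a ∈ S) (hb : b ∈ S) (ha' : a' ∈ S) (hb' : b' ∈ S) (h : b ≠ a)
    (h' : b' ≠ a') : ∃ g ∈ fr.Levi S, g ∈ fr.Mon ∧ fr.Mv g a a' ∧ fr.Mv g b b' := by
  have k : ∀ {a b}, a ∈ S → b ∈ S → b ≠ -a := fun ha hb e => hS _ ha (e ▸ hb)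
  obtain ⟨g, hg, g1, g2, -⟩ := fr.exists_swap ha ha' (k ha ha')
  obtain ⟨c, hc⟩ := g1.1 b
  have c1 := fr.mv_mem_of_Levi hS hS' hg hb hc
  obtain ⟨g', hg', g3, g4, -, g5⟩ := fr.exists_swap c1 hb' (k c1 hb')
  exact ⟨g' * g, mul_mem hg' hg, mul_mem g3 g1, (Mv.of_eq (g5 a' (fun e => h (hc.inj (e ▸ g2)))
    (k c1 ha') h'.symm (k hb' ha'))).mul g2, g4.mul hc⟩

end Frame

/-- The data from which the root subgroups are built. -/
structure Base (fr : Frame f I) (φ : J →* f.Isom) (S : Set I) (i j : I) (L M C : Subgroup J) :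
    Prop where
  S1 : ∀ i ∈ S, -i ∉ S
  S2 : ∀ i, i ∈ S ∨ -i ∈ S
  hi : i ∈ S
  hj : j ∈ S
  ne : j ≠ i
  box : Box φ L (fr.Levi S)
  mon : ∀ m ∈ M, φ m ∈ fr.Mon
  NL : ∀ x ∈ L, φ x ∈ fr.Mon → x ∈ M
  pos : ∀ a b c, b ≠ -a → c ≠ -a → c ≠ -b → ∃ m ∈ M, ∃ a' ∈ S, ∃ b' ∈ S, ∃ c' ∈ S,
    fr.Mv (φ m) a a' ∧ fr.Mv (φ m) b b' ∧ fr.Mv (φ m) c c'
  sA : ∀ m ∈ M, fr.Mv (φ m) i i → fr.Mv (φ m) j j → ∀ x ∈ L, φ x ∈ fr.RA i (-j) → m * x * m⁻¹ ∈ L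
  boxC : Box φ C (fr.RC i)
  sC : ∀ m ∈ M, fr.Mv (φ m) i i → ∀ x ∈ C, m * x * m⁻¹ ∈ C

/-- the root subgroups with two indices -/
def AF (fr : Frame f I) (φ : J →* f.Isom) (i j : I) (L M : Subgroup J) (a b : I) : Subgroup J where
  carrier := {x | φ x ∈ fr.RA a b ∧ ∀ m ∈ M, fr.Mv (φ m) a i → fr.Mv (φ m) (-b) j → m * x * m⁻¹ ∈ L}
  one_mem' := ⟨by rw [map_one]; exact fr.one_mem_RA _ _, fun m _ _ _ => by simp⟩
  mul_mem' := fun {x y} hx hy => ⟨by rw [map_mul]; exact fr.mul_mem_RA hx.1 hy.1, fun m hm h1 h2 => by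
    simpa [mul_assoc] using mul_mem (hx.2 m hm h1 h2) (hy.2 m hm h1 h2)⟩
  inv_mem' := fun {x} hx => ⟨by rw [map_inv]; exact fr.inv_mem_RA hx.1, fun m hm h1 h2 => by
    simpa [mul_assoc] using inv_mem (hx.2 m hm h1 h2)⟩

/-- the root subgroups with one index -/
def CF (fr : Frame f I) (φ : J →* f.Isom) (i : I) (M C : Subgroup J) (a : I) : Subgroup J where
  carrier := {x | ∀ m ∈ M, fr.Mv (φ m) a i → m * x * m⁻¹ ∈ C}
  one_mem' := fun m _ _ => by simp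
  mul_mem' := fun {x y} hx hy m hm h1 => by
    simpa [mul_assoc] using mul_mem (hx m hm h1) (hy m hm h1)
  inv_mem' := fun {x} hx m hm h1 => by simpa [mul_assoc] using inv_mem (hx m hm h1)

theorem commute_of_conj (m : J) {x y : J} (h : Commute (m * x * m⁻¹) (m * y * m⁻¹)) : Commute x y := by
  simpa [mul_assoc] using h.conj m⁻¹

theorem conj_comm (m x y : J) : m * ⁅x, y⁆ * m⁻¹ = ⁅m * x * m⁻¹, m * y * m⁻¹⁆ := by
  simp only [commutatorElement_def]; group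

namespace Base

variable {fr : Frame f I} {φ : J →* f.Isom} {S : Set I} {i j : I} {L M C : Subgroup J}
  (h : Base fr φ S i j L M C)
include h

theorem ne' {a b : I} (ha : a ∈ S) (hb : b ∈ S) : b ≠ -a := fun e => h.S1 _ ha (e ▸ hb)

theorem mv_neg {m : J} (hm : m ∈ M) {a b : I} (e : fr.Mv (φ m) a b) : fr.Mv (φ m) (-a) (-b) :=
  e.neg' (h.mon m hm)

omit h in
theorem mv_inv {m : J} {a b : I} (e : fr.Mv (φ m) a b) : fr.Mv (φ m⁻¹) b a := by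
  rw [map_inv]; exact e.inv

omit h in
theorem mv_mul {m m' : J} {a b c : I} (e : fr.Mv (φ m) b c) (e' : fr.Mv (φ m') a b) :
    fr.Mv (φ (m * m')) a c := by rw [map_mul]; exact e.mul e'

omit h in
theorem conj_A {m x : J} (hm : m ∈ M) (h0 : φ m ∈ fr.Mon) {a b a' b' : I} (h1 : fr.Mv (φ m) a a')
    (h2 : fr.Mv (φ m) b b') (hx : x ∈ AF fr φ i j L M a b) : m * x * m⁻¹ ∈ AF fr φ i j L M a' b' :=
  ⟨by rw [map_mul, map_mul, map_inv]; exact h1.conj_RA h2 hx.1, fun m' hm' h3 h4 => by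
    simpa [mul_assoc] using hx.2 _ (mul_mem hm' hm) (mv_mul h3 h1) (mv_mul h4 (h2.neg' h0))⟩

omit h in
theorem conj_C {m x : J} (hm : m ∈ M) {a a' : I} (h1 : fr.Mv (φ m) a a')
    (hx : x ∈ CF fr φ i M C a) : m * x * m⁻¹ ∈ CF fr φ i M C a' := fun m' hm' h3 => by
  simpa [mul_assoc] using hx _ (mul_mem hm' hm) (mv_mul h3 h1)

theorem of_conj_A {m x : J} (hm : m ∈ M) {a b a' b' : I} (h1 : fr.Mv (φ m) a a')
    (h2 : fr.Mv (φ m) b b') (hx : m * x * m⁻¹ ∈ AF fr φ i j L M a' b') : x ∈ AF fr φ i j L M a b := by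
  simpa [mul_assoc] using conj_A (inv_mem hm) (h.mon _ (inv_mem hm)) (mv_inv h1) (mv_inv h2) hx

omit h in
theorem of_conj_C {m x : J} (hm : m ∈ M) {a a' : I} (h1 : fr.Mv (φ m) a a')
    (hx : m * x * m⁻¹ ∈ CF fr φ i M C a') : x ∈ CF fr φ i M C a := by
  simpa [mul_assoc] using conj_C (inv_mem hm) (mv_inv h1) hx

theorem mem_C {x : J} : x ∈ CF fr φ i M C i ↔ x ∈ C :=
  ⟨fun hx => by simpa using hx 1 (one_mem _) (by rw [map_one]; exact .one),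
    fun hx m hm h1 => h.sC m hm h1 x hx⟩

variable [Finite I]

theorem two_trans {a b a' b' : I} (ha : a ∈ S) (hb : b ∈ S) (ha' : a' ∈ S) (hb' : b' ∈ S)
    (e : b ≠ a) (e' : b' ≠ a') : ∃ m ∈ L, m ∈ M ∧ fr.Mv (φ m) a a' ∧ fr.Mv (φ m) b b' := by
  obtain ⟨g, hg, h1, h2⟩ := fr.exists_two_trans h.S1 h.S2 ha hb ha' hb' e e'
  obtain ⟨m, hm, rfl⟩ := h.box.surj g hg
  exact ⟨m, hm, h.NL m hm h1, h2⟩

theorem mem_A {a b : I} (ha : a ∈ S) (hb : b ∈ S) (e : b ≠ a) {x : J} :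
    x ∈ AF fr φ i j L M a (-b) ↔ x ∈ L ∧ φ x ∈ fr.RA a (-b) := by
  obtain ⟨m, hm, hm', h1, h2⟩ := h.two_trans ha hb h.hi h.hj e h.ne
  refine ⟨fun hx => ⟨?_, hx.1⟩, fun hx => h.of_conj_A hm' h1 (h.mv_neg hm' h2) ?_⟩
  · simpa [mul_assoc] using mul_mem (mul_mem (inv_mem hm) (hx.2 m hm' h1 (by rwa [neg_neg]))) hm
  · have : φ (m * x * m⁻¹) ∈ fr.RA i (-j) := by
      rw [map_mul, map_mul, map_inv]; exact h1.conj_RA (h.mv_neg hm' h2) hx.2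
    exact ⟨this, fun m' hm' h3 h4 => h.sA m' hm' h3 (by rwa [neg_neg] at h4) _
      (mul_mem (mul_mem hm hx.1) (inv_mem hm)) this⟩

theorem trans {a b : I} (h1 : b ≠ a) (h2 : b ≠ -a) :
    ∃ m ∈ M, fr.Mv (φ m) a i ∧ fr.Mv (φ m) b (-j) := by
  obtain ⟨m, hm, a', ha, b', hb, -, -, a1, a2, -⟩ :=
    h.pos a (-b) a (neg_ne_neg_of h1) (fr.ne a).symm (by rw [neg_neg]; exact h1.symm)
  obtain ⟨m', -, hm', a3, a4⟩ := h.two_trans ha hb h.hi h.hj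
    (fun e => neg_ne_of h2 (a2.inj (e ▸ a1))) h.ne
  exact ⟨m' * m, mul_mem hm' hm, mv_mul a3 a1, by
    simpa using h.mv_neg (mul_mem hm' hm) (mv_mul a4 a2)⟩

theorem trans_one (a : I) : ∃ m ∈ M, fr.Mv (φ m) a i := by
  by_cases e : a = j ∨ a = -j
  · obtain ⟨m, hm, a1, -⟩ := h.trans (a := a) (b := i)
      (by rcases e with rfl | rfl; exacts [h.ne.symm, h.ne' h.hj h.hi])
      (by rcases e with rfl | rfl; exacts [h.ne' h.hj h.hi, by simpa using h.ne.symm])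
    exact ⟨m, hm, a1⟩
  · push Not at e
    obtain ⟨m, hm, a1, -⟩ := h.trans e.1.symm (ne_neg_swap e.2)
    exact ⟨m, hm, a1⟩

theorem boxA {a b : I} (h1 : b ≠ a) (h2 : b ≠ -a) : Box φ (AF fr φ i j L M a b) (fr.RS a b) := by
  obtain ⟨m, hm, a1, a2⟩ := h.trans h1 h2
  refine ⟨fun x hx e => ?_, fun x hx => hx.1, fun g hg => ?_⟩
  · have := h.box.inj _ ((h.mem_A h.hi h.hj h.ne).1 (conj_A hm (h.mon m hm) a1 a2 hx)).1 (by simp [e])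
    simpa using this
  · obtain ⟨x, hx, e⟩ := h.box.surj _ (fr.mem_Levi h.hi h.hj h.ne (a1.conj_RA a2 hg))
    refine ⟨m⁻¹ * x * m, h.of_conj_A hm a1 a2 ?_, by simp [e, mul_assoc]⟩
    simpa [mul_assoc] using (h.mem_A h.hi h.hj h.ne).2 ⟨hx, e ▸ a1.conj_RA a2 hg⟩

theorem boxC' (a : I) : Box φ (CF fr φ i M C a) (fr.RC a) := by
  obtain ⟨m, hm, a1⟩ := h.trans_one a
  refine ⟨fun x hx e => ?_, fun x hx => ?_, fun g hg => ?_⟩
  · simpa using h.boxC.inj _ (hx m hm a1) (by simp [e])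
  · simpa [mul_assoc] using a1.inv.conj_RC (inv_mem (h.mon m hm)) (h.boxC.mem _ (hx m hm a1))
  · obtain ⟨x, hx, e⟩ := h.boxC.surj _ (a1.conj_RC (h.mon m hm) hg)
    refine ⟨m⁻¹ * x * m, of_conj_C hm a1 ?_, by simp [e, mul_assoc]⟩
    simpa [mul_assoc] using h.mem_C.2 hx

theorem conj_mem_L {m x : J} (hm : m ∈ M) {a b a' b' : I} (ha : a' ∈ S) (hb : b' ∈ S)
    (e : b ≠ -a) (h1 : fr.Mv (φ m) a a') (h2 : fr.Mv (φ m) (-b) b') (hx : x ∈ AF fr φ i j L M a b) :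
    m * x * m⁻¹ ∈ L :=
  ((h.mem_A ha hb fun e' => neg_ne_of e (h2.inj (e' ▸ h1))).1
    (conj_A hm (h.mon m hm) h1 (by simpa using h.mv_neg hm h2) hx)).1

theorem R1far_of_pos (pos : ∀ a b c d, b ≠ -a → c ≠ -a → c ≠ -b → d ≠ -a → d ≠ -b → d ≠ -c →
      ∃ m ∈ M, ∃ a' ∈ S, ∃ b' ∈ S, ∃ c' ∈ S, ∃ d' ∈ S,
        fr.Mv (φ m) a a' ∧ fr.Mv (φ m) b b' ∧ fr.Mv (φ m) c c' ∧ fr.Mv (φ m) d d')
    (a b c d : I) (h1 : b ≠ a) (h2 : b ≠ -a) (h3 : d ≠ c) (h4 : d ≠ -c) (h5 : c ≠ -a) (h6 : c ≠ -b)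
    (h7 : d ≠ -a) (h8 : d ≠ -b) (_ : c ≠ a) (h10 : c ≠ b) (h11 : d ≠ a) (_ : d ≠ b) :
    ∀ x ∈ AF fr φ i j L M a b, ∀ y ∈ AF fr φ i j L M c d, Commute x y := by
  intro x hx y hy
  obtain ⟨m, hm, a', ha, b', hb, c', hc, d', hd, a1, a2, a3, a4⟩ := pos a (-b) c (-d)
    (neg_ne_neg_of h1) h5 (by rwa [neg_neg]) (neg_ne_neg_of h11) (neg_ne_neg_of h8) (neg_ne_neg_of h3)
  refine commute_of_conj m (h.box.commute (h.conj_mem_L hm ha hb h2 a1 a2 hx)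
    (h.conj_mem_L hm hc hd h4 a3 a4 hy) ?_)
  simp only [map_mul, map_inv]
  exact (fr.rgd.R1 a b c d h1 h2 h3 h4 h5 h6 h7 h8 _ hx.1 _ hy.1).conj _

theorem rgd (sym : AF fr φ i j L M i (-j) ≤ AF fr φ i j L M (-j) i)
    (R1 : ∀ a b c d, b ≠ a → b ≠ -a → d ≠ c → d ≠ -c → c ≠ -a → c ≠ -b → d ≠ -a → d ≠ -b →
      c ≠ a → c ≠ b → d ≠ a → d ≠ b →
      ∀ x ∈ AF fr φ i j L M a b, ∀ y ∈ AF fr φ i j L M c d, Commute x y)
    (R2 : ∀ x ∈ AF fr φ i j L M i (-j), ∀ y ∈ AF fr φ i j L M i j, ⁅x, y⁆ ∈ C)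
    (R4 : ∀ x ∈ AF fr φ i j L M i (-j), ∀ y ∈ C, Commute x y)
    (R4' : ∀ k, k ≠ i → k ≠ -i → k ≠ j → k ≠ -j → ∀ x ∈ AF fr φ i j L M i (-j),
      ∀ y ∈ CF fr φ i M C k, Commute x y)
    (R5 : ∀ x ∈ AF fr φ i j L M i (-j), ∀ y ∈ CF fr φ i M C j, ⁅x, y⁆ ∈ AF fr φ i j L M i j ⊔ C)
    (R6 : ∀ x ∈ C, ∀ y ∈ CF fr φ i M C (-j), ⁅x, y⁆ ∈ AF fr φ i j L M i (-j)) :
    RGD fr φ (AF fr φ i j L M) (CF fr φ i M C) := by
  have cA := fun {m x : J} (hm : m ∈ M) {a b a' b' : I} =>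
    conj_A (i := i) (j := j) (L := L) (x := x) hm (h.mon m hm) (a := a) (b := b) (a' := a') (b' := b')
  have sym' : ∀ a b, b ≠ a → b ≠ -a → AF fr φ i j L M a b ≤ AF fr φ i j L M b a := by
    intro a b h1 h2 x hx
    obtain ⟨m, hm, a1, a2⟩ := h.trans h1 h2
    exact h.of_conj_A hm a2 a1 (sym (cA hm a1 a2 hx))
  have R1' : ∀ a b d, b ≠ a → b ≠ -a → d ≠ a → d ≠ -a → d ≠ -b →
      ∀ x ∈ AF fr φ i j L M a b, ∀ y ∈ AF fr φ i j L M a d, Commute x y := by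
    intro a b d h1 h2 h3 h4 h8 x hx y hy
    obtain ⟨m, hm, a', ha, b', hb, d', hd, a1, a2, a4⟩ := h.pos a (-b) (-d)
      (neg_ne_neg_of h1) (neg_ne_neg_of h3) (neg_ne_neg_of h8)
    refine commute_of_conj m (h.box.commute (h.conj_mem_L hm ha hb h2 a1 a2 hx)
      (h.conj_mem_L hm ha hd h4 a1 a4 hy) ?_)
    simp only [map_mul, map_inv]
    exact (fr.rgd.R1 a b a d h1 h2 h3 h4 (fr.ne a).symm (ne_neg_swap h2) h4 h8 _ hx.1 _ hy.1).conj _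
  have R4'' : ∀ a b, b ≠ a → b ≠ -a → ∀ x ∈ AF fr φ i j L M a b, ∀ y ∈ CF fr φ i M C a,
      Commute x y := by
    intro a b h1 h2 x hx y hy
    obtain ⟨m, hm, a1, a2⟩ := h.trans h1 h2
    exact commute_of_conj m (R4 _ (cA hm a1 a2 hx) _ (hy m hm a1))
  refine ⟨sym', fun a b h1 h2 => (h.boxA h1 h2).mem, fun a b h1 h2 => (h.boxA h1 h2).inj,
    fun a b h1 h2 => (h.boxA h1 h2).surj, fun a => (h.boxC' a).mem, fun a => (h.boxC' a).inj,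
    fun a => (h.boxC' a).surj, ?_, ?_, ?_, ?_, ?_, ?_⟩
  · intro a b c d h1 h2 h3 h4 h5 h6 h7 h8 x hx y hy
    by_cases e1 : c = a
    · subst e1; exact R1' c b d h1 h2 h3 h4 h8 x hx y hy
    by_cases e2 : c = b
    · subst e2
      exact R1' c a d h1.symm (ne_neg_swap h2) h3 h4 h7 x (sym' _ _ h1 h2 hx) y hy
    by_cases e3 : d = a
    · subst e3
      exact R1' d b c h1 h2 e1 h5 h6 x hx y (sym' _ _ h3 h4 hy)
    by_cases e4 : d = b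
    · subst e4
      exact R1' d a c h1.symm (ne_neg_swap h2) e2 h6 h5 x (sym' _ _ h1 h2 hx) y (sym' _ _ h3 h4 hy)
    exact R1 a b c d h1 h2 h3 h4 h5 h6 h7 h8 e1 e2 e3 e4 x hx y hy
  · intro a b h1 h2 x hx y hy
    obtain ⟨m, hm, a1, a2⟩ := h.trans h1 h2
    refine of_conj_C hm a1 (h.mem_C.2 ?_)
    rw [conj_comm]
    exact R2 _ (cA hm a1 a2 hx) _ (cA hm a1 (by simpa using h.mv_neg hm a2) hy)
  · intro a b c h1 h2 h3 h4 h5 h6 x hx y hy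
    obtain ⟨m, hm, a', ha, b', hb, c', hc, a1, a2, a3⟩ := h.pos a (-b) (-c)
      (neg_ne_neg_of h1) (neg_ne_neg_of h3) (neg_ne_neg_of h6)
    have b1 := h.conj_mem_L hm ha hb h2 a1 a2 hx
    have b2 := h.conj_mem_L hm hb hc (by rwa [neg_neg]) a2 a3 hy
    have a4 : fr.Mv (φ m) c (-c') := by simpa using h.mv_neg hm a3
    refine h.of_conj_A hm a1 a4 ((h.mem_A ha hc fun e => neg_ne_of h4 (a3.inj (e ▸ a1))).2
      ⟨?_, ?_⟩)
    · rw [conj_comm]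
      exact mul_mem (mul_mem (mul_mem b1 b2) (inv_mem b1)) (inv_mem b2)
    · rw [map_mul, map_mul, map_inv, map_commutatorElement]
      exact a1.conj_RA a4 (fr.rgd.R3 a b c h1 h2 h3 h4 h5 h6 _ hx.1 _ hy.1)
  · intro a b c h1 h2 h3 h4 x hx y hy
    by_cases e1 : c = a
    · subst e1; exact R4'' c b h1 h2 x hx y hy
    by_cases e2 : c = b
    · subst e2; exact R4'' c a h1.symm (ne_neg_swap h2) x (sym' _ _ h1 h2 hx) y hy
    obtain ⟨m, hm, a1, a2⟩ := h.trans h1 h2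
    obtain ⟨k, hk⟩ := (h.mon m hm).1 c
    exact commute_of_conj m (R4' k (fun e => e1 (hk.inj (e ▸ a1)))
      (fun e => h3 (hk.inj (e ▸ h.mv_neg hm a1)))
      (fun e => h4 (hk.inj (e ▸ by simpa using h.mv_neg hm a2)))
      (fun e => e2 (hk.inj (e ▸ a2))) _ (cA hm a1 a2 hx) _ (conj_C hm hk hy))
  · intro a b h1 h2 x hx y hy
    obtain ⟨m, hm, a1, a2⟩ := h.trans h1 h2
    have a3 : fr.Mv (φ m) (-b) j := by simpa using h.mv_neg hm a2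
    have := R5 _ (cA hm a1 a2 hx) _ (conj_C hm a3 hy)
    rw [← conj_comm] at this
    have k : AF fr φ i j L M i j ⊔ C ≤ (AF fr φ i j L M a (-b) ⊔ CF fr φ i M C a).comap
        (MulAut.conj m⁻¹).toMonoidHom :=
      sup_le (fun z hz => mem_sup_left (cA (inv_mem hm) (mv_inv a1) (mv_inv a3) hz))
        fun z hz => mem_sup_right (conj_C (inv_mem hm) (mv_inv a1) (h.mem_C.2 hz))
    simpa [mul_assoc] using k this
  · intro a b h1 h2 x hx y hy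
    obtain ⟨m, hm, a1, a2⟩ := h.trans h1 h2
    refine h.of_conj_A hm a1 a2 ?_
    rw [conj_comm]
    exact R6 _ (hx m hm a1) _ (conj_C hm a2 hy)

end Base

end Cfsg.Agent.Cls
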