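import Cfsg.Agent.Lib.Cls.BN

/-!
Root subgroups with the commutator relations give the parabolic form of the Steinberg relations.
-/

set_option autoImplicit false

namespace Cfsg.Agent.Cls

open Forms Forms.Form Subgroup
open scoped commutatorElement

variable {F : Type*} [Field F] {P : Param F} {V : Type*} [AddCommGroup V] [Module F V]
  {f : Form P V} {I : Type*} [InvolutiveNeg I] {J : Type*} [Group J]

theorem Frame.U_induction [Finite I] (fr : Frame f I) {i : I} (K : Set I) {T : Subgroup f.Isom}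
    (hA : ∀ j, j ≠ i → j ≠ -i → -j ∉ K → ∀ x ∈ fr.RA i j, x ∈ T) (hC : fr.RC i ≤ T)
    {g : f.Isom} (hg : g ∈ fr.U i) (hK : ∀ k ∈ K, g.1 (fr.e k) = fr.e k) (hi : -i ∉ K) : g ∈ T := by
  have key : ∀ n, ∀ x ∈ fr.U i, (∀ k ∈ K, x.1 (fr.e k) = fr.e k) →
      {k | k ≠ -i ∧ x.1 (fr.e k) ≠ fr.e k}.ncard = n → x ∈ T := by
    intro n
    induction n using Nat.strong_induction_on with
    | _ n ih =>
    intro x hx hK hn
    by_cases h0 : ∀ k, k ≠ -i → x.1 (fr.e k) = fr.e k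
    · exact hC (fr.mem_RC_of_fix hx h0)
    push Not at h0
    obtain ⟨k, h1, h2⟩ := h0
    have hk : - -k ∉ K := by rw [neg_neg]; exact fun hk => h2 (hK k hk)
    have h3 : -k ≠ i := fun e => h1 (by rw [← e, neg_neg])
    have h4 : -k ≠ -i := fun e => h2 (by rw [neg_injective e]; exact apply_self_of_mem_Eu hx)
    obtain ⟨y, ha, h5⟩ := fr.exists_split h3 h4 hx
    rw [neg_neg] at h5
    have h6 := ih _ ?_ (x * y⁻¹) (mul_mem hx (inv_mem (fr.RA_subset_U ha))) (fun j hj => by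
      rw [Isom.mul_apply, fr.RA_apply (fr.inv_mem_RA ha) (fun e => hi (e ▸ hj))
        (fun e => hk (e ▸ hj)), hK j hj]) rfl
    · simpa using mul_mem h6 (hA _ h3 h4 hk y ha)
    rw [← hn]
    refine Set.ncard_lt_ncard ⟨fun j hj => ⟨hj.1, fun e => hj.2 ?_⟩, fun hc => ?_⟩
    · by_cases h7 : j = k
      · rw [h7, h5]
      · rw [Isom.mul_apply, fr.RA_apply (fr.inv_mem_RA ha) hj.1 (by rwa [neg_neg]), e]
    · exact (hc ⟨h1, h2⟩).2 h5
  exact key _ g hg hK rfl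

/-- Root subgroups satisfying the commutator relations. -/
structure RGD (fr : Frame f I) (φ : J →* f.Isom) (A : I → I → Subgroup J) (C : I → Subgroup J) :
    Prop where
  Asym : ∀ i j, j ≠ i → j ≠ -i → A i j ≤ A j i
  Amem : ∀ i j, j ≠ i → j ≠ -i → ∀ x ∈ A i j, φ x ∈ fr.RA i j
  Ainj : ∀ i j, j ≠ i → j ≠ -i → ∀ x ∈ A i j, φ x = 1 → x = 1
  Asurj : ∀ i j, j ≠ i → j ≠ -i → ∀ g ∈ fr.RA i j, ∃ x ∈ A i j, φ x = g
  Cmem : ∀ i, ∀ x ∈ C i, φ x ∈ fr.RC i
  Cinj : ∀ i, ∀ x ∈ C i, φ x = 1 → x = 1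
  Csurj : ∀ i, ∀ g ∈ fr.RC i, ∃ x ∈ C i, φ x = g
  R1 : ∀ i j k l, j ≠ i → j ≠ -i → l ≠ k → l ≠ -k → k ≠ -i → k ≠ -j → l ≠ -i → l ≠ -j →
    ∀ x ∈ A i j, ∀ y ∈ A k l, Commute x y
  R2 : ∀ i j, j ≠ i → j ≠ -i → ∀ x ∈ A i j, ∀ y ∈ A i (-j), ⁅x, y⁆ ∈ C i
  R3 : ∀ i j k, j ≠ i → j ≠ -i → k ≠ i → k ≠ -i → k ≠ j → k ≠ -j →
    ∀ x ∈ A i j, ∀ y ∈ A (-j) k, ⁅x, y⁆ ∈ A i k
  R4 : ∀ i j k, j ≠ i → j ≠ -i → k ≠ -i → k ≠ -j → ∀ x ∈ A i j, ∀ y ∈ C k, Commute x y
  R5 : ∀ i j, j ≠ i → j ≠ -i → ∀ x ∈ A i j, ∀ y ∈ C (-j), ⁅x, y⁆ ∈ A i (-j) ⊔ C i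
  R6 : ∀ i j, j ≠ i → j ≠ -i → ∀ x ∈ C i, ∀ y ∈ C j, ⁅x, y⁆ ∈ A i j

/-- the group generated by some of the root subgroups at `i` -/
def UT (A : I → I → Subgroup J) (C : I → Subgroup J) (i : I) (T : Set I) : Subgroup J :=
  (⨆ j ∈ {j | j ∈ T ∧ j ≠ i ∧ j ≠ -i}, A i j) ⊔ C i

variable {fr : Frame f I} {φ : J →* f.Isom} {A : I → I → Subgroup J} {C : I → Subgroup J}

theorem A_le_UT {i j : I} {T : Set I} (h : j ∈ T) (h1 : j ≠ i) (h2 : j ≠ -i) :
    A i j ≤ UT A C i T :=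
  le_sup_of_le_left (le_iSup₂_of_le (f := fun j (_ : j ∈ {j | j ∈ T ∧ j ≠ i ∧ j ≠ -i}) => A i j)
    j ⟨h, h1, h2⟩ le_rfl)

theorem C_le_UT {i : I} {T : Set I} : C i ≤ UT A C i T := le_sup_right

theorem UT_le {i : I} {T : Set I} {N : Subgroup J} (h1 : ∀ j ∈ T, j ≠ i → j ≠ -i → A i j ≤ N)
    (h2 : C i ≤ N) : UT A C i T ≤ N :=
  sup_le (iSup₂_le fun j hj => h1 j hj.1 hj.2.1 hj.2.2) h2

theorem UT_mono {i : I} {T T' : Set I} (h : T ⊆ T') : UT A C i T ≤ UT A C i T' :=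
  UT_le (fun _ hj h1 h2 => A_le_UT (h hj) h1 h2) C_le_UT

theorem conj_mem_UT {i : I} {T : Set I} {N : Subgroup J} {x : J}
    (h1 : ∀ j ∈ T, j ≠ i → j ≠ -i → ∀ y ∈ A i j, x * y * x⁻¹ ∈ N)
    (h2 : ∀ y ∈ C i, x * y * x⁻¹ ∈ N) {y : J} (hy : y ∈ UT A C i T) : x * y * x⁻¹ ∈ N :=
  (UT_le (N := N.comap (MulAut.conj x).toMonoidHom) h1 h2) hy

theorem conj_mem_of_comm {N : Subgroup J} {x y : J} (h : ⁅x, y⁆ ∈ N) (hy : y ∈ N) :
    x * y * x⁻¹ ∈ N := by
  simpa [commutatorElement_def] using mul_mem h hy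

theorem conj_mem_of_comm' {N : Subgroup J} {x y : J} (h : ⁅y, x⁆ ∈ N) (hy : y ∈ N) :
    x * y * x⁻¹ ∈ N := conj_mem_of_comm (by simpa using inv_mem h) hy

theorem conj_mem_of_commute {N : Subgroup J} {x y : J} (h : Commute x y) (hy : y ∈ N) :
    x * y * x⁻¹ ∈ N := by rwa [h.eq, mul_inv_cancel_right]

theorem Frame.Mv.valid {g : f.Isom} {i j i' j' k : I} (h : fr.Mv g i i') (h' : fr.Mv g j j')
    (hk : fr.Mv g (-i) k) (h1 : j ≠ i) (h2 : j ≠ -i) : j' ≠ i' ∧ j' ≠ -i' :=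
  ⟨fun e => h1 (h'.inj (e ▸ h)), fun e => h2 (h'.inj (e ▸ h.neg hk ▸ hk))⟩

namespace RGD

variable (h : RGD fr φ A C)
include h

theorem mem {i : I} {T : Set I} {x : J} (hx : x ∈ UT A C i T) : φ x ∈ fr.U i :=
  UT_le (N := (fr.U i).comap φ) (fun j _ h1 h2 y hy => fr.RA_subset_U (h.Amem i j h1 h2 y hy))
    (fun y hy => fr.RC_le_U i (h.Cmem i y hy)) hx

theorem fix {i k : I} {T : Set I} {x : J} (hx : x ∈ UT A C i T) (h1 : k ≠ -i) (h2 : -k ∉ T) :
    (φ x).1 (fr.e k) = fr.e k :=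
  UT_le (N := FixV fr φ {k}ᶜ) (fun j hj h3 h4 y hy l hl => by
      obtain rfl : l = k := by simpa using hl
      exact fr.RA_apply (h.Amem i j h3 h4 y hy) h1 fun e => h2 (by rwa [e, neg_neg]))
    (fun y hy l hl => by
      obtain rfl : l = k := by simpa using hl
      exact fr.RC_apply (h.Cmem i y hy) h1) hx k (by simp)

theorem inj [Finite I] {i : I} (T : Set I) : ∀ x ∈ UT A C i T, φ x = 1 → x = 1 := by
  induction T, Set.toFinite T using Set.Finite.induction_on with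
  | empty => exact fun x hx => h.Cinj i x (UT_le (by simp) le_rfl hx)
  | @insert l T hl _ ih =>
    intro x hx h0
    by_cases h1 : l ≠ i ∧ l ≠ -i
    swap
    · refine ih x (UT_le (fun j hj h2 h3 => A_le_UT ?_ h2 h3) C_le_UT hx) h0
      exact hj.resolve_left fun e => h1 (e ▸ ⟨h2, h3⟩)
    have h2 : A i l ≤ normalizer (UT A C i T : Subgroup J) := by
      refine le_normalizer_iff.2 fun a ha y hy => conj_mem_UT (fun j hj h2 h3 y hy => ?_)
        (fun y hy => ?_) hy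
      · by_cases h4 : j = -l
        · exact conj_mem_of_comm (C_le_UT (h.R2 i l h1.1 h1.2 a ha y (h4 ▸ hy)))
            (A_le_UT hj h2 h3 hy)
        · exact conj_mem_of_commute (h.R1 i l i j h1.1 h1.2 h2 h3 (fr.ne i).symm
            (fun e => h1.2 (by rw [e, neg_neg])) h3 h4 a ha y hy) (A_le_UT hj h2 h3 hy)
      · exact conj_mem_of_commute (h.R4 i l i h1.1 h1.2 (fr.ne i).symm
          (fun e => h1.2 (by rw [e, neg_neg])) a ha y hy) (C_le_UT hy)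
    have h3 : x ∈ A i l ⊔ UT A C i T := UT_le (fun j hj h2 h3 => by
      rcases hj with rfl | hj
      · exact le_sup_left
      · exact le_sup_of_le_right (A_le_UT hj h2 h3)) (le_sup_of_le_right C_le_UT) hx
    rw [← SetLike.mem_coe, coe_mul_of_left_le_normalizer_right _ _ h2] at h3
    obtain ⟨a, ha, y, hy, rfl⟩ := h3
    have h4 := h.fix hy (k := -l) (fun e => h1.1 (neg_injective e)) (by rwa [neg_neg])
    obtain rfl : a = 1 := h.Ainj i l h1.1 h1.2 a ha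
      (fr.RA_eq_one h1.2 (h.Amem i l h1.1 h1.2 a ha) (c := 1) (by
        rw [one_smul]; conv_lhs => rw [← h4]
        rw [← Isom.mul_apply, ← map_mul]
        change (φ (a * y)).1 _ = _
        rw [h0, Isom.one_apply]))
    simpa using ih y hy (by simpa using h0)

theorem exists_eq [Finite I] {i : I} (K : Set I) (hi : -i ∉ K) {g : f.Isom} (hg : g ∈ fr.U i)
    (hK : ∀ k ∈ K, g.1 (fr.e k) = fr.e k) : ∃ x ∈ UT A C i {j | -j ∉ K}, φ x = g :=
  fr.U_induction K (T := (UT A C i {j | -j ∉ K}).map φ)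
    (fun j h1 h2 h3 g hg => let ⟨x, hx, e⟩ := h.Asurj i j h1 h2 g hg; ⟨x, A_le_UT h3 h1 h2 hx, e⟩)
    (fun g hg => let ⟨x, hx, e⟩ := h.Csurj i g hg; ⟨x, C_le_UT hx, e⟩) hg hK hi

theorem eq [Finite I] {i : I} {x y : J} (hx : x ∈ UT A C i Set.univ) (hy : y ∈ UT A C i Set.univ)
    (e : φ x = φ y) : x = y :=
  mul_inv_eq_one.1 (h.inj _ _ (mul_mem hx (inv_mem hy)) (by simp [e]))

theorem mem_A [Finite I] {i j : I} (h1 : j ≠ i) (h2 : j ≠ -i) {x : J} (hx : x ∈ UT A C i Set.univ)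
    (ha : φ x ∈ fr.RA i j) : x ∈ A i j := by
  obtain ⟨y, hy, e⟩ := h.Asurj i j h1 h2 _ ha
  exact h.eq (A_le_UT (Set.mem_univ _) h1 h2 hy) hx e ▸ hy

theorem mem_C [Finite I] {i : I} {x : J} (hx : x ∈ UT A C i Set.univ)
    (ha : φ x ∈ fr.RC i) : x ∈ C i := by
  obtain ⟨y, hy, e⟩ := h.Csurj i _ ha
  exact h.eq (C_le_UT hy) hx e ▸ hy

theorem norm [Finite I] (i j : I) (x : J) (hx : x ∈ UT A C j Set.univ)
    (hf : (φ x).1 (fr.e i) = fr.e i) (y : J) (hy : y ∈ UT A C i Set.univ) :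
    x * y * x⁻¹ ∈ UT A C i Set.univ := by
  by_cases h1 : i = j
  · subst h1; exact mul_mem (mul_mem hx hy) (inv_mem hx)
  by_cases h2 : i = -j
  · rw [h.inj _ x hx (fr.U_eq_one (h.mem hx) (c := 1) (by rw [← h2, hf, one_smul]))]
    simpa using hy
  have h2' : j ≠ -i := fun e => h2 (by rw [e, neg_neg])
  obtain ⟨x', hx', e⟩ := h.exists_eq {i} (i := j) (fun e => h2 e.symm) (h.mem hx) (by simpa)
  obtain rfl := h.eq (UT_mono (Set.subset_univ _) hx') hx e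
  have : UT A C j {l | -l ∉ ({i} : Set I)} ≤ normalizer (UT A C i Set.univ : Subgroup J) := by
    refine UT_le (fun l hl h3 h4 => le_normalizer_iff.2 fun x hx y hy => ?_)
      (le_normalizer_iff.2 fun x hx y hy => ?_)
    · have h5 : l ≠ -i := fun e => hl (by rw [e, neg_neg]; rfl)
      by_cases h6 : l = i
      · subst h6
        have := A_le_UT (C := C) (T := Set.univ) trivial (Ne.symm h1) h2' (h.Asym _ _ h3 h4 hx)
        exact mul_mem (mul_mem this hy) (inv_mem this)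
      refine conj_mem_UT (fun t _ h7 h8 y hy => ?_) (fun y hy => ?_) hy
      · have hy' := A_le_UT (C := C) (T := Set.univ) trivial h7 h8 hy
        by_cases h9 : t = -j
        · subst h9
          refine conj_mem_of_comm' (A_le_UT (Set.mem_univ _) h6 h5 ?_) hy'
          exact h.R3 i (-j) l h7 h8 h6 h5 h4 (by rwa [neg_neg]) y hy x (by rwa [neg_neg])
        by_cases h10 : t = -l
        · subst h10
          refine conj_mem_of_comm' (A_le_UT (Set.mem_univ _) (Ne.symm h1) h2' ?_) hy'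
          exact h.R3 i (-l) j h7 h8 (Ne.symm h1) h2' (fun e => h4 (by rw [e, neg_neg]))
            (by rw [neg_neg]; exact h3.symm) y hy x (by rw [neg_neg]; exact h.Asym _ _ h3 h4 hx)
        exact conj_mem_of_commute (h.R1 j l i t h3 h4 h7 h8 h2
          (fun e => h5 (by rw [e, neg_neg])) h9 h10 x hx y hy) hy'
      · exact conj_mem_of_commute (h.R4 j l i h3 h4 h2 (fun e => h5 (by rw [e, neg_neg])) x hx y hy)
          (C_le_UT hy)
    · refine conj_mem_UT (fun t _ h7 h8 y hy => ?_) (fun y hy => ?_) hy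
      · have hy' := A_le_UT (C := C) (T := Set.univ) trivial h7 h8 hy
        by_cases h9 : t = -j
        · subst h9
          refine conj_mem_of_comm' ?_ hy'
          have := h.R5 i (-j) h7 h8 y hy x (by rwa [neg_neg])
          rw [neg_neg] at this
          exact sup_le (A_le_UT (Set.mem_univ _) (Ne.symm h1) h2') C_le_UT this
        · exact conj_mem_of_commute (h.R4 i t j h7 h8 h2' (fun e => h9 (by rw [e, neg_neg]))
            y hy x hx).symm hy'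
      · exact conj_mem_of_comm' (A_le_UT (Set.mem_univ _) (Ne.symm h1) h2'
          (h.R6 i j (Ne.symm h1) h2' y hy x hx)) (C_le_UT hy)
  exact le_normalizer_iff.1 this _ hx' y hy

theorem pSt0 [Finite I] : PSt0 fr φ (fun i => UT A C i Set.univ) where
  inj i := h.inj _
  mem i x hx := h.mem hx
  surj i g hg := by
    obtain ⟨x, hx, e⟩ := h.exists_eq ∅ (by simp) hg (by simp)
    exact ⟨x, UT_mono (Set.subset_univ _) hx, e⟩
  norm := h.norm
  swap i j h1 h2 x hx ha := A_le_UT (Set.mem_univ _) h1.symm (fun e => h2 (by rw [e, neg_neg]))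
    (h.Asym i j h1 h2 (h.mem_A h1 h2 hx ha))

end RGD

end Cfsg.Agent.Cls
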