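import Cfsg.Agent.Lib.Cls.LeviStab

/-!
The monomial group generated by the monomial elements of a linear subgroup and sign changes.
-/

set_option autoImplicit false

namespace Cfsg.Agent.Cls

open Forms Forms.Form Subgroup
open scoped commutatorElement

variable {F : Type*} [Field F] {P : Param F} {V : Type*} [AddCommGroup V] [Module F V]
  {f : Form P V} {I : Type*} [InvolutiveNeg I] {J : Type*} [Group J]

theorem commute_of_closure {s t : Set J} (h : ∀ x ∈ s, ∀ y ∈ t, Commute x y) {x y : J}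
    (hx : x ∈ closure s) (hy : y ∈ closure t) : Commute x y :=
  ((closure_le (centralizer {y})).2 (fun a ha => mem_centralizer_singleton_iff.2
    (((closure_le (centralizer {a})).2 (fun b hb => mem_centralizer_singleton_iff.2
      (h a ha b hb).symm) hy) a rfl)) hx y rfl).symm

theorem conj_mem_of_closure {s : Set J} {N : Subgroup J} {g : J} (h : ∀ x ∈ s, g * x * g⁻¹ ∈ N)
    {x : J} (hx : x ∈ closure s) : g * x * g⁻¹ ∈ N :=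
  (closure_le (N.comap (MulAut.conj g).toMonoidHom)).2 h hx

theorem conj_pow_mem {N : Subgroup J} {g : J} (h : ∀ x ∈ N, g * x * g⁻¹ ∈ N) (n : ℕ) :
    ∀ x ∈ N, g ^ n * x * (g ^ n)⁻¹ ∈ N := by
  induction n with
  | zero => simp
  | succ n ih => exact fun x hx => by simpa [pow_succ, mul_assoc] using ih _ (h x hx)

/-- the elements of `X` whose commutators with `Y` lie in `D` -/
def commSub (X : Subgroup J) (Y : Set J) (D : Subgroup J) (h : ∀ x ∈ X, ∀ d ∈ D, x * d * x⁻¹ ∈ D) :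
    Subgroup J where
  carrier := {x | x ∈ X ∧ ∀ y ∈ Y, ⁅x, y⁆ ∈ D}
  one_mem' := ⟨one_mem _, fun y _ => by simp⟩
  mul_mem' := fun {a b} ha hb => ⟨mul_mem ha.1 hb.1, fun y hy => by
    convert mul_mem (h a ha.1 _ (hb.2 y hy)) (ha.2 y hy) using 1
    simp only [commutatorElement_def]; group⟩
  inv_mem' := fun {a} ha => ⟨inv_mem ha.1, fun y hy => by
    convert h _ (inv_mem ha.1) _ (inv_mem (ha.2 y hy)) using 1
    simp only [commutatorElement_def]; group⟩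

theorem comm_swap_mem {D : Subgroup J} {x y : J} (h : ⁅x, y⁆ ∈ D) : ⁅y, x⁆ ∈ D := by
  simpa using inv_mem h

theorem conj_ne_one {x : J} (h : x ≠ 1) (g : J) : g * x * g⁻¹ ≠ 1 := by simpa using h

theorem conj_comm_left (g x y : J) : ⁅g * x * g⁻¹, y⁆ = g * ⁅x, g⁻¹ * y * g⁻¹⁻¹⁆ * g⁻¹ := by
  simp only [commutatorElement_def]; group

theorem conj_comm_fix {g x : J} (h : g * x * g⁻¹ = x) (y : J) :
    ⁅g * y * g⁻¹, x⁆ = g * ⁅y, x⁆ * g⁻¹ := by rw [conj_comm, h]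

theorem exists_pow_eq [Finite F] : ∃ ζ : F, ζ ≠ 0 ∧ ∀ t, t ≠ 0 → ∃ n : ℕ, t = ζ ^ n := by
  obtain ⟨ζ, h⟩ := IsCyclic.exists_monoid_generator (α := Fˣ)
  refine ⟨ζ, ζ.ne_zero, fun t ht => ?_⟩
  obtain ⟨n, hn⟩ := h (Units.mk0 t ht)
  exact ⟨n, by simpa using (congrArg Units.val hn).symm⟩

theorem apply_pow {g : f.Isom} {v : V} {c : F} (h : g.1 v = c • v) (n : ℕ) :
    (g ^ n).1 v = c ^ n • v := by
  induction n with
  | zero => simp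
  | succ n ih => rw [pow_succ, Isom.mul_apply, h, map_smul, ih, smul_smul, pow_succ']

theorem Frame.diag_commute [Finite I] (fr : Frame f I) {g g' : f.Isom} (h : ∀ k, fr.Mv g k k)
    (h' : ∀ k, fr.Mv g' k k) (hV : ∀ v ∈ fr.V0, g.1 v = v) : Commute g g' :=
  fr.ext (fun k => by
    obtain ⟨c, hc⟩ := h k
    obtain ⟨d, hd⟩ := h' k
    simp only [Isom.mul_apply, hc, hd, map_smul, smul_smul, mul_comm]) fun v hv => by
      rw [Isom.mul_apply, Isom.mul_apply, hV v hv,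
        hV _ (fr.mem_V0_of_mon (fr.mem_Mon fun k => ⟨k, h' k⟩) hv)]

theorem Box.le_of_span {fr : Frame f I} {φ : J →* f.Isom} {a b : I} {X N : Subgroup J}
    (hX : Box φ X (fr.RS a b)) {x : J} (h1 : x ∈ X) (h0 : x ≠ 1) {T : Set F}
    (hT : ∀ (A : AddSubgroup F) (d : F), d ≠ 0 → (∀ s ∈ T, d * s ∈ A) → ∀ t, t ∈ A)
    (hs : ∀ s ∈ T, ∃ (g : J) (c d : F), (φ g).1 (fr.e a) = c • fr.e a ∧
      (φ g).1 (fr.e b) = d • fr.e b ∧ P.σ c * d = s ∧ g * x * g⁻¹ ∈ X ⊓ N) : X ≤ N := by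
  obtain ⟨t, ht⟩ := hX.mem x h1
  have t0 : t ≠ 0 := by rintro rfl; exact h0 (hX.inj x h1 (IsE.eq_one (by simpa using ht)))
  let A : AddSubgroup F :=
    { carrier := {u | ∃ y ∈ X ⊓ N, IsE (φ y) (fr.e a) (u • fr.e b) 0}
      zero_mem' := ⟨1, one_mem _, by simpa using isE_one _⟩
      add_mem' := fun ⟨y, hy, e⟩ ⟨y', hy', e'⟩ => ⟨y * y', mul_mem hy hy', by
        rw [map_mul]
        exact (e.mul (fr.Qe a) e').congr (add_smul _ _ _).symm (by simp [f.B_self_of_Q (fr.Qe b)])⟩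
      neg_mem' := fun ⟨y, hy, e⟩ => ⟨y⁻¹, inv_mem hy, by
        rw [map_inv]
        exact (e.inv (fr.Qe a)).congr (neg_smul _ _).symm (by simp)⟩ }
  intro y hy
  obtain ⟨u, hu⟩ := hX.mem y hy
  obtain ⟨y', hy', e⟩ := hT A t t0 (fun s hs' => by
    obtain ⟨g, c, d, a1, a2, rfl, a3⟩ := hs s hs'
    refine ⟨_, a3, ?_⟩
    rw [map_mul, map_mul, map_inv]
    exact (ht.of_conj a1 (fr.smul_ne_zero a1)).congr
      (by rw [map_smul, a2, smul_smul, smul_smul]; congr 1; ring) (mul_zero _)) u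
  exact hX.eq hy'.1 hy (e.eq hu) ▸ hy'.2

theorem span_sq [Finite F] (A : AddSubgroup F) (d : F) (hd : d ≠ 0)
    (h : ∀ s ∈ {s : F | ∃ t, t ≠ 0 ∧ s = t ^ 2}, d * s ∈ A) (t : F) : t ∈ A :=
  SLn.addSubgroup_eq_top_of_sq A hd (fun s => by
    by_cases e : s = 0
    · simp [e]
    · exact h _ ⟨s, e, rfl⟩) t

theorem stab_of_torus [Finite I] [Finite F] {fr : Frame f I} {φ : J →* f.Isom} {S : Set I} {i : I}
    {L K : Subgroup J} (S1 : ∀ i ∈ S, -i ∉ S) (S2 : ∀ i, i ∈ S ∨ -i ∈ S) (hi : i ∈ S)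
    (box : Box φ L (fr.Levi S)) (far : ∀ l ∈ L, φ l ∈ fr.Levi (S \ {i}) → ∀ k ∈ K, Commute l k)
    {η : J} {ζ : F} (hζ : ∀ t, t ≠ 0 → ∃ n : ℕ, t = ζ ^ n) (h1 : η ∈ L) (h2 : φ η ∈ fr.Mon)
    (h3 : (φ η).1 (fr.e i) = ζ • fr.e i) (h4 : ∀ k ∈ K, η * k * η⁻¹ ∈ K) :
    ∀ l ∈ L, φ l ∈ fr.Mon → fr.Mv (φ l) i i → ∀ k ∈ K, l * k * l⁻¹ ∈ K := by
  rintro l hl l1 ⟨t, ht⟩ k hk
  obtain ⟨n, rfl⟩ := hζ t (fr.smul_ne_zero ht)
  have a1 : (η ^ n)⁻¹ * l ∈ L := mul_mem (inv_mem (pow_mem h1 n)) hl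
  have := far _ a1 (fr.Levi_stab S1 S2 (by simpa) (box.mem _ a1) (by
    rw [map_mul, map_inv, map_pow]; exact mul_mem (inv_mem (pow_mem h2 n)) l1) (by
      rintro _ rfl
      rw [map_mul, map_inv, map_pow, Isom.mul_apply, ht, ← apply_pow h3, Isom.inv_apply])) k hk
  convert conj_pow_mem h4 n k hk using 1
  calc _ = η ^ n * ((η ^ n)⁻¹ * l * k * ((η ^ n)⁻¹ * l)⁻¹) * (η ^ n)⁻¹ := by group
    _ = _ := by rw [this.eq, mul_inv_cancel_right]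

theorem pos_of_sign [Finite I] {fr : Frame f I} {φ : J →* f.Isom} {S : Set I} {M : Subgroup J}
    (S2 : ∀ i, i ∈ S ∨ -i ∈ S) (mon : ∀ m ∈ M, φ m ∈ fr.Mon)
    (hn : ∀ a ∈ S, ∃ n ∈ M, fr.Mv (φ n) (-a) a ∧ ∀ k, k ≠ a → k ≠ -a → fr.Mv (φ n) k k)
    (T : Set I) (hT : ∀ a ∈ T, -a ∉ T) : ∃ m ∈ M, ∀ a ∈ T, ∃ a' ∈ S, fr.Mv (φ m) a a' := by
  induction T, Set.toFinite T using Set.Finite.induction_on with
  | empty => exact ⟨1, one_mem _, by simp⟩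
  | @insert r T hr _ ih =>
    obtain ⟨m, hm, h⟩ := ih fun a ha e => hT a (Or.inr ha) (Or.inr e)
    obtain ⟨b, hb⟩ := (mon m hm).1 r
    by_cases e : b ∈ S
    · refine ⟨m, hm, ?_⟩
      rintro a (rfl | ha)
      exacts [⟨b, e, hb⟩, h a ha]
    obtain ⟨n, hn, n1, n2⟩ := hn _ ((S2 b).resolve_left e)
    rw [neg_neg] at n1 n2
    refine ⟨n * m, mul_mem hn hm, ?_⟩
    rintro a (rfl | ha)
    · exact ⟨_, (S2 b).resolve_left e, Base.mv_mul n1 hb⟩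
    obtain ⟨a', h1, h2⟩ := h a ha
    exact ⟨a', h1, Base.mv_mul (n2 a' (fun e' => hT r (Or.inl rfl)
      (Or.inr ((h2.inj (e' ▸ hb.neg' (mon m hm))) ▸ ha))) fun e' => e (e' ▸ h1)) h2⟩

/-- A linear subgroup and a subgroup attached to one index. -/
structure SetK (fr : Frame f I) (φ : J →* f.Isom) (S : Set I) (i j : I) (L K : Subgroup J) (w : J) :
    Prop where
  S1 : ∀ i ∈ S, -i ∉ S
  S2 : ∀ i, i ∈ S ∨ -i ∈ S
  hi : i ∈ S
  hj : j ∈ S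
  ne : j ≠ i
  box : Box φ L (fr.Levi S)
  fix : ∀ k ∈ K, ∀ a, a ≠ i → a ≠ -i → (φ k).1 (fr.e a) = fr.e a
  neg : ∃ n ∈ K, φ n ∈ fr.Mon ∧ fr.Mv (φ n) (-i) i
  wL : w ∈ L
  wM : φ w ∈ fr.Mon
  w1 : fr.Mv (φ w) i j
  stab : ∀ l ∈ L, φ l ∈ fr.Mon → fr.Mv (φ l) i i → ∀ k ∈ K, l * k * l⁻¹ ∈ K
  far : ∀ l ∈ L, φ l ∈ fr.Levi (S \ {i}) → ∀ k ∈ K, Commute l k
  comm : ∀ k ∈ K, ∀ k' ∈ K, Commute k (w * k' * w⁻¹)

section defs

variable (fr : Frame f I) (φ : J →* f.Isom)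

/-- the monomial elements of a subgroup -/
abbrev NL (L : Subgroup J) : Subgroup J := L ⊓ fr.Mon.comap φ

/-- the conjugates of `K` -/
abbrev KF (i : I) (L K : Subgroup J) (a : I) : Subgroup J := CF fr φ i (NL fr φ L) K a

/-- the group generated by the monomial elements of some conjugates of `K` -/
def ET (i : I) (L K : Subgroup J) (T : Set I) : Subgroup J := ⨆ a ∈ T, NL fr φ (KF fr φ i L K a)

/-- the monomial group -/
def MK (S : Set I) (i : I) (L K : Subgroup J) : Subgroup J := ET fr φ i L K S ⊔ NL fr φ L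

end defs

variable {fr : Frame f I} {φ : J →* f.Isom} {S : Set I} {i j : I} {L K : Subgroup J} {w : J}

theorem ET_le {T : Set I} {N : Subgroup J} (h : ∀ a ∈ T, NL fr φ (KF fr φ i L K a) ≤ N) :
    ET fr φ i L K T ≤ N := iSup₂_le h

theorem le_ET {T : Set I} {a : I} (h : a ∈ T) : NL fr φ (KF fr φ i L K a) ≤ ET fr φ i L K T :=
  le_iSup₂ (f := fun a (_ : a ∈ T) => NL fr φ (KF fr φ i L K a)) a h

theorem mem_MK_of_K {a : I} (ha : a ∈ S) {k : J} (h : k ∈ KF fr φ i L K a) (h' : φ k ∈ fr.Mon) :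
    k ∈ MK fr φ S i L K := mem_sup_left (le_ET ha ⟨h, h'⟩)

theorem mem_MK_of_L {k : J} (h : k ∈ L) (h' : φ k ∈ fr.Mon) : k ∈ MK fr φ S i L K :=
  mem_sup_right ⟨h, h'⟩

theorem MK_mon : ∀ m ∈ MK fr φ S i L K, φ m ∈ fr.Mon :=
  (sup_le (ET_le fun _ _ => inf_le_right) inf_le_right : _ ≤ fr.Mon.comap φ)

namespace SetK

variable (h : SetK fr φ S i j L K w)
include h

theorem ne' {a b : I} (ha : a ∈ S) (hb : b ∈ S) : b ≠ -a := fun e => h.S1 _ ha (e ▸ hb)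

theorem mem_K {x : J} : x ∈ KF fr φ i L K i ↔ x ∈ K :=
  ⟨fun hx => by simpa using hx 1 (one_mem _) (by rw [map_one]; exact .one),
    fun hx m hm h1 => h.stab m hm.1 hm.2 h1 x hx⟩

theorem conj_mem_K {x : J} (hx : x ∈ K) : w * x * w⁻¹ ∈ KF fr φ i L K j :=
  Base.conj_C (M := NL fr φ L) ⟨h.wL, h.wM⟩ h.w1 (h.mem_K.2 hx)

theorem mv_mem {l : J} (hl : l ∈ L) {a b : I} (ha : a ∈ S) (e : fr.Mv (φ l) a b) : b ∈ S :=
  fr.mv_mem_of_Levi h.S1 h.S2 (h.box.mem l hl) ha e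

variable [Finite I]

theorem two_trans {a b a' b' : I} (ha : a ∈ S) (hb : b ∈ S) (ha' : a' ∈ S) (hb' : b' ∈ S)
    (e : b ≠ a) (e' : b' ≠ a') : ∃ m ∈ NL fr φ L, fr.Mv (φ m) a a' ∧ fr.Mv (φ m) b b' := by
  obtain ⟨g, hg, h1, h2⟩ := fr.exists_two_trans h.S1 h.S2 ha hb ha' hb' e e'
  obtain ⟨m, hm, rfl⟩ := h.box.surj g hg
  exact ⟨m, ⟨hm, h1⟩, h2⟩

theorem trans {a : I} (ha : a ∈ S) : ∃ m ∈ NL fr φ L, fr.Mv (φ m) a i := by
  obtain ⟨g, hg, h1, h2, -⟩ := fr.exists_swap ha h.hi (h.ne' ha h.hi)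
  obtain ⟨m, hm, rfl⟩ := h.box.surj g hg
  exact ⟨m, ⟨hm, h1⟩, h2⟩

theorem K_fix {a : I} (ha : a ∈ S) {x : J} (hx : x ∈ KF fr φ i L K a) {b : I} (h1 : b ≠ a)
    (h2 : b ≠ -a) : (φ x).1 (fr.e b) = fr.e b := by
  obtain ⟨m, hm, a1⟩ := h.trans ha
  obtain ⟨c, hc⟩ := hm.2.1 b
  simpa [mul_assoc] using conj_fix (Base.mv_inv hc) (h.fix _ (hx m hm a1) c
    (fun e => h1 (hc.inj (e ▸ a1))) fun e => h2 (hc.inj (e ▸ a1.neg' hm.2)))

theorem K_comm {a b : I} (ha : a ∈ S) (hb : b ∈ S) (e : b ≠ a) {x y : J}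
    (hx : x ∈ KF fr φ i L K a) (hy : y ∈ KF fr φ i L K b) : Commute x y := by
  obtain ⟨m, hm, a1, a2⟩ := h.two_trans ha hb h.hi h.hj e h.ne
  have := h.comm _ (hx m hm a1) _ (hy _ (mul_mem (inv_mem ⟨h.wL, h.wM⟩) hm)
    (Base.mv_mul (Base.mv_inv h.w1) a2))
  exact commute_of_conj m (by simpa [mul_assoc] using this)

theorem K_far {a b c : I} (ha : a ∈ S) (hb : b ∈ S) (hc : c ∈ S) (h1 : b ≠ a) (h2 : c ≠ a)
    (h3 : c ≠ b) {x y : J} (hx : x ∈ L) (hx' : φ x ∈ fr.RA b (-c)) (hy : y ∈ KF fr φ i L K a) :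
    Commute x y := by
  obtain ⟨m, hm, a1⟩ := h.trans ha
  obtain ⟨b', a2⟩ := hm.2.1 b
  obtain ⟨c', a3⟩ := hm.2.1 c
  refine commute_of_conj m (h.far _ (mul_mem (mul_mem hm.1 hx) (inv_mem hm.1)) ?_ _ (hy m hm a1))
  rw [map_mul, map_mul, map_inv]
  exact fr.mem_Levi (S := S \ {i}) ⟨h.mv_mem hm.1 hb a2, fun e => h1 (a2.inj (e ▸ a1))⟩
    ⟨h.mv_mem hm.1 hc a3, fun e => h2 (a3.inj (e ▸ a1))⟩ (fun e => h3 (a3.inj (e ▸ a2)))
    (a2.conj_RA (a3.neg' hm.2) hx')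

theorem sign {a : I} (ha : a ∈ S) : ∃ n ∈ KF fr φ i L K a, φ n ∈ fr.Mon ∧ fr.Mv (φ n) (-a) a := by
  obtain ⟨m, hm, a1⟩ := h.trans ha
  obtain ⟨n, hn, n1, n2⟩ := h.neg
  refine ⟨_, Base.conj_C (inv_mem hm) (Base.mv_inv a1) (h.mem_K.2 hn), ?_,
    Base.mv_mul (Base.mv_mul (Base.mv_inv a1) n2) (by rw [inv_inv]; exact a1.neg' hm.2)⟩
  rw [map_mul, map_mul]
  exact mul_mem (mul_mem (inv_mem hm).2 n1) (inv_mem (inv_mem hm)).2

theorem pos (T : Set I) (hT : ∀ a ∈ T, -a ∉ T) :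
    ∃ m ∈ MK fr φ S i L K, ∀ a ∈ T, ∃ a' ∈ S, fr.Mv (φ m) a a' :=
  pos_of_sign h.S2 MK_mon (fun _ ha =>
    let ⟨n, n1, n2, n3⟩ := h.sign ha
    ⟨n, mem_MK_of_K ha n1 n2, n3, fun _ k1 k2 => .of_eq (h.K_fix ha n1 k1 k2)⟩) T hT

theorem ET_fix {T : Set I} (hT : T ⊆ S) {a : I} (ha : a ∈ S) (h1 : a ∉ T) {x : J}
    (hx : x ∈ ET fr φ i L K T) : (φ x).1 (fr.e a) = fr.e a :=
  ET_le (N := FixV fr φ {a}ᶜ) (fun b hb y hy c hc => by
    obtain rfl : c = a := by simpa using hc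
    exact h.K_fix (hT hb) hy.1 (fun e => h1 (e ▸ hb)) (h.ne' (hT hb) ha)) hx a (by simp)

theorem ET_comm {T : Set I} (hT : T ⊆ S) {a : I} (ha : a ∈ S) (h1 : a ∉ T) {x y : J}
    (hx : x ∈ ET fr φ i L K T) (hy : y ∈ KF fr φ i L K a) : Commute x y :=
  (ET_le (N := centralizer {y}) (fun b hb z hz => mem_centralizer_singleton_iff.2
    (h.K_comm (hT hb) ha (fun e => h1 (e ▸ hb)) hz.1 hy)) hx y rfl).symm

theorem ET_split {T : Set I} (hT : T ⊆ S) {a : I} (ha : a ∈ S) {x : J} (hx : x ∈ ET fr φ i L K T) :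
    ∃ k ∈ NL fr φ (KF fr φ i L K a), ∃ e ∈ ET fr φ i L K (T \ {a}), x = k * e := by
  have h1 : x ∈ NL fr φ (KF fr φ i L K a) ⊔ ET fr φ i L K (T \ {a}) :=
    ET_le (fun b hb => by
      by_cases e : b = a
      · exact e ▸ le_sup_left
      · exact le_sup_of_le_right (le_ET ⟨hb, e⟩)) hx
  have h2 : NL fr φ (KF fr φ i L K a) ≤ normalizer (ET fr φ i L K (T \ {a}) : Subgroup J) :=
    le_normalizer_iff.2 fun k hk y hy => conj_mem_of_commute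
      (h.ET_comm (Set.sdiff_subset.trans hT) ha (by simp) hy hk.1).symm hy
  rw [← SetLike.mem_coe, coe_mul_of_left_le_normalizer_right _ _ h2] at h1
  obtain ⟨k, hk, e, he, rfl⟩ := h1
  exact ⟨k, hk, e, he, rfl⟩

theorem split {m : J} (hm : m ∈ MK fr φ S i L K) : ∃ e ∈ ET fr φ i L K S, ∃ l ∈ NL fr φ L,
    m = e * l ∧ ∀ a ∈ S, fr.Mv (φ m) a a → fr.Mv (φ l) a a ∧ fr.Mv (φ e) a a := by
  have h2 : NL fr φ L ≤ normalizer (ET fr φ i L K S : Subgroup J) := le_normalizer_iff.2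
    fun l hl y hy => (ET_le (N := (ET fr φ i L K S).comap (MulAut.conj l).toMonoidHom)
      (fun a ha z hz => by
        obtain ⟨b, hb⟩ := hl.2.1 a
        refine le_ET (h.mv_mem hl.1 ha hb) ⟨Base.conj_C hl hb hz.1, ?_⟩
        change φ (l * z * l⁻¹) ∈ fr.Mon
        rw [map_mul, map_mul]
        exact mul_mem (mul_mem hl.2 hz.2) (inv_mem hl).2) hy)
  rw [MK, ← SetLike.mem_coe, coe_mul_of_right_le_normalizer_left _ _ h2] at hm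
  obtain ⟨e, he, l, hl, rfl⟩ := hm
  refine ⟨e, he, l, hl, rfl, fun a ha h1 => ?_⟩
  obtain ⟨b, hb⟩ := hl.2.1 a
  have b1 := h.mv_mem hl.1 ha hb
  have b2 : fr.Mv (φ e) b a := by simpa using Base.mv_mul h1 (Base.mv_inv hb)
  obtain rfl : b = a := by
    by_contra e'
    obtain ⟨k, hk, e, he', rfl⟩ := h.ET_split subset_rfl b1 he
    have := Base.mv_mul (Base.mv_inv (.of_eq (h.K_fix b1 hk.1 (Ne.symm e') (h.ne' b1 ha)))) b2
    rw [inv_mul_cancel_left] at this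
    exact e' ((Frame.Mv.of_eq (h.ET_fix Set.sdiff_subset b1 (by simp) he')).unique this)
  exact ⟨hb, b2⟩

/-- elements fixing the `i`-th point -/
theorem conj_mem_one {N : Subgroup J} (hN : N ≤ K)
    (h1 : ∀ l ∈ NL fr φ L, fr.Mv (φ l) i i → ∀ x ∈ N, l * x * l⁻¹ ∈ N)
    (h2 : ∀ k ∈ NL fr φ K, fr.Mv (φ k) i i → ∀ x ∈ N, k * x * k⁻¹ ∈ N)
    (m : J) (hm : m ∈ MK fr φ S i L K) (e : fr.Mv (φ m) i i) (x : J) (hx : x ∈ N) :
    m * x * m⁻¹ ∈ N := by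
  obtain ⟨e', he, l, hl, rfl, a⟩ := h.split hm
  obtain ⟨a1, a2⟩ := a i h.hi e
  obtain ⟨k, hk, e, he', rfl⟩ := h.ET_split subset_rfl h.hi he
  have b1 := h1 l hl a1 x hx
  have b2 := conj_mem_of_commute (h.ET_comm Set.sdiff_subset h.hi (by simp) he'
    (h.mem_K.2 (hN b1))) b1
  simpa [mul_assoc] using h2 k ⟨h.mem_K.1 hk.1, hk.2⟩ (by simpa using (Base.mv_mul a2
    (Base.mv_inv (.of_eq (h.ET_fix Set.sdiff_subset h.hi (by simp) he'))))) _ b2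

theorem base {C : Subgroup J} (boxC : Box φ C (fr.RC i))
    (sC : ∀ m ∈ MK fr φ S i L K, fr.Mv (φ m) i i → ∀ x ∈ C, m * x * m⁻¹ ∈ C)
    (h1 : ∀ k ∈ NL fr φ K, fr.Mv (φ k) i i → ∀ x ∈ L, φ x ∈ fr.RA i (-j) →
      k * x * k⁻¹ ∈ L ∧ w * k * w⁻¹ * x * (w * k * w⁻¹)⁻¹ ∈ L) :
    Base fr φ S i j L (MK fr φ S i L K) C where
  S1 := h.S1
  S2 := h.S2
  hi := h.hi
  hj := h.hj
  ne := h.ne
  box := h.box
  mon := MK_mon
  NL _ := mem_MK_of_L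
  pos a b c h1 h2 h3 := by
    obtain ⟨m, hm, e⟩ := h.pos {a, b, c} (by
      simp [fr.ne, h1.symm, h2.symm, h3.symm, neg_ne_of h1, neg_ne_of h2, neg_ne_of h3])
    obtain ⟨a', a1, a2⟩ := e a (by simp)
    obtain ⟨b', b1, b2⟩ := e b (by simp)
    obtain ⟨c', c1, c2⟩ := e c (by simp)
    exact ⟨m, hm, a', a1, b', b1, c', c1, a2, b2, c2⟩
  boxC := boxC
  sC := sC
  sA m hm e1 e2 x hx hx' := by
    obtain ⟨e', he, l, hl, rfl, a⟩ := h.split hm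
    obtain ⟨a1, a2⟩ := a i h.hi e1
    obtain ⟨a3, a4⟩ := a j h.hj e2
    obtain ⟨k, hk, e0, he0, rfl⟩ := h.ET_split subset_rfl h.hi he
    obtain ⟨k', hk', e, he', rfl⟩ := h.ET_split Set.sdiff_subset h.hj he0
    have hS : (S \ {i}) \ {j} ⊆ S := Set.sdiff_subset.trans Set.sdiff_subset
    have b1 : l * x * l⁻¹ ∈ L := mul_mem (mul_mem hl.1 hx) (inv_mem hl.1)
    have cA : ∀ {g x : J}, φ g ∈ fr.Mon → fr.Mv (φ g) i i → fr.Mv (φ g) j j → φ x ∈ fr.RA i (-j) →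
        φ (g * x * g⁻¹) ∈ fr.RA i (-j) := fun g1 g2 g3 g4 => by
      rw [map_mul, map_mul, map_inv]; exact g2.conj_RA (g3.neg' g1) g4
    have b2 := cA hl.2 a1 a3 hx'
    have b3 : Commute e (l * x * l⁻¹) := (ET_le (N := centralizer {l * x * l⁻¹})
      (fun b hb z hz => mem_centralizer_singleton_iff.2 (h.K_far (hS hb) h.hi h.hj
        (Ne.symm hb.1.2) (Ne.symm hb.2) h.ne b1 b2 hz.1).symm) he' _ rfl).symm
    have c1 := Frame.Mv.of_eq (h.ET_fix hS h.hi (by simp) he')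
    have c2 := Frame.Mv.of_eq (h.ET_fix hS h.hj (by simp) he')
    have c3 := Frame.Mv.of_eq (h.K_fix h.hj hk'.1 h.ne.symm (h.ne' h.hj h.hi))
    have c4 := Frame.Mv.of_eq (h.K_fix h.hi hk.1 h.ne (h.ne' h.hi h.hj))
    have c5 : fr.Mv (φ k') j j := by
      simpa [mul_assoc] using Base.mv_mul (Base.mv_mul (Base.mv_inv c4) a4) (Base.mv_inv c2)
    have c6 : fr.Mv (φ k) i i := by
      simpa [mul_assoc] using Base.mv_mul a2 (Base.mv_inv (Base.mv_mul c3 c1))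
    have wN : w ∈ NL fr φ L := ⟨h.wL, h.wM⟩
    have d1 := (h1 (w⁻¹ * k' * w⁻¹⁻¹) ⟨hk'.1 _ (inv_mem wN) (Base.mv_inv h.w1), by
      change φ _ ∈ fr.Mon
      rw [map_mul, map_mul]
      exact mul_mem (mul_mem (inv_mem wN).2 hk'.2) (inv_mem (inv_mem wN)).2⟩
      (Base.mv_mul (Base.mv_mul (Base.mv_inv h.w1) c5) (by rw [inv_inv]; exact h.w1)) _ b1 b2).2
    rw [show w * (w⁻¹ * k' * w⁻¹⁻¹) * w⁻¹ = k' by group] at d1
    have d2 := (h1 k ⟨h.mem_K.1 hk.1, hk.2⟩ c6 _ d1 (cA hk'.2 c3 c5 b2)).1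
    convert d2 using 1
    calc _ = k * (k' * (e * (l * x * l⁻¹) * e⁻¹) * k'⁻¹) * k⁻¹ := by group
      _ = _ := by rw [b3.eq, mul_inv_cancel_right]

theorem pos4 (a b c d : I) (h1 : b ≠ -a) (h2 : c ≠ -a) (h3 : c ≠ -b) (h4 : d ≠ -a) (h5 : d ≠ -b)
    (h6 : d ≠ -c) : ∃ m ∈ MK fr φ S i L K, ∃ a' ∈ S, ∃ b' ∈ S, ∃ c' ∈ S, ∃ d' ∈ S,
      fr.Mv (φ m) a a' ∧ fr.Mv (φ m) b b' ∧ fr.Mv (φ m) c c' ∧ fr.Mv (φ m) d d' := by
  obtain ⟨m, hm, e⟩ := h.pos {a, b, c, d} (by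
    simp [fr.ne, h1.symm, h2.symm, h3.symm, h4.symm, h5.symm, h6.symm, neg_ne_of h1, neg_ne_of h2,
      neg_ne_of h3, neg_ne_of h4, neg_ne_of h5, neg_ne_of h6])
  obtain ⟨a', a1, a2⟩ := e a (by simp)
  obtain ⟨b', b1, b2⟩ := e b (by simp)
  obtain ⟨c', c1, c2⟩ := e c (by simp)
  obtain ⟨d', d1, d2⟩ := e d (by simp)
  exact ⟨m, hm, a', a1, b', b1, c', c1, d', d1, a2, b2, c2, d2⟩

theorem CF_le {C : Subgroup J} (hC : C ≤ K) {a : I} (ha : a ∈ S) :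
    CF fr φ i (MK fr φ S i L K) C a ≤ KF fr φ i L K a ∧
      CF fr φ i (MK fr φ S i L K) C (-a) ≤ KF fr φ i L K a := by
  have h1 : CF fr φ i (MK fr φ S i L K) C a ≤ KF fr φ i L K a :=
    fun x hx m hm e => hC (hx m (mem_sup_right hm) e)
  obtain ⟨n, n1, n2, n3⟩ := h.sign ha
  refine ⟨h1, fun x hx => ?_⟩
  simpa [mul_assoc] using mul_mem (mul_mem (inv_mem n1)
    (h1 (Base.conj_C (mem_MK_of_K ha n1 n2) n3 hx))) n1

end SetK

namespace Base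

variable {M C : Subgroup J} (h : Base fr φ S i j L M C) [Finite I]
include h

theorem sym_all (sym : AF fr φ i j L M i (-j) ≤ AF fr φ i j L M (-j) i) {a b : I} (h1 : b ≠ a)
    (h2 : b ≠ -a) : AF fr φ i j L M a b ≤ AF fr φ i j L M b a := fun x hx => by
  obtain ⟨m, hm, a1, a2⟩ := h.trans h1 h2
  exact h.of_conj_A hm a2 a1 (sym (conj_A hm (h.mon m hm) a1 a2 hx))

theorem R4_all (R4 : ∀ x ∈ AF fr φ i j L M i (-j), ∀ y ∈ C, Commute x y) {a b : I} (h1 : b ≠ a)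
    (h2 : b ≠ -a) : ∀ x ∈ AF fr φ i j L M a b, ∀ y ∈ CF fr φ i M C a, Commute x y := by
  intro x hx y hy
  obtain ⟨m, hm, a1, a2⟩ := h.trans h1 h2
  exact commute_of_conj m (R4 _ (conj_A hm (h.mon m hm) a1 a2 hx) _ (hy m hm a1))

theorem L_le {N : Subgroup J} (hN : ∀ a ∈ S, ∀ b ∈ S, b ≠ a → AF fr φ i j L M a (-b) ≤ N) :
    L ≤ N := fun x hx => h.box.mem_of_le (fr.Levi_le fun a ha b hb e g hg => by
  obtain ⟨y, hy, rfl⟩ := h.box.surj g (fr.mem_Levi ha hb e hg)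
  exact ⟨y, ⟨hy, hN a ha b hb e ((h.mem_A ha hb e).2 ⟨hy, hg⟩)⟩, rfl⟩) hx (h.box.mem x hx)

theorem X_le [Finite F] {N : Subgroup J} {x : J} (h1 : x ∈ AF fr φ i j L M i (-j)) (h0 : x ≠ 1)
    (hN : ∀ g ∈ L, (∀ k, fr.Mv (φ g) k k) → (∀ v ∈ fr.V0, (φ g).1 v = v) → g * x * g⁻¹ ∈ N) :
    AF fr φ i j L M i (-j) ≤ N := by
  have e := h.ne' h.hi h.hj
  refine (h.boxA (neg_ne_of e) (neg_ne_neg_of h.ne)).le_of_span h1 h0 span_sq ?_
  rintro _ ⟨t, ht, rfl⟩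
  obtain ⟨g, g1, g2, g3, g4, -, g5⟩ := fr.exists_torus_A h.ne e (P.σ_ne_zero ht)
  obtain ⟨g, hg, rfl⟩ := h.box.surj g (g1 S h.hi h.hj)
  have g6 := fr.mem_Mon fun k => ⟨k, g4 k⟩
  exact ⟨g, _, _, g2, fr.apply_neg g3 (g4 _), by simp [P.σσ, sq],
    conj_A (h.NL g hg g6) g6 (g4 _) (g4 _) h1, hN g hg g4 g5⟩

end Base

end Cfsg.Agent.Cls
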