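import Cfsg.Agent.Lib.Cls.SetupK

/-!
A presentation of the symplectic groups.
-/

set_option autoImplicit false

namespace Cfsg.Agent.Cls

open Forms Forms.Form Subgroup Pres Monoid
open scoped commutatorElement

variable {F : Type*} [Field F] {V : Type*} [AddCommGroup V] [Module F V]
  {f : Form (Param.sp F) V} {I : Type*} [InvolutiveNeg I] {J : Type*} [Group J]

theorem Frame.sp_V0 (fr : Frame f I) : ∀ v ∈ fr.V0, v = 0 :=
  fun v hv => fr.aniso v (fr.mem_V0.1 hv) (f.sp_Q v)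

theorem Frame.sp_RC_ne_bot (fr : Frame f I) (k : I) : fr.RC k ≠ ⊥ := by
  obtain ⟨g, hg⟩ := exists_isE (fr.Qe k) (f.B_zero_left _) (f.sp_isLam 0 1)
  intro h
  have h1 : g ∈ fr.RC k := ⟨0, zero_mem _, 1, hg⟩
  rw [h, mem_bot] at h1
  have := hg.app (fr.e (-k))
  rw [h1] at this
  simpa [fr.e_ne_zero, fr.B_ne'] using this

theorem Frame.sp_torus [Finite F] (fr : Frame f I) (i : I) {s : F} (hs : s ≠ 0) :
    ∃ g ∈ fr.RC i ⊔ fr.RC (-i), g.1 (fr.e i) = s • fr.e i ∧ fr.Mv g (-i) (-i) := by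
  obtain ⟨g, h1, h2, h3⟩ := fr.exists_torus_C (-i) fr.sp_V0 (RingHom.id F) (fun _ => rfl) one_ne_zero
    (fun l => ⟨fun _ => ⟨l, by simp⟩, fun _ => f.sp_isLam _ _⟩) hs
  rw [neg_neg] at h1 h2
  exact ⟨g, by rwa [sup_comm], h2, h3⟩

theorem Frame.RC_sup_fix {P : Param F} {f : Form P V} (fr : Frame f I) {i k : I} {g : f.Isom}
    (hg : g ∈ fr.RC i ⊔ fr.RC (-i)) (h1 : k ≠ i) (h2 : k ≠ -i) : g.1 (fr.e k) = fr.e k :=
  (sup_le (fun g hg l hl => by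
      obtain rfl : l = k := by simpa using hl
      exact fr.RC_apply hg h2) (fun g hg l hl => by
      obtain rfl : l = k := by simpa using hl
      exact fr.RC_apply hg (by rwa [neg_neg])) : _ ≤ FixV fr (MonoidHom.id _) {k}ᶜ) hg k (by simp)

theorem Box.le_of_sq_C [Finite F] {fr : Frame f I} {φ : J →* f.Isom} {a : I} {X N : Subgroup J}
    (hX : Box φ X (fr.RC a)) {x : J} (h1 : x ∈ X) (h0 : x ≠ 1)
    (hs : ∀ s : F, s ≠ 0 → ∃ g : J, (φ g).1 (fr.e a) = s • fr.e a ∧ g * x * g⁻¹ ∈ X ⊓ N) :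
    X ≤ N := by
  obtain ⟨v, hv, t, ht⟩ := hX.mem x h1
  have t0 : t ≠ 0 := fr.l_ne_zero hv ht fun e => h0 (hX.inj x h1 e)
  obtain rfl := fr.sp_V0 v hv
  let A : AddSubgroup F :=
    { carrier := {u | ∃ y ∈ X ⊓ N, IsE (φ y) (fr.e a) 0 u}
      zero_mem' := ⟨1, one_mem _, by simpa using isE_one _⟩
      add_mem' := fun ⟨y, hy, e⟩ ⟨y', hy', e'⟩ => ⟨y * y', mul_mem hy hy', by
        rw [map_mul]
        exact (e.mul (fr.Qe a) e').congr (add_zero _) (by simp)⟩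
      neg_mem' := fun ⟨y, hy, e⟩ => ⟨y⁻¹, inv_mem hy, by
        rw [map_inv]
        exact (e.inv (fr.Qe a)).congr neg_zero (by simp)⟩ }
  intro y hy
  obtain ⟨v, hv, u, hu⟩ := hX.mem y hy
  obtain rfl := fr.sp_V0 v hv
  obtain ⟨y', hy', e⟩ := span_sq A t t0 (by
    rintro _ ⟨s, hs', rfl⟩
    obtain ⟨g, a1, a3⟩ := hs s hs'
    refine ⟨_, a3, ?_⟩
    rw [map_mul, map_mul, map_inv]
    exact (ht.of_conj a1 hs').congr (by simp) (by simp; ring)) u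
  exact hX.eq hy'.1 hy (e.eq hu) ▸ hy'.2

theorem sp_injective [Finite I] [Finite F] {fr : Frame f I} {φ : J →* f.Isom} {S : Set I} {i j : I}
    {L K : Subgroup J} {w : J} (h : SetK fr φ S i j L K w) (w2 : fr.Mv (φ w) j i)
    (boxK : Box φ K (fr.RC i ⊔ fr.RC (-i))) (gen : L ⊔ K = ⊤) {κ n x z : J} {ζ : F}
    (hζ : ∀ t, t ≠ 0 → ∃ n : ℕ, t = ζ ^ n) (κ1 : κ ∈ K) (κ2 : (φ κ).1 (fr.e i) = ζ • fr.e i)
    (κ3 : fr.Mv (φ κ) (-i) (-i)) (n1 : n ∈ K) (n2 : φ n ∈ fr.Mon) (n3 : fr.Mv (φ n) (-i) i)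
    (x1 : x ∈ L) (x2 : φ x ∈ fr.RA i (-j)) (x0 : x ≠ 1) (z1 : z ∈ K) (z2 : φ z ∈ fr.RC i)
    (z0 : z ≠ 1) (c2 : κ * x * κ⁻¹ ∈ L) (c3 : w * κ * w⁻¹ * x * (w * κ * w⁻¹)⁻¹ ∈ L)
    (sym : n * (w * n * w⁻¹) * w * x * (n * (w * n * w⁻¹) * w)⁻¹ ∈ L)
    (R2 : ⁅x, w * n * w⁻¹ * x * (w * n * w⁻¹)⁻¹⁆ ∈ K) (R4 : Commute x z)
    (R5 : ∃ x' ∈ L, φ x' ∈ fr.RA i (-j) ∧ ∃ c ∈ K, φ c ∈ fr.RC i ∧
      ⁅x, w * z * w⁻¹⁆ = w * n * w⁻¹ * x' * (w * n * w⁻¹)⁻¹ * c) : Function.Injective φ := by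
  have e1 := h.ne
  have e2 := h.ne' h.hi h.hj
  have e3 := h.ne' h.hj h.hi
  have boxC := boxK.inf (le_sup_left : fr.RC i ≤ _)
  set C := K ⊓ (fr.RC i).comap φ
  have wN : w ∈ NL fr φ L := ⟨h.wL, h.wM⟩
  have diag : ∀ a ∈ S, ∀ k ∈ KF fr φ i L K a, fr.Mv (φ k) a a → fr.Mv (φ k) (-a) (-a) →
      ∀ b, fr.Mv (φ k) b b := fun a ha k hk h1 h2 b => by
    by_cases b1 : b = a
    · exact b1 ▸ h1
    by_cases b2 : b = -a
    · exact b2 ▸ h2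
    exact .of_eq (h.K_fix ha hk b1 b2)
  have wc : ∀ {k : J}, fr.Mv (φ k) i i → fr.Mv (φ k) (-i) (-i) →
      fr.Mv (φ (w * k * w⁻¹)) j j ∧ fr.Mv (φ (w * k * w⁻¹)) (-j) (-j) := fun h1 h2 =>
    ⟨Base.mv_mul (Base.mv_mul h.w1 h1) (Base.mv_inv h.w1), Base.mv_mul (Base.mv_mul
      (h.w1.neg' h.wM) h2) (Base.mv_inv (h.w1.neg' h.wM))⟩
  have κd := diag i h.hi κ (h.mem_K.2 κ1) ⟨_, κ2⟩ κ3
  have κd' := diag j h.hj _ (h.conj_mem_K κ1) (wc ⟨_, κ2⟩ κ3).1 (wc ⟨_, κ2⟩ κ3).2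
  have mon : ∀ {k : J}, (∀ b, fr.Mv (φ k) b b) → φ k ∈ fr.Mon := fun h => fr.mem_Mon fun k => ⟨k, h k⟩
  have V0 : ∀ (g : f.Isom), ∀ v ∈ fr.V0, g.1 v = v := fun g v hv => by rw [fr.sp_V0 v hv, map_zero]
  have cA : ∀ {g x : J}, (∀ b, fr.Mv (φ g) b b) → φ x ∈ fr.RA i (-j) →
      φ (g * x * g⁻¹) ∈ fr.RA i (-j) := fun g1 g4 => by
    rw [map_mul, map_mul, map_inv]; exact (g1 _).conj_RA (g1 _) g4
  have boxX := h.box.inf (H' := fr.RS i (-j)) fun g hg => fr.mem_Levi h.hi h.hj e1 hg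
  -- the torus of `K` normalizes the root subgroup
  have norm : ∀ a ∈ S, ∀ k ∈ KF fr φ i L K a, (∀ b, fr.Mv (φ k) b b) → k * x * k⁻¹ ∈ L →
      ∀ y ∈ L ⊓ (fr.RS i (-j)).comap φ, k * y * k⁻¹ ∈ L ⊓ (fr.RS i (-j)).comap φ := by
    intro a ha k hk k1 k2 y hy
    refine ⟨boxX.le_of_span (N := L.comap (MulAut.conj k).toMonoidHom) ⟨x1, x2⟩ x0 span_sq ?_ hy,
      cA k1 hy.2⟩
    rintro _ ⟨t, ht, rfl⟩
    obtain ⟨g, g1, g2, g3, g4, -, -⟩ := fr.exists_torus_A e1 e2 ht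
    obtain ⟨g, hg, rfl⟩ := h.box.surj g (g1 S h.hi h.hj)
    refine ⟨g, _, _, g2, fr.apply_neg g3 (g4 _), by simp [sq],
      ⟨L.mul_mem (L.mul_mem hg x1) (L.inv_mem hg), cA g4 x2⟩, ?_⟩
    obtain ⟨m, hm, m1⟩ := h.trans ha
    have : Commute g k := by
      have := boxK.eq (Base.conj_C (M := NL fr φ L) ⟨hg, mon g4⟩ (g4 a) hk m hm m1) (hk m hm m1) (by
        simp only [map_mul, map_inv, (fr.diag_commute g4 k1 (V0 _)).eq, mul_inv_cancel_right])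
      exact mul_inv_eq_iff_eq_mul.1 (mul_left_cancel (mul_right_cancel this))
    change k * (g * x * g⁻¹) * k⁻¹ ∈ L
    convert mul_mem (mul_mem hg k2) (inv_mem hg) using 1
    calc _ = k * g * x * (k * g)⁻¹ := by group
      _ = _ := by rw [← this.eq]; group
  have tor : ∀ k ∈ NL fr φ K, fr.Mv (φ k) i i → ∃ m : ℕ, k = κ ^ m := by
    rintro k hk ⟨t, ht⟩
    obtain ⟨m, rfl⟩ := hζ t (fr.smul_ne_zero ht)
    refine ⟨m, boxK.eq hk.1 (pow_mem κ1 m) (fr.ext (fun b => ?_) fun v hv => by rw [V0 _ v hv, V0 _ v hv])⟩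
    have a1 := apply_pow κ2 m
    rw [← map_pow] at a1
    by_cases b1 : b = i
    · rw [b1, ht, a1]
    by_cases b2 : b = -i
    · obtain ⟨c, hc⟩ := κ3
      rw [b2, fr.apply_neg ht (Frame.Mv.neg' hk.2 ⟨_, ht⟩),
        fr.apply_neg a1 ⟨_, by rw [map_pow]; exact apply_pow hc m⟩]
    rw [h.fix k hk.1 b b1 b2, h.fix _ (pow_mem κ1 m) b b1 b2]
  have sC := h.conj_mem_one (N := C) inf_le_left
    (fun l hl l1 y hy => ⟨h.stab l hl.1 hl.2 l1 y hy.1, by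
      change φ _ ∈ fr.RC i
      rw [map_mul, map_mul, map_inv]; exact l1.conj_RC hl.2 hy.2⟩)
    (fun l hl l1 y hy => ⟨K.mul_mem (K.mul_mem hl.1 hy.1) (K.inv_mem hl.1), by
      change φ _ ∈ fr.RC i
      rw [map_mul, map_mul, map_inv]; exact l1.conj_RC hl.2 hy.2⟩)
  have B := h.base boxC sC fun k hk k1 y y1 y2 => by
    obtain ⟨m, rfl⟩ := tor k hk k1
    refine ⟨(conj_pow_mem (norm i h.hi κ (h.mem_K.2 κ1) κd c2) m y ⟨y1, y2⟩).1, ?_⟩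
    rw [← conj_pow]
    exact (conj_pow_mem (norm j h.hj _ (h.conj_mem_K κ1) κd' c3) m y ⟨y1, y2⟩).1
  set M := MK fr φ S i L K
  have xA := (B.mem_A h.hi h.hj e1).2 ⟨x1, x2⟩
  have n4 : w * n * w⁻¹ ∈ M := mul_mem (mul_mem (mem_sup_right wN)
    (mem_MK_of_K h.hi (h.mem_K.2 n1) n2)) (inv_mem (mem_sup_right wN))
  have n5 : fr.Mv (φ (w * n * w⁻¹)) (-j) j :=
    Base.mv_mul (Base.mv_mul h.w1 n3) (Base.mv_inv (h.w1.neg' h.wM))
  have n6 : fr.Mv (φ (w * n * w⁻¹)) i i := .of_eq (h.K_fix h.hj (h.conj_mem_K n1) e1.symm e3)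
  have cAF := fun {m x : J} (hm : m ∈ M) {a b a' b' : I} =>
    Base.conj_A (i := i) (j := j) (L := L) (x := x) hm (B.mon m hm) (a := a) (b := b) (a' := a')
      (b' := b')
  have sym' : AF fr φ i j L M i (-j) ≤ AF fr φ i j L M (-j) i := by
    have m1 : n * (w * n * w⁻¹) * w ∈ M :=
      mul_mem (mul_mem (mem_MK_of_K h.hi (h.mem_K.2 n1) n2) n4) (mem_sup_right wN)
    have m2 : fr.Mv (φ (n * (w * n * w⁻¹) * w)) (-j) i :=
      Base.mv_mul (Base.mv_mul n3 (B.mv_neg n4 n6)) (w2.neg' h.wM)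
    have m3 : fr.Mv (φ (n * (w * n * w⁻¹) * w)) i (-j) :=
      Base.mv_mul (Base.mv_mul (.of_eq (h.fix n n1 _ (neg_ne_of e2) (neg_ne_neg_of e1)))
        (by simpa using B.mv_neg n4 n5)) h.w1
    have := B.of_conj_A m1 m2 m3 ((B.mem_A h.hi h.hj e1).2 ⟨sym, by
      rw [map_mul _ _ _⁻¹, map_mul, map_inv]
      exact m2.conj_RA m3 (fr.RA_swap (neg_ne_neg_of e1) x2)⟩)
    exact B.X_le xA x0 fun g hg g1 _ => cAF (B.NL g hg (mon g1)) (g1 _) (g1 _) this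
  -- the torus elements fixing `x`
  have T : ∀ s : F, s ≠ 0 → ∃ g ∈ M, (∀ b, fr.Mv (φ g) b b) ∧ (φ g).1 (fr.e i) = s • fr.e i ∧
      (φ g).1 (fr.e j) = s • fr.e j ∧ g * x * g⁻¹ = x := fun s hs => by
    obtain ⟨k, k1, k2, k3⟩ := fr.sp_torus i hs
    obtain ⟨k, hk, rfl⟩ := boxK.surj k k1
    have d1 := diag i h.hi k (h.mem_K.2 hk) ⟨_, k2⟩ k3
    have d2 := diag j h.hj _ (h.conj_mem_K hk) (wc ⟨_, k2⟩ k3).1 (wc ⟨_, k2⟩ k3).2
    have a1 : k * (w * k * w⁻¹) ∈ M := mul_mem (mem_MK_of_K h.hi (h.mem_K.2 hk) (mon d1))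
      (mem_MK_of_K h.hj (h.conj_mem_K hk) (mon d2))
    have a2 : ∀ b, fr.Mv (φ (k * (w * k * w⁻¹))) b b := fun b => Base.mv_mul (d1 b) (d2 b)
    have a3 : (φ (k * (w * k * w⁻¹))).1 (fr.e i) = s • fr.e i := by
      rw [map_mul, Isom.mul_apply, h.K_fix h.hj (h.conj_mem_K hk) e1.symm e3, k2]
    have a4 : (φ (k * (w * k * w⁻¹))).1 (fr.e j) = s • fr.e j := by
      obtain ⟨c, hc⟩ := h.w1.inv
      rw [map_mul, map_mul, map_mul, map_inv, Isom.mul_apply, Isom.mul_apply, Isom.mul_apply, hc,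
        map_smul, k2, smul_comm, ← hc, map_smul, Isom.apply_inv, map_smul, h.fix k hk j e1 e2]
    refine ⟨_, a1, a2, a3, a4, (B.boxA (neg_ne_of e2) (neg_ne_neg_of e1)).eq
      (cAF a1 (a2 _) (a2 _) xA) xA ?_⟩
    obtain ⟨c, hc⟩ := x2
    rw [map_mul _ _ _⁻¹, map_mul, map_inv]
    refine ((hc.of_conj a3 hs).congr ?_ (mul_zero _)).eq hc
    rw [map_smul, fr.apply_neg a4 (a2 _), smul_smul, smul_smul]
    congr 1
    simp; field_simp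
  have R4' : ∀ x ∈ AF fr φ i j L M i (-j), ∀ y ∈ C, Commute x y := by
    have : C ≤ centralizer {x} := boxC.le_of_sq_C ⟨z1, z2⟩ z0 fun s hs => by
      obtain ⟨g, g1, g2, g3, -, g4⟩ := T s hs
      exact ⟨g, g3, sC g g1 (g2 i) z ⟨z1, z2⟩, mem_centralizer_singleton_iff.2
        (by simpa [g4] using (R4.conj g).symm.eq)⟩
    intro y hy c hc
    refine (B.X_le (N := centralizer C) xA x0 (fun g hg g1 _ c hc => ?_) hy c hc).symm
    have := this (sC _ (inv_mem (B.NL g hg (mon g1))) (Base.mv_inv (g1 i)) c hc) x rfl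
    simpa [mul_assoc] using (Commute.conj this g).eq.symm
  have R4i := B.R4_all R4' e1 e2
  have R2' : ∀ x ∈ AF fr φ i j L M i (-j), ∀ y ∈ AF fr φ i j L M i j, ⁅x, y⁆ ∈ C := by
    have yA := cAF n4 n6 n5 xA
    have : AF fr φ i j L M i j ≤ commSub (AF fr φ i j L M i j) {x} C fun y hy c hc =>
        conj_mem_of_commute (R4i y hy c (B.mem_C.2 hc)) hc := by
      refine (B.boxA e1 e2).le_of_span yA (conj_ne_one x0 _) span_sq ?_
      rintro _ ⟨s, hs, rfl⟩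
      obtain ⟨g, g1, g2, g3, g4, g5⟩ := T s hs
      refine ⟨g, _, _, g3, g4, by simp [sq], cAF g1 (g2 _) (g2 _) yA, cAF g1 (g2 _) (g2 _) yA, ?_⟩
      rintro _ rfl
      rw [conj_comm_fix g5]
      refine sC g g1 (g2 i) _ (comm_swap_mem ⟨R2, ?_⟩)
      change φ _ ∈ fr.RC i
      rw [map_commutatorElement]
      exact fr.rgd.R2 i (-j) (neg_ne_of e2) (neg_ne_neg_of e1) _ x2 _ (by rw [neg_neg]; exact yA.1)
    intro y hy
    refine (B.X_le (N := commSub (AF fr φ i j L M i (-j)) (AF fr φ i j L M i j) C fun y hy c hc =>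
        conj_mem_of_commute (R4' y hy c hc) hc) xA x0 (fun g hg g1 _ => ?_) hy).2
    have g2 := B.NL g hg (mon g1)
    refine ⟨cAF g2 (g1 _) (g1 _) xA, fun y hy => ?_⟩
    rw [conj_comm_left]
    exact sC g g2 (g1 i) _ (comm_swap_mem ((this (cAF (inv_mem g2) (Base.mv_inv (g1 _))
      (Base.mv_inv (g1 _)) hy)).2 x rfl))
  have CK := fun {a : I} (ha : a ∈ S) => h.CF_le (C := C) inf_le_left ha
  have D : ∀ g ∈ M, (∀ b, fr.Mv (φ g) b b) → ∀ d ∈ AF fr φ i j L M i j ⊔ C,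
      g * d * g⁻¹ ∈ AF fr φ i j L M i j ⊔ C := fun g g1 g2 =>
    (sup_le (fun y hy => mem_sup_left (cAF g1 (g2 _) (g2 _) hy))
      (fun y hy => mem_sup_right (sC g g1 (g2 _) y hy)) :
      _ ≤ (AF fr φ i j L M i j ⊔ C).comap (MulAut.conj g).toMonoidHom)
  have rgd := B.rgd sym' (B.R1far_of_pos h.pos4) R2' R4' (fun k k1 k2 k3 k4 y hy c hc => by
    have y' := (B.mem_A h.hi h.hj e1).1 hy
    rcases h.S2 k with e | e
    · exact h.K_far e h.hi h.hj k1.symm k3.symm e1 y'.1 y'.2 ((CK e).1 hc)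
    · exact h.K_far e h.hi h.hj (ne_neg_swap k2) (ne_neg_swap k4) e1 y'.1 y'.2
        ((CK e).2 (by rwa [neg_neg]))) (by
    have zC : w * z * w⁻¹ ∈ CF fr φ i M C j :=
      Base.conj_C (mem_sup_right wN) h.w1 (B.mem_C.2 ⟨z1, z2⟩)
    have : CF fr φ i M C j ≤ commSub (CF fr φ i M C j) {x} (AF fr φ i j L M i j ⊔ C) fun c hc =>
        (sup_le (fun y hy => conj_mem_of_commute (B.R4_all R4' e1.symm e3 y
          (B.sym_all sym' e1 e2 hy) c hc).symm (mem_sup_left hy))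
          (fun y hy => conj_mem_of_commute (h.K_comm h.hj h.hi e1.symm ((CK h.hj).1 hc)
            (h.mem_K.2 hy.1)) (mem_sup_right hy)) :
          AF fr φ i j L M i j ⊔ C ≤ (AF fr φ i j L M i j ⊔ C).comap (MulAut.conj c).toMonoidHom) := by
      refine (B.boxC' j).le_of_sq_C zC (conj_ne_one z0 _) fun s hs => ?_
      obtain ⟨g, g1, g2, g3, g4, g5⟩ := T s hs
      refine ⟨g, g4, Base.conj_C g1 (g2 _) zC, Base.conj_C g1 (g2 _) zC, ?_⟩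
      rintro _ rfl
      rw [conj_comm_fix g5]
      obtain ⟨x', a1, a2, c, a3, a4, a5⟩ := R5
      refine D g g1 g2 _ (comm_swap_mem (a5 ▸ mul_mem (mem_sup_left ?_) (mem_sup_right ⟨a3, a4⟩)))
      exact cAF n4 n6 n5 ((B.mem_A h.hi h.hj e1).2 ⟨a1, a2⟩)
    intro y hy
    refine (B.X_le (N := commSub (AF fr φ i j L M i (-j)) (CF fr φ i M C j)
      (AF fr φ i j L M i j ⊔ C) fun y hy => (sup_le (fun c hc => conj_mem_of_comm
        (mem_sup_right (R2' y hy c hc)) (mem_sup_left hc))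
        (fun c hc => conj_mem_of_commute (R4' y hy c hc) (mem_sup_right hc)) :
          _ ≤ (AF fr φ i j L M i j ⊔ C).comap (MulAut.conj y).toMonoidHom))
      xA x0 (fun g hg g1 _ => ?_) hy).2
    have g2 := B.NL g hg (mon g1)
    refine ⟨cAF g2 (g1 _) (g1 _) xA, fun y hy => ?_⟩
    rw [conj_comm_left]
    exact D g g2 g1 _ (comm_swap_mem ((this (Base.conj_C (inv_mem g2) (Base.mv_inv (g1 _))
      hy)).2 x rfl))) fun c hc c' hc' => by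
      rw [commutatorElement_eq_one_iff_commute.2
        (h.K_comm h.hi h.hj e1 (h.mem_K.2 hc.1) ((CK h.hj).2 hc'))]
      exact one_mem _
  have P1 := rgd.pSt0.pSt1 (Or.inr fr.sp_RC_ne_bot) fun a => by
    by_cases e : a = j ∨ a = -j
    · rcases e with rfl | rfl
      exacts [⟨i, e1.symm, e3⟩, ⟨i, e3, by simpa using e1.symm⟩]
    · push Not at e; exact ⟨j, e.1.symm, ne_neg_swap e.2⟩
  refine (injective_iff_map_eq_one φ).2 fun g hg => ker_sp P1 ?_ hg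
  refine (sup_le (B.L_le fun a ha b hb e => le_iSup_of_le a
    (A_le_UT (Set.mem_univ _) (neg_ne_of (h.ne' ha hb)) (neg_ne_neg_of e))) fun k hk =>
      boxK.mem_of_le (sup_le (fun g hg => ?_) fun g hg => ?_) hk (boxK.mem k hk)) (gen ▸ mem_top g)
  · obtain ⟨y, hy, rfl⟩ := (B.boxC' i).surj g hg
    exact ⟨y, ⟨h.mem_K.1 ((CK h.hi).1 hy), le_iSup_of_le (f := fun i => UT _ _ i Set.univ) i
      C_le_UT hy⟩, rfl⟩
  · obtain ⟨y, hy, rfl⟩ := (B.boxC' (-i)).surj g hg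
    exact ⟨y, ⟨h.mem_K.1 ((CK h.hi).2 hy), le_iSup_of_le (f := fun i => UT _ _ i Set.univ) (-i)
      C_le_UT hy⟩, rfl⟩

theorem Frame.exists_sign {P : Param F} {f : Form P V} [Finite I] (fr : Frame f I) {i : I}
    (h : fr.RC i ≠ ⊥) : ∃ n ∈ fr.RC i ⊔ fr.RC (-i), n ∈ fr.Mon ∧ fr.Mv n (-i) i := by
  obtain ⟨⟨x, hx⟩, h0⟩ := ne_bot_iff_exists_ne_one.1 h
  obtain ⟨y, hy, y', hy', h1⟩ := fr.W2_mem hx fun e => h0 (Subtype.ext e)
  exact ⟨_, mul_mem (mul_mem (mem_sup_right hy) (mem_sup_left hx)) (mem_sup_right hy'), h1⟩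

theorem Frame.EG_le_of_sign {P : Param F} {f : Form P V} [Finite I] (fr : Frame f I) {S : Set I}
    (S1 : ∀ i ∈ S, -i ∉ S) (S2 : ∀ i, i ∈ S ∨ -i ∈ S) {i : I} (hi : i ∈ S) {N : Subgroup f.Isom}
    (hL : fr.Levi S ≤ N) {n : f.Isom} (n1 : n ∈ N) (n2 : n ∈ fr.Mon) (n3 : fr.Mv n (-i) i)
    (n4 : ∀ k, k ≠ i → k ≠ -i → fr.Mv n k k) :
    (∀ a b, b ≠ a → b ≠ -a → fr.RS a b ≤ N) ∧ (fr.RC i ≤ N → fr.EG ≤ N) := by
  have pos := pos_of_sign (fr := fr) (φ := MonoidHom.id _) (M := N ⊓ fr.Mon) S2 (fun _ h => h.2)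
    fun a ha => by
      obtain ⟨g, g1, g2, g3, g4, -⟩ := fr.exists_swap hi ha fun e => S1 _ hi (e ▸ ha)
      refine ⟨g * n * g⁻¹, ⟨N.mul_mem (N.mul_mem (hL g1) n1) (N.inv_mem (hL g1)),
        fr.Mon.mul_mem (fr.Mon.mul_mem g2 n2) (fr.Mon.inv_mem g2)⟩,
        (g3.mul n3).mul (g3.neg' g2).inv, fun k k1 k2 => ?_⟩
      obtain ⟨c, hc⟩ := g2.2 k
      exact (hc.mul (n4 c (fun e => k1 (hc.unique (e ▸ g3)))
        fun e => k2 (hc.unique (e ▸ g3.neg' g2)))).mul hc.inv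
  have h1 : ∀ a b, b ≠ a → b ≠ -a → fr.RS a b ≤ N := fun a b h1 h2 g hg => by
    obtain ⟨m, hm, e⟩ := pos {a, -b} (by simp [fr.ne, h1, h1.symm, (fr.ne b).symm])
    obtain ⟨a', a1, a2⟩ := e a (by simp)
    obtain ⟨b', b1, b2⟩ := e (-b) (by simp)
    have := hL (fr.mem_Levi a1 b1 (fun e => neg_ne_of h2 (b2.inj (e ▸ a2)))
      (a2.conj_RA (by simpa using b2.neg' hm.2) hg))
    simpa [mul_assoc] using N.mul_mem (N.mul_mem (N.inv_mem hm.1) this) hm.1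
  refine ⟨h1, fun h2 => fr.EG_le h1 fun a g hg => ?_⟩
  obtain ⟨m, hm, e⟩ := pos {a} (by simp [fr.ne])
  obtain ⟨a', a1, a2⟩ := e a (by simp)
  obtain ⟨k, g1, g2, g3, -⟩ := fr.exists_swap a1 hi fun e => S1 _ a1 (e ▸ hi)
  have b1 := N.mul_mem (hL g1) hm.1
  have := h2 ((g3.mul a2).conj_RC (fr.Mon.mul_mem g2 hm.2) hg)
  simpa [mul_assoc] using N.mul_mem (N.mul_mem (N.inv_mem b1) this) b1

theorem Frame.exists_two_gen_levi {P : Param F} {f : Form P V} [Finite I] [Finite F]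
    (fr : Frame f I) {S : Set I} (S1 : ∀ i ∈ S, -i ∉ S) :
    ∃ a ∈ fr.Levi S, ∃ b ∈ fr.Levi S, fr.Levi S ≤ closure {a, b} := by
  by_cases hn : 2 ≤ S.ncard
  · exact exists_two_gen_of_equiv hn (fr.exists_equiv_levi hn rfl S1)
  · exact ⟨1, one_mem _, 1, one_mem _, fr.Levi_le fun a ha b hb e => absurd
      ((Set.one_lt_ncard (Set.toFinite S)).2 ⟨a, ha, b, hb, e.symm⟩) hn⟩

theorem sp_presN [Finite I] [Finite F] (fr : Frame f I) (hE : fr.EG = ⊤) {S : Set I}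
    (S1 : ∀ i ∈ S, -i ∉ S) (S2 : ∀ i, i ∈ S ∨ -i ∈ S) {i j : I} (hi : i ∈ S) (hj : j ∈ S)
    (e1 : j ≠ i) {g r : ℕ} (hL : PresN (fr.Levi S) g r) : PresN f.Isom (g + 3) (r + 25) := by
  have e2 : j ≠ -i := fun e => S1 _ hi (e ▸ hj)
  have eK := fr.exists_equiv_C i fr.sp_V0 (RingHom.id F) (fun _ => rfl) one_ne_zero
    (fun l => ⟨fun _ => ⟨l, by simp⟩, fun _ => f.sp_isLam _ _⟩)
  obtain ⟨π, hπ⟩ := hL
  obtain ⟨ρ, hρ⟩ := SLn.presN_two.equiv eK.some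
  obtain ⟨k₁, k1, k₂, k2, k3⟩ := exists_two_gen_of_equiv le_rfl eK
  obtain ⟨a₁, a1, a₂, a2, a3⟩ := fr.exists_two_gen_levi (S := S \ {i}) fun a ha e => S1 a ha.1 e.1
  obtain ⟨w, w0, wM, w1, w2, -⟩ := fr.exists_swap hi hj e2
  obtain ⟨ζ, ζ0, hζ⟩ := exists_pow_eq (F := F)
  obtain ⟨η, η1, η2, -, η3, -⟩ := fr.exists_torus_A e1 e2 ζ0
  obtain ⟨κ, κ1, κ2, κ3⟩ := fr.sp_torus i ζ0
  obtain ⟨n, n1, n2, n3⟩ := fr.exists_sign (fr.sp_RC_ne_bot i)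
  obtain ⟨x, x1, x0⟩ := fr.exists_RX_ne_one (Or.inl (neg_ne_of e2)) (neg_ne_neg_of e1)
  rw [fr.RX_of_ne (neg_ne_of e2)] at x1
  obtain ⟨⟨z, z1⟩, z0⟩ := ne_bot_iff_exists_ne_one.1 (fr.sp_RC_ne_bot i)
  have a4 := fun {a} => fr.Levi_mono (Set.sdiff_subset (s := S) (t := {i})) (x := a)
  have x2 := fr.mem_Levi hi hj e1 x1
  set K := fr.RC i ⊔ fr.RC (-i)
  let A : ∀ {a}, a ∈ fr.Levi S → Coprod (fr.Levi S) K := fun h => Coprod.inl ⟨_, h⟩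
  let B : ∀ {a}, a ∈ K → Coprod (fr.Levi S) K := fun h => Coprod.inr ⟨_, h⟩
  let L' : Set (Coprod (fr.Levi S) K) := Set.range Coprod.inl
  let K' : Set (Coprod (fr.Levi S) K) := Set.range Coprod.inr
  have far : ∀ l ∈ fr.Levi (S \ {i}), ∀ k ∈ K, Commute l k := fun l hl k hk => by
    have : ∀ a, a = i ∨ a = -i → ∀ c ∈ fr.RC a, Commute l c := fun a ha c hc =>
      (fr.Levi_le (N := centralizer {c}) (fun b hb b' hb' _ y hy =>
        mem_centralizer_singleton_iff.2 (fr.commute_RC hc (fr.RA_apply hy (by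
          rcases ha with rfl | rfl
          exacts [fun e => S1 _ hb.1 (e ▸ hi), neg_ne_neg_of (Ne.symm hb.2)]) (by
          rw [neg_neg]
          rcases ha with rfl | rfl
          exacts [Ne.symm hb'.2, fun e => S1 _ hi (e ▸ hb'.1)]))
          fun v hv => fr.RA_apply_V0 hy hv)) hl c rfl).symm
    exact ((sup_le (fun c hc => mem_centralizer_singleton_iff.2 (this i (.inl rfl) c hc).symm)
      (fun c hc => mem_centralizer_singleton_iff.2 (this _ (.inr rfl) c hc).symm) :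
      K ≤ centralizer {l}) hk l rfl)
  have nK : ∀ g ∈ fr.Mon, ∀ a b, fr.Mv g a b → ∀ k ∈ fr.RC a ⊔ fr.RC (-a),
      g * k * g⁻¹ ∈ fr.RC b ⊔ fr.RC (-b) := fun g hg a b e =>
    (sup_le (fun c hc => mem_sup_left (e.conj_RC hg hc))
      (fun c hc => mem_sup_right ((e.neg' hg).conj_RC hg hc)) :
      fr.RC a ⊔ fr.RC (-a) ≤ (fr.RC b ⊔ fr.RC (-b)).comap (MulAut.conj g).toMonoidHom)
  have V0 : ∀ (g : f.Isom), ∀ v ∈ fr.V0, g.1 v = v := fun g v hv => by rw [fr.sp_V0 v hv, map_zero]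
  have comm : ∀ k ∈ K, ∀ k' ∈ K, Commute k (w * k' * w⁻¹) := fun k hk k' hk' => by
    have a := nK w wM i j w1 k' hk'
    exact ((sup_le (fun c hc => mem_centralizer_singleton_iff.2 (fr.commute_RC hc
      (fr.RC_sup_fix a e1.symm (ne_neg_swap e2)) (V0 _)).symm) (fun c hc =>
      mem_centralizer_singleton_iff.2 (fr.commute_RC hc (fr.RC_sup_fix a (neg_ne_of
        (ne_neg_swap e2)) (neg_ne_neg_of e1.symm)) (V0 _)).symm) : K ≤ centralizer {_}) hk _ rfl).symm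
  have diag : ∀ {k}, k ∈ fr.RC i ⊔ fr.RC (-i) → fr.Mv k j j ∧ fr.Mv k (-j) (-j) := fun hk =>
    ⟨.of_eq (fr.RC_sup_fix hk e1 e2), .of_eq (fr.RC_sup_fix hk (neg_ne_of e2) (neg_ne_neg_of e1))⟩
  have diag' : ∀ {k}, k ∈ fr.RC i ⊔ fr.RC (-i) → fr.Mv (w * k * w⁻¹) i i := fun hk =>
    (w2.mul (diag hk).1).mul w2.inv
  have n5 : fr.Mv (w * n * w⁻¹) (-j) j := (w1.mul n3).mul (w1.neg' wM).inv
  have n6 : w * n * w⁻¹ ∈ fr.Mon := mul_mem (mul_mem wM n2) (inv_mem wM)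
  refine ((hπ.coprod hρ).cover (Coprod.lift (fr.Levi S).subtype K.subtype) ?_
    [(⁅A (a4 a1), B k1⁆, {1}), (⁅A (a4 a1), B k2⁆, {1}), (⁅A (a4 a2), B k1⁆, {1}),
      (⁅A (a4 a2), B k2⁆, {1}), (⁅B k1, A w0 * B k1 * (A w0)⁻¹⁆, {1}),
      (⁅B k1, A w0 * B k2 * (A w0)⁻¹⁆, {1}), (⁅B k2, A w0 * B k1 * (A w0)⁻¹⁆, {1}),
      (⁅B k2, A w0 * B k2 * (A w0)⁻¹⁆, {1}),
      (A (η1 S hi hj) * B k1 * (A (η1 S hi hj))⁻¹, K'), (A (η1 S hi hj) * B k2 * (A (η1 S hi hj))⁻¹, K'),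
      (B κ1 * A x2 * (B κ1)⁻¹, L'), (A w0 * B κ1 * (A w0)⁻¹ * A x2 * (A w0 * B κ1 * (A w0)⁻¹)⁻¹, L'),
      (B n1 * (A w0 * B n1 * (A w0)⁻¹) * A w0 * A x2 * (B n1 * (A w0 * B n1 * (A w0)⁻¹) * A w0)⁻¹, L'),
      (⁅A x2, A w0 * B n1 * (A w0)⁻¹ * A x2 * (A w0 * B n1 * (A w0)⁻¹)⁻¹⁆, K'),
      (⁅A x2, B (mem_sup_left z1)⁆, {1}),
      (⁅A x2, A w0 * B (mem_sup_left z1) * (A w0)⁻¹⁆, {g | ∃ x', ∃ h : x' ∈ fr.RA i (-j), ∃ c,
        ∃ h' : c ∈ fr.RC i, g = A w0 * B n1 * (A w0)⁻¹ * A (fr.mem_Levi hi hj e1 h) *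
          (A w0 * B n1 * (A w0)⁻¹)⁻¹ * B (mem_sup_left h')})] ?_ ?_).pres (by simp) (by simp)
  · rw [← MonoidHom.range_eq_top, eq_top_iff, ← hE]
    refine (fr.EG_le_of_sign (N := (Coprod.lift (fr.Levi S).subtype K.subtype).range) S1 S2 hi
      (fun g hg => ⟨A hg, rfl⟩) ⟨B n1, rfl⟩ n2 n3
      fun k h1 h2 => .of_eq (fr.RC_sup_fix n1 h1 h2)).2 fun g hg => ⟨B (mem_sup_left hg), rfl⟩
  · have m1 : ∀ {x : Coprod (fr.Levi S) K}, Coprod.lift (fr.Levi S).subtype K.subtype x ∈ K →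
        ∃ s ∈ K', Coprod.lift (fr.Levi S).subtype K.subtype x =
          Coprod.lift (fr.Levi S).subtype K.subtype s := fun h => ⟨B h, ⟨_, rfl⟩, rfl⟩
    have m2 : ∀ {x : Coprod (fr.Levi S) K}, Coprod.lift (fr.Levi S).subtype K.subtype x ∈ fr.RA i (-j) →
        ∃ s ∈ L', Coprod.lift (fr.Levi S).subtype K.subtype x =
          Coprod.lift (fr.Levi S).subtype K.subtype s :=
      fun h => ⟨A (fr.mem_Levi hi hj e1 h), ⟨_, rfl⟩, rfl⟩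
    simp only [List.forall_mem_cons, Set.mem_singleton_iff, exists_eq_left, map_one,
      map_commutatorElement, commutatorElement_eq_one_iff_commute]
    refine ⟨far _ a1 _ k1, far _ a1 _ k2, far _ a2 _ k1, far _ a2 _ k2, comm _ k1 _ k1,
      comm _ k1 _ k2, comm _ k2 _ k1, comm _ k2 _ k2,
      m1 (nK η (fr.mem_Mon fun k => ⟨k, η3 k⟩) i i (η3 i) _ k1),
      m1 (nK η (fr.mem_Mon fun k => ⟨k, η3 k⟩) i i (η3 i) _ k2),
      m2 (Frame.Mv.conj_RA ⟨_, κ2⟩ (diag κ1).2 x1),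
      m2 ((diag' κ1).conj_RA (((w1.neg' wM).mul κ3).mul (w1.neg' wM).inv) x1),
      m2 (((n3.mul ((diag' n1).neg' n6)).mul (w2.neg' wM)).conj_RA
        (((diag n1).2.mul (by simpa using n5.neg' n6)).mul w1) (fr.RA_swap (neg_ne_neg_of e1) x1)),
      ?_, fr.rgd.R4 i (-j) i (neg_ne_of e2) (neg_ne_neg_of e1) (fr.ne i).symm
        (by simpa using e1.symm) _ x1 _ z1, ?_, by simp⟩
    · rw [← map_commutatorElement]
      refine m1 (mem_sup_left ?_)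
      rw [map_commutatorElement]
      exact fr.rgd.R2 i (-j) (neg_ne_of e2) (neg_ne_neg_of e1) _ x1 _
        (by rw [neg_neg]; exact (diag' n1).conj_RA n5 x1)
    · obtain ⟨v, hv, l, hz⟩ := w1.conj_RC wM z1
      obtain ⟨c, hc⟩ := id x1
      obtain ⟨s, s1, s2⟩ := fr.comm_AC (neg_ne_of e2) (neg_ne_neg_of e1) hv hc (by rwa [neg_neg])
      rw [neg_neg] at s1
      have s3 : _ ∈ fr.RC i := ⟨_, Submodule.smul_mem _ _ hv, _, s2⟩
      refine ⟨_, ⟨_, (diag' n1).inv.conj_RA n5.inv ⟨_, s1⟩, _, s3, rfl⟩, ?_⟩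
      have := (fr.rgd.R4 i j i e1 e2 (fr.ne i).symm (ne_neg_swap e2) _ ⟨_, s1⟩ _ s3).eq
      change ⁅x, w * z * w⁻¹⁆ = w * n * w⁻¹ * ((w * n * w⁻¹)⁻¹ * s * (w * n * w⁻¹)⁻¹⁻¹) *
        (w * n * w⁻¹)⁻¹ * (⁅x, w * z * w⁻¹⁆ * s⁻¹)
      rw [show w * n * w⁻¹ * ((w * n * w⁻¹)⁻¹ * s * (w * n * w⁻¹)⁻¹⁻¹) * (w * n * w⁻¹)⁻¹ = s by group,
        this, inv_mul_cancel_right]
  intro J _ ψ φ hψ hφ hR
  simp only [List.forall_mem_cons, Set.mem_singleton_iff, exists_eq_left, map_one,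
    map_commutatorElement, commutatorElement_eq_one_iff_commute, map_mul, map_inv] at hR
  obtain ⟨r1, r2, r3, r4, r5, r6, r7, r8, r9, r10, r11, r12, r13, r14, r15, r16, -⟩ := hR
  have boxL : Box φ (ψ.comp Coprod.inl).range (fr.Levi S) := .of_range fun x => hφ _
  have boxK : Box φ (ψ.comp Coprod.inr).range K := .of_range fun x => hφ _
  have mA : ∀ {a} (h : a ∈ fr.Levi S), ψ (A h) ∈ (ψ.comp Coprod.inl).range := fun h => ⟨_, rfl⟩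
  have mB : ∀ {a} (h : a ∈ K), ψ (B h) ∈ (ψ.comp Coprod.inr).range := fun h => ⟨_, rfl⟩
  have eA : ∀ {a} (h : a ∈ fr.Levi S), φ (ψ (A h)) = a := fun h => hφ _
  have eB : ∀ {a} (h : a ∈ K), φ (ψ (B h)) = a := fun h => hφ _
  have mL : ∀ {x : J}, (∃ s ∈ L', x = ψ s) → x ∈ (ψ.comp Coprod.inl).range := by
    rintro _ ⟨_, ⟨s, rfl⟩, rfl⟩; exact ⟨s, rfl⟩
  have mK : ∀ {x : J}, (∃ s ∈ K', x = ψ s) → x ∈ (ψ.comp Coprod.inr).range := by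
    rintro _ ⟨_, ⟨s, rfl⟩, rfl⟩; exact ⟨s, rfl⟩
  have cK : ∀ k ∈ (ψ.comp Coprod.inr).range, k ∈ closure {ψ (B k1), ψ (B k2)} := fun k hk =>
    boxK.mem_closure (by rintro _ (rfl | rfl) <;> exact mB _)
      hk (by rw [Set.image_pair, eB, eB]; exact k3 (boxK.mem k hk))
  have far' : ∀ l ∈ (ψ.comp Coprod.inl).range, φ l ∈ fr.Levi (S \ {i}) →
      ∀ k ∈ (ψ.comp Coprod.inr).range, Commute l k := fun l hl l1 k hk =>
    commute_of_closure (s := {ψ (A (a4 a1)), ψ (A (a4 a2))}) (by simp [*])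
      (boxL.mem_closure (by rintro _ (rfl | rfl) <;> exact mA _)
        hl (by rw [Set.image_pair, eA, eA]; exact a3 l1)) (cK k hk)
  refine sp_injective (w := ψ (A w0)) ⟨S1, S2, hi, hj, e1, boxL,
    fun k hk a => fr.RC_sup_fix (boxK.mem k hk), ⟨_, mB n1, by rwa [eB], by rwa [eB]⟩, mA _,
    by rwa [eA], by rwa [eA], stab_of_torus S1 S2 hi boxL far' hζ (mA (η1 S hi hj))
      (by rw [eA]; exact fr.mem_Mon fun k => ⟨k, η3 k⟩) (by rwa [eA]) fun k hk =>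
        conj_mem_of_closure (by rintro _ (rfl | rfl); exacts [mK r9, mK r10]) (cK k hk), far', fun k hk k' hk' => ?_⟩ (by rwa [eA]) boxK ?_ hζ
    (mB κ1) (by rwa [eB]) (by rwa [eB]) (mB n1) (by rwa [eB]) (by rwa [eB]) (mA x2) (by rwa [eA])
    (fun e => x0 (by rw [← eA x2, e, map_one])) (mB (mem_sup_left z1)) (by rwa [eB])
    (fun e => z0 (Subtype.ext ((eB (mem_sup_left z1)).symm.trans (by rw [e, map_one]; rfl))))
    (mL r11) (mL r12) (mL r13) (mK r14) r15 ?_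
  · refine commute_of_closure (t := (MulAut.conj (ψ (A w0))).toMonoidHom '' {ψ (B k1), ψ (B k2)})
      (by simp [Set.image_pair, *]) (cK k hk) ?_
    rw [← MonoidHom.map_closure]
    exact ⟨k', cK k' hk', rfl⟩
  · rw [MonoidHom.range_comp, MonoidHom.range_comp, ← Subgroup.map_sup,
      Coprod.range_inl_sup_range_inr, ← MonoidHom.range_eq_map, MonoidHom.range_eq_top.2 hψ]
  · obtain ⟨_, ⟨x', h1, c, h2, rfl⟩, e⟩ := r16
    exact ⟨_, mA (fr.mem_Levi hi hj e1 h1), by rwa [eA], _, mB (mem_sup_left h2), by rwa [eB],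
      by simpa only [map_mul, map_inv] using e⟩

end Cfsg.Agent.Cls
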