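import Cfsg.Agent.Lib.Cls.RGD

/-!
The root subgroups of the isometry group satisfy the commutator relations.
-/

set_option autoImplicit false

namespace Cfsg.Agent.Cls

open Forms Forms.Form Subgroup
open scoped commutatorElement

variable {F : Type*} [Field F] {P : Param F} {V : Type*} [AddCommGroup V] [Module F V]
  {f : Form P V} {I : Type*} [InvolutiveNeg I]

theorem ne_neg_swap {i j : I} (h : j ≠ -i) : i ≠ -j := fun e => h (by rw [e, neg_neg])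

theorem neg_ne_of {i j : I} (h : j ≠ -i) : -j ≠ i := fun e => h (by rw [← e, neg_neg])

theorem neg_ne_neg_of {i j : I} (h : j ≠ i) : -j ≠ -i := fun e => h (neg_injective e)

namespace Frame

variable (fr : Frame f I)

/-- the root subgroup attached to two indices -/
def RS (i j : I) : Subgroup f.Isom where
  carrier := fr.RA i j
  one_mem' := fr.one_mem_RA i j
  mul_mem' := fr.mul_mem_RA
  inv_mem' := fr.inv_mem_RA

theorem mem_RS {i j : I} {g : f.Isom} : g ∈ fr.RS i j ↔ g ∈ fr.RA i j := Iff.rfl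

/-- the monomial isometries -/
def Mon : Subgroup f.Isom where
  carrier := {g | (∀ i, ∃ j, fr.Mv g i j) ∧ ∀ j, ∃ i, fr.Mv g i j}
  one_mem' := ⟨fun i => ⟨i, .one⟩, fun i => ⟨i, .one⟩⟩
  mul_mem' := fun {a b} ha hb =>
    ⟨fun i => let ⟨j, h⟩ := hb.1 i; let ⟨k, h'⟩ := ha.1 j; ⟨k, h'.mul h⟩,
      fun i => let ⟨j, h⟩ := ha.2 i; let ⟨k, h'⟩ := hb.2 j; ⟨k, h.mul h'⟩⟩
  inv_mem' := fun {a} ha => ⟨fun i => let ⟨j, h⟩ := ha.2 i; ⟨j, h.inv⟩,
    fun i => let ⟨j, h⟩ := ha.1 i; ⟨j, h.inv⟩⟩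

theorem mem_Mon [Finite I] {g : f.Isom} (h : ∀ i, ∃ j, fr.Mv g i j) : g ∈ fr.Mon := by
  refine ⟨h, ?_⟩
  choose π hπ using h
  have : Function.Surjective π :=
    Finite.injective_iff_surjective.1 fun i j e => (hπ i).inj (e ▸ hπ j)
  exact fun j => let ⟨i, e⟩ := this j; ⟨i, e ▸ hπ i⟩

theorem mem_V0_of_mon {g : f.Isom} (hg : g ∈ fr.Mon) {v : V} (hv : v ∈ fr.V0) : g.1 v ∈ fr.V0 :=
  fr.mem_V0.2 fun j => by
    obtain ⟨i, c, h⟩ := (inv_mem hg).1 j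
    rw [Isom.B_left, h, B_smul_right, fr.mem_V0.1 hv, mul_zero]

theorem Mv.conj_RA {fr : Frame f I} {g x : f.Isom} {i j i' j' : I} (h : fr.Mv g i i')
    (h' : fr.Mv g j j') (hx : x ∈ fr.RA i j) : g * x * g⁻¹ ∈ fr.RA i' j' := by
  obtain ⟨a, hx⟩ := hx
  obtain ⟨c, h⟩ := h
  obtain ⟨d, h'⟩ := h'
  exact ⟨_, (hx.of_conj h (fr.smul_ne_zero h)).congr
    (by rw [map_smul, h', smul_smul, smul_smul]) (mul_zero _)⟩

theorem Mv.conj_RC {fr : Frame f I} {g x : f.Isom} {i i' : I} (hg : g ∈ fr.Mon) (h : fr.Mv g i i')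
    (hx : x ∈ fr.RC i) : g * x * g⁻¹ ∈ fr.RC i' := by
  obtain ⟨v, hv, l, hx⟩ := hx
  obtain ⟨c, h⟩ := h
  exact ⟨_, Submodule.smul_mem _ _ (fr.mem_V0_of_mon hg hv), _,
    hx.of_conj h (fr.smul_ne_zero h)⟩

theorem mem_RA_of_mem_U {i j : I} (h1 : j ≠ i) (h2 : j ≠ -i) {g : f.Isom} (hi : g ∈ fr.U i)
    (hj : g ∈ fr.U j) : g ∈ fr.RA i j := by
  obtain ⟨a, ha, h3⟩ := fr.exists_split h1 h2 hi
  have := fr.U_eq_one (mul_mem hj (inv_mem (fr.RA_subset_U (fr.RA_swap h2 ha)))) (c := 1)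
    (by rw [h3, one_smul])
  rwa [mul_inv_eq_one.1 this]

theorem conj_mem_U {i : I} {g x : f.Isom} (h : g.1 (fr.e i) = fr.e i) (hx : x ∈ fr.U i) :
    g * x * g⁻¹ ∈ fr.U i := (Mv.of_eq h).conj_U hx

theorem comm_mem_U {i : I} {g x : f.Isom} (h : g.1 (fr.e i) = fr.e i) (hx : x ∈ fr.U i) :
    ⁅g, x⁆ ∈ fr.U i := mul_mem (fr.conj_mem_U h hx) (inv_mem hx)

theorem comm_mem_U' {i : I} {g x : f.Isom} (h : g.1 (fr.e i) = fr.e i) (hx : x ∈ fr.U i) :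
    ⁅x, g⁆ ∈ fr.U i := by simpa using inv_mem (fr.comm_mem_U h hx)

end Frame

theorem IsE.commute {g x : f.Isom} {u v : V} {l : F} (h : IsE x u v l) (h1 : g.1 u = u)
    (h2 : g.1 v = v) : Commute g x := by
  have := h.conj g
  rw [h1, h2] at this
  exact mul_inv_eq_iff_eq_mul.1 (this.eq h)

theorem inv_apply_of_apply {g : f.Isom} {v : V} (h : g.1 v = v) : g⁻¹.1 v = v := by
  conv_lhs => rw [← h]
  exact Isom.inv_apply _ _

theorem comm_apply_of_apply {g x : f.Isom} {v : V} (h : g.1 v = v) (h' : x.1 v = v) :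
    ⁅g, x⁆.1 v = v := by
  rw [commutatorElement_def, Isom.mul_apply, Isom.mul_apply, Isom.mul_apply, inv_apply_of_apply h',
    inv_apply_of_apply h, h', h]

namespace Frame

variable (fr : Frame f I)

theorem commute_RA {g x : f.Isom} {k l : I} (hx : x ∈ fr.RA k l) (h1 : g.1 (fr.e k) = fr.e k)
    (h2 : g.1 (fr.e l) = fr.e l) : Commute g x :=
  let ⟨_, h⟩ := hx; h.commute h1 (by rw [map_smul, h2])

theorem commute_RC {g x : f.Isom} {k : I} (hx : x ∈ fr.RC k) (h1 : g.1 (fr.e k) = fr.e k)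
    (h2 : ∀ v ∈ fr.V0, g.1 v = v) : Commute g x :=
  let ⟨_, hv, _, h⟩ := hx; h.commute h1 (h2 _ hv)

theorem W1_apply {i j : I} (h1 : j ≠ i) (h2 : j ≠ -i) {x y : f.Isom} {a : F} (ha : a ≠ 0)
    (hx : IsE x (fr.e i) (a • fr.e j) 0) (hy : IsE y (fr.e (-i))
      (P.σ (P.ε * (f.B (fr.e (-i)) (fr.e i) * a * f.B (fr.e j) (fr.e (-j)))⁻¹) • fr.e (-j)) 0) :
    (y * x * y).1 (fr.e (-i)) = (f.B (fr.e (-i)) (fr.e i) * a) • fr.e j ∧
    (y * x * y).1 (fr.e (-j)) = (-(P.ε * (P.σ a * f.B (fr.e (-j)) (fr.e j)))) • fr.e i ∧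
    (y * x * y).1 (fr.e i) = (P.ε * (P.σ a * f.B (fr.e (-j)) (fr.e j))⁻¹) • fr.e (-j) ∧
    (y * x * y).1 (fr.e j) = (-(f.B (fr.e (-i)) (fr.e i) * a)⁻¹) • fr.e (-i) := by
  have n1 := fr.B_ne i
  have n2 := fr.B_ne j
  have n3 := fr.B_ne' i
  have n4 := fr.B_ne' j
  have z1 : f.B (fr.e (-i)) (fr.e j) = 0 := fr.B_eq' (neg_ne_neg_of h1.symm)
  have z2 : f.B (fr.e j) (fr.e i) = 0 := fr.B_eq' h2
  have z3 : f.B (fr.e j) (fr.e j) = 0 := f.B_self_of_Q (fr.Qe j)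
  have z4 : f.B (fr.e (-i)) (fr.e (-i)) = 0 := f.B_self_of_Q (fr.Qe _)
  have z5 : f.B (fr.e (-i)) (fr.e (-j)) = 0 := fr.B_neg (Ne.symm h2)
  have z6 : f.B (fr.e j) (fr.e (-i)) = 0 := fr.B_neg h1
  have z7 : f.B (fr.e (-j)) (fr.e i) = 0 := f.B_eq_zero_symm (fr.B_neg h1.symm)
  have z8 : f.B (fr.e i) (fr.e i) = 0 := f.B_self_of_Q (fr.Qe _)
  have z9 : f.B (fr.e i) (fr.e j) = 0 := fr.B_eq i j h2
  have z10 : f.B (fr.e (-j)) (fr.e (-i)) = 0 := f.B_eq_zero_symm z5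
  have z11 : f.B (fr.e (-j)) (fr.e (-j)) = 0 := f.B_self_of_Q (fr.Qe _)
  have z12 : f.B (fr.e i) (fr.e (-j)) = 0 := fr.B_neg h1.symm
  have hε := P.εε
  have key : P.σ (f.B (fr.e (-i)) (fr.e i) * a * f.B (fr.e j) (fr.e (-j))) =
      f.B (fr.e i) (fr.e (-i)) * P.σ a * f.B (fr.e (-j)) (fr.e j) := by
    rw [map_mul, map_mul, f.σ_B, f.σ_B]; linear_combination
      f.B (fr.e i) (fr.e (-i)) * P.σ a * f.B (fr.e (-j)) (fr.e j) * hε
  have hσ := P.σ_ne_zero ha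
  have y1 : y.1 (fr.e (-i)) = fr.e (-i) := hy.apply_self (fr.Qe _)
  have y2 : y.1 (fr.e (-j)) = fr.e (-j) := hy.apply_of_orth z10 (by rw [B_smul_right, z11, mul_zero])
  have y3 : y.1 (fr.e j) = fr.e j - (f.B (fr.e (-i)) (fr.e i) * a)⁻¹ • fr.e (-i) := by
    rw [hy.app, z6, B_smul_right, P.σσ]
    simp only [zero_smul, add_zero, mul_zero, sub_zero]
    congr 2
    field_simp
    rw [sq, hε]
  have y4 : y.1 (fr.e i) = fr.e i + (P.ε * (P.σ a * f.B (fr.e (-j)) (fr.e j))⁻¹) • fr.e (-j) := by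
    rw [hy.app, B_smul_right, z12, map_mul, map_inv₀, key, P.σε]
    simp only [zero_smul, mul_zero, sub_zero, zero_mul, smul_smul]
    congr 2
    field_simp
  have x1 : x.1 (fr.e i) = fr.e i := hx.apply_self (fr.Qe _)
  have x2 : x.1 (fr.e j) = fr.e j := hx.apply_of_orth z2 (by rw [B_smul_right, z3, mul_zero])
  have x3 : x.1 (fr.e (-i)) = fr.e (-i) + (f.B (fr.e (-i)) (fr.e i) * a) • fr.e j := by
    rw [hx.app, B_smul_right, z1]; simp [smul_smul]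
  have x4 : x.1 (fr.e (-j)) = fr.e (-j) - (P.ε * (P.σ a * f.B (fr.e (-j)) (fr.e j))) • fr.e i := by
    rw [hx.app, B_smul_right, z7]; simp
  refine ⟨?_, ?_, ?_, ?_⟩
  · simp only [Isom.mul_apply, y1, x3, map_add, map_smul, y3, smul_sub, smul_smul]
    rw [mul_inv_cancel₀ (mul_ne_zero n3 ha)]; module
  · simp only [Isom.mul_apply, y2, x4, map_sub, map_smul, y4, smul_add, smul_smul]
    rw [show P.ε * (P.σ a * f.B (fr.e (-j)) (fr.e j)) * (P.ε * (P.σ a * f.B (fr.e (-j)) (fr.e j))⁻¹)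
      = 1 by field_simp; rw [sq, hε]]
    module
  · have : x.1 (y.1 (fr.e i)) = (P.ε * (P.σ a * f.B (fr.e (-j)) (fr.e j))⁻¹) • fr.e (-j) := by
      simp only [y4, map_add, map_smul, x1, x4, smul_sub, smul_smul]
      rw [show P.ε * (P.σ a * f.B (fr.e (-j)) (fr.e j))⁻¹ * (P.ε * (P.σ a * f.B (fr.e (-j)) (fr.e j)))
        = 1 by field_simp; rw [sq, hε]]
      module
    simp only [Isom.mul_apply, this, map_smul, y2]
  · have : x.1 (y.1 (fr.e j)) = (-(f.B (fr.e (-i)) (fr.e i) * a)⁻¹) • fr.e (-i) := by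
      simp only [y3, map_sub, map_smul, x2, x3, smul_add, smul_smul]
      rw [inv_mul_cancel₀ (mul_ne_zero n3 ha)]; module
    simp only [Isom.mul_apply, this, map_smul, y1]

theorem exists_W1 {i j : I} (h1 : j ≠ i) (h2 : j ≠ -i) {x : f.Isom} (hx : x ∈ fr.RA i j)
    (h0 : x ≠ 1) : ∃ y ∈ fr.RA (-i) (-j), fr.Mv (y * x * y) (-i) j ∧ fr.Mv (y * x * y) (-j) i ∧
      fr.Mv (y * x * y) i (-j) ∧ fr.Mv (y * x * y) j (-i) := by
  obtain ⟨a, hx⟩ := hx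
  have ha : a ≠ 0 := by rintro rfl; exact h0 (IsE.eq_one (by simpa using hx))
  obtain ⟨y, hy⟩ := fr.exists_RA (i := -i) (j := -j) (neg_ne_neg_of h2)
    (P.σ (P.ε * (f.B (fr.e (-i)) (fr.e i) * a * f.B (fr.e j) (fr.e (-j)))⁻¹))
  obtain ⟨a1, a2, a3, a4⟩ := fr.W1_apply h1 h2 ha hx hy
  exact ⟨y, ⟨_, hy⟩, ⟨_, a1⟩, ⟨_, a2⟩, ⟨_, a3⟩, ⟨_, a4⟩⟩

/-- an element of `U u` moving a point to the point of a hyperbolic partner of `u` -/
theorem _root_.Cfsg.Agent.Cls.exists_move {u e z : V} (hu : f.Q u = 0) (he : f.Q e = 0)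
    (hz : f.Q z = 0) (h1 : f.B e u ≠ 0) (h2 : f.B z u ≠ 0) :
    ∃ (g : f.Isom) (v : V) (l c : F), IsE g u v l ∧ g.1 e = c • z ∧
      ∀ w, f.B w e = 0 → f.B w z = 0 → f.B w u = 0 → g.1 w = w := by
  have h1' : f.B u e ≠ 0 := fun h => h1 (f.B_eq_zero_symm h)
  let c := f.B e u / f.B z u
  have hc : c * f.B z u = f.B e u := div_mul_cancel₀ _ h2
  let v := (f.B e u)⁻¹ • (c • z - e)
  have hv : f.B v u = 0 := by
    simp only [v, B_smul_left, B_sub_left, hc, sub_self, mul_zero]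
  obtain ⟨l, hl⟩ := f.exists_isLam v
  obtain ⟨g, hg⟩ := exists_isE hu hv hl
  have h3 : ∃ d : F, g.1 e = c • z + d • u := ⟨-(P.ε * f.B e v) - P.ε * l * f.B e u, by
    rw [hg.app]
    simp only [v, smul_smul, mul_inv_cancel₀ h1, one_smul]
    module⟩
  obtain ⟨d, hd⟩ := h3
  have hQ : P.τ (P.σ d * f.B e u) = 0 := by
    have := Isom.map_Q g e
    rw [hd, f.Q_add, f.Q_smul, f.Q_smul, hz, hu, he, B_smul_left, B_smul_right,
      mul_left_comm, hc] at this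
    simpa using this
  have hσ := P.σ_ne_zero h1
  have hlam : f.IsLam 0 (P.ε * d / f.B e u) := by
    have e1 : P.ε * d / f.B e u =
        (f.B e u)⁻¹ * P.σ (f.B e u)⁻¹ * (P.ε * P.σ (P.σ d * f.B e u)) := by
      rw [map_mul, P.σσ, map_inv₀]; field_simp
    have h0 : f.IsLam 0 (P.σ d * f.B e u) :=
      ⟨by rw [hQ, f.Q_zero], by rw [P.τ_ker _ hQ]; simp⟩
    have := h0.conj.smul (f.B e u)⁻¹
    rwa [smul_zero, ← e1] at this
  obtain ⟨g', hg'⟩ := exists_isE hu (f.B_zero_left u) hlam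
  refine ⟨g' * g, _, _, c, hg'.mul hu hg, ?_, fun w w1 w2 w3 => ?_⟩
  · rw [Isom.mul_apply, hg'.app, hg.B_apply hu, hd]
    have : P.ε * (P.ε * d / f.B e u) * f.B e u = d := by
      field_simp; rw [sq, P.εε, one_mul]
    rw [this]; simp
  · exact (hg'.mul hu hg).apply_of_orth w3 (by
      simp only [v, zero_add, B_smul_right, B_sub_right, w1, w2, mul_zero, sub_self])

theorem B_apply_ne {i : I} {x : f.Isom} (hx : x ∈ fr.RC i) (h0 : x ≠ 1) :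
    f.B (x.1 (fr.e (-i))) (fr.e (-i)) ≠ 0 := by
  intro h
  obtain ⟨c, hc⟩ := fr.eq_smul_of_B_eq (z := x.1 (fr.e (-i))) (i := -i)
    (by rw [Isom.map_Q, fr.Qe]) fun k hk => by
      by_cases h1 : k = i
      · rw [h1, h]
      · rw [← fr.RC_apply hx (neg_ne_neg_of h1), Isom.map_B, fr.B_neg (Ne.symm hk)]
  exact h0 (fr.U_eq_one (fr.RC_le_U i hx) hc)

theorem exists_RC_move {i : I} {z : V} (hz : f.Q z = 0) (h1 : f.B z (fr.e i) ≠ 0)
    (h2 : ∀ k, k ≠ i → k ≠ -i → f.B z (fr.e k) = 0) :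
    ∃ y ∈ fr.RC i, ∃ c : F, y.1 (fr.e (-i)) = c • z := by
  obtain ⟨g, v, l, c, hg, h3, h4⟩ := exists_move (fr.Qe i) (fr.Qe (-i)) hz (fr.B_ne' i) h1
  refine ⟨g, fr.mem_RC_of_fix ⟨_, _, hg⟩ fun k hk => ?_, c, h3⟩
  by_cases h5 : k = i
  · rw [h5]; exact hg.apply_self (fr.Qe i)
  · exact h4 _ (fr.B_neg h5) (f.B_eq_zero_symm (h2 k h5 hk)) (fr.B_eq' hk)

theorem exists_W2 {i : I} {x : f.Isom} (hx : x ∈ fr.RC i) (h0 : x ≠ 1) :
    ∃ y ∈ fr.RC (-i), ∃ y' ∈ fr.RC (-i), fr.Mv (y * x * y') (-i) i ∧ fr.Mv (y * x * y') i (-i) := by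
  have key : ∀ x ∈ fr.RC i, x ≠ 1 → ∃ y ∈ fr.RC (-i), ∃ c : F, y.1 (fr.e i) = c • x.1 (fr.e (-i)) :=
    fun x hx h0 => by
      have := fr.exists_RC_move (i := -i) (z := x.1 (fr.e (-i))) (by rw [Isom.map_Q, fr.Qe])
        (fr.B_apply_ne hx h0) fun k h1 h2 => by
          rw [← fr.RC_apply hx h1, Isom.map_B, fr.B_eq _ _ h2]
      rwa [neg_neg] at this
  obtain ⟨y, hy, c, hc⟩ := key x hx h0
  obtain ⟨y', hy', c', hc'⟩ := key _ (inv_mem hx) (inv_ne_one.2 h0)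
  have hc0 : c ≠ 0 := by
    rintro rfl
    exact fr.e_ne_zero i (by simpa using hc)
  refine ⟨y⁻¹, inv_mem hy, y', hy', ⟨c⁻¹, ?_⟩, ⟨c', ?_⟩⟩
  · rw [Isom.mul_apply, Isom.mul_apply, apply_self_of_mem_Eu (fr.RC_le_U _ hy')]
    apply y.1.injective
    rw [Isom.apply_inv, map_smul, hc, smul_smul, inv_mul_cancel₀ hc0, one_smul]
  · rw [Isom.mul_apply, Isom.mul_apply, hc', map_smul, Isom.apply_inv, map_smul,
      apply_self_of_mem_Eu (fr.RC_le_U _ (inv_mem hy))]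

theorem W1_fix {i j k : I} {x y y' : f.Isom} (hx : x ∈ fr.RA i j) (hy : y ∈ fr.RA (-i) (-j))
    (hy' : y' ∈ fr.RA (-i) (-j)) (h1 : k ≠ i) (h2 : k ≠ -i) (h3 : k ≠ j) (h4 : k ≠ -j) :
    (y * x * y').1 (fr.e k) = fr.e k := by
  rw [Isom.mul_apply, Isom.mul_apply, fr.RA_apply hy' (by rwa [neg_neg]) (by rwa [neg_neg]),
    fr.RA_apply hx h2 h4, fr.RA_apply hy (by rwa [neg_neg]) (by rwa [neg_neg])]

theorem W2_fix {i k : I} {x y y' : f.Isom} (hx : x ∈ fr.RC i) (hy : y ∈ fr.RC (-i))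
    (hy' : y' ∈ fr.RC (-i)) (h1 : k ≠ i) (h2 : k ≠ -i) : (y * x * y').1 (fr.e k) = fr.e k := by
  rw [Isom.mul_apply, Isom.mul_apply, fr.RC_apply hy' (by rwa [neg_neg]),
    fr.RC_apply hx h2, fr.RC_apply hy (by rwa [neg_neg])]

theorem W1_mem [Finite I] {i j : I} (h1 : j ≠ i) (h2 : j ≠ -i) {x : f.Isom} (hx : x ∈ fr.RA i j)
    (h0 : x ≠ 1) : ∃ y ∈ fr.RA (-i) (-j), y * x * y ∈ fr.Mon ∧ fr.Mv (y * x * y) (-i) j := by
  obtain ⟨y, hy, a1, a2, a3, a4⟩ := fr.exists_W1 h1 h2 hx h0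
  refine ⟨y, hy, fr.mem_Mon fun k => ?_, a1⟩
  by_cases b1 : k = i
  · exact ⟨_, b1 ▸ a3⟩
  by_cases b2 : k = -i
  · exact ⟨_, b2 ▸ a1⟩
  by_cases b3 : k = j
  · exact ⟨_, b3 ▸ a4⟩
  by_cases b4 : k = -j
  · exact ⟨_, b4 ▸ a2⟩
  exact ⟨k, .of_eq (fr.W1_fix hx hy hy b1 b2 b3 b4)⟩

theorem W2_mem [Finite I] {i : I} {x : f.Isom} (hx : x ∈ fr.RC i) (h0 : x ≠ 1) :
    ∃ y ∈ fr.RC (-i), ∃ y' ∈ fr.RC (-i), y * x * y' ∈ fr.Mon ∧ fr.Mv (y * x * y') (-i) i := by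
  obtain ⟨y, hy, y', hy', a1, a2⟩ := fr.exists_W2 hx h0
  refine ⟨y, hy, y', hy', fr.mem_Mon fun k => ?_, a1⟩
  by_cases b1 : k = i
  · exact ⟨_, b1 ▸ a2⟩
  by_cases b2 : k = -i
  · exact ⟨_, b2 ▸ a1⟩
  exact ⟨k, .of_eq (fr.W2_fix hx hy hy' b1 b2)⟩

theorem rgd [Finite I] : RGD fr (MonoidHom.id _) fr.RS fr.RC where
  Asym i j _ h2 x hx := fr.RA_swap h2 hx
  Amem i j _ _ x hx := hx
  Ainj i j _ _ x _ h := h
  Asurj i j _ _ g hg := ⟨g, hg, rfl⟩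
  Cmem i x hx := hx
  Cinj i x _ h := h
  Csurj i g hg := ⟨g, hg, rfl⟩
  R1 i j k l _ _ _ _ h1 h2 h3 h4 x hx y hy :=
    fr.commute_RA hy (fr.RA_apply hx h1 h2) (fr.RA_apply hx h3 h4)
  R2 i j h1 h2 x hx y hy := by
    refine fr.mem_RC_of_fix (mul_mem (mul_mem (mul_mem (fr.RA_subset_U hx) (fr.RA_subset_U hy))
      (inv_mem (fr.RA_subset_U hx))) (inv_mem (fr.RA_subset_U hy))) fun k hk => ?_
    obtain ⟨a, hx⟩ := hx
    obtain ⟨b, hy⟩ := hy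
    have := ((hx.mul (fr.Qe i) hy).mul (fr.Qe i) (hx.inv (fr.Qe i))).mul (fr.Qe i)
      (hy.inv (fr.Qe i))
    exact this.apply_of_orth (fr.B_eq' hk) (by
      rw [show a • fr.e j + b • fr.e (-j) + -(a • fr.e j) + -(b • fr.e (-j)) = 0 by abel,
        B_zero_right])
  R3 i j k h1 h2 h3 h4 h5 h6 x hx y hy := fr.mem_RA_of_mem_U h3 h4
    (fr.comm_mem_U' (fr.RA_apply hy (by rw [neg_neg]; exact h1.symm) (ne_neg_swap h4))
      (fr.RA_subset_U hx))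
    (fr.comm_mem_U (fr.RA_apply hx h4 h6)
      (fr.RA_subset_U (fr.RA_swap (by rwa [neg_neg]) hy)))
  R4 i j k _ _ h1 h2 x hx y hy :=
    fr.commute_RC hy (fr.RA_apply hx h1 h2) fun v hv => fr.RA_apply_V0 hx hv
  R5 i j h1 h2 x hx y hy := by
    have h3 : ⁅x, y⁆ ∈ fr.U i :=
      fr.comm_mem_U' (fr.RC_apply hy (by rw [neg_neg]; exact h1.symm)) (fr.RA_subset_U hx)
    obtain ⟨a, ha, h4⟩ := fr.exists_split (neg_ne_of h2) (neg_ne_neg_of h1) h3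
    rw [neg_neg] at h4
    have h5 : ⁅x, y⁆ * a⁻¹ ∈ fr.RC i := by
      refine fr.mem_RC_of_fix (mul_mem h3 (inv_mem (fr.RA_subset_U ha))) fun k hk => ?_
      by_cases h6 : k = j
      · rw [h6, h4]
      rw [Isom.mul_apply, fr.RA_apply (fr.inv_mem_RA ha) hk (by rwa [neg_neg])]
      by_cases h7 : k = -j
      · obtain ⟨c, hx⟩ := hx
        have e1 := (hx.swap (fr.Qe i) (fr.B_eq i j h2)).inv (fr.Qe j)
        have e2 : y.1 (fr.e i) = fr.e i := fr.RC_apply hy (by rw [neg_neg]; exact h1.symm)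
        have e3 : y.1 (fr.e (-j)) = fr.e (-j) := fr.RC_apply hy (fr.ne _).symm
        have e4 : y.1 (x⁻¹.1 (fr.e (-j))) = x⁻¹.1 (fr.e (-j)) := by
          rw [e1.app, B_neg_right, B_smul_right, f.B_eq_zero_symm (fr.B_neg h1.symm)]
          simp [e2, e3]
        rw [h7, commutatorElement_def, Isom.mul_apply, Isom.mul_apply, Isom.mul_apply,
          inv_apply_of_apply e3, e4, Isom.apply_inv]
      exact comm_apply_of_apply (fr.RA_apply hx hk h7) (fr.RC_apply hy (by rwa [neg_neg]))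
    simpa using mul_mem (mem_sup_right h5 : _ ∈ fr.RS i (-j) ⊔ fr.RC i) (mem_sup_left ha)
  R6 i j h1 h2 x hx y hy := fr.mem_RA_of_mem_U h1 h2
    (fr.comm_mem_U' (fr.RC_apply hy (ne_neg_swap h2)) (fr.RC_le_U _ hx))
    (fr.comm_mem_U (fr.RC_apply hx h2) (fr.RC_le_U _ hy))

/-- isometries are determined by their values on the frame and on its complement -/
theorem ext [Finite I] {g g' : f.Isom} (h1 : ∀ i, g.1 (fr.e i) = g'.1 (fr.e i))
    (h2 : ∀ v ∈ fr.V0, g.1 v = g'.1 v) : g = g' := by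
  classical
  have := Fintype.ofFinite I
  refine Isom.ext fun w => ?_
  have h3 : w - ∑ i, (f.B w (fr.e (-i)) / f.B (fr.e i) (fr.e (-i))) • fr.e i ∈ fr.V0 := by
    refine fr.mem_V0.2 fun k => ?_
    rw [B_sub_left, map_sum, LinearMap.sum_apply, Finset.sum_eq_single (-k)]
    · rw [B_smul_left, neg_neg, div_mul_cancel₀ _ (fr.B_ne' k), sub_self]
    · intro b _ hb; rw [B_smul_left, fr.B_eq' hb, mul_zero]
    · simp
  have := h2 _ h3
  simp only [map_sub, map_sum, map_smul, h1] at this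
  exact sub_left_injective this

/-- the group generated by the Eichler transformations -/
def EG : Subgroup f.Isom := ⨆ i, fr.U i

theorem U_le_EG (i : I) : fr.U i ≤ fr.EG := le_iSup fr.U i

theorem Eu_le_EG {u : V} (hu : f.Q u = 0) : Eu u hu ≤ fr.EG := by
  rintro g ⟨v, l, hg⟩
  by_cases h0 : u = 0
  · have : g = 1 := Isom.ext fun w => by simp [hg.app, h0]
    rw [this]; exact one_mem _
  obtain ⟨k, hk⟩ := fr.exists_B_ne h0 hu
  obtain ⟨x, v', l', c, hx, h1, -⟩ := exists_move (fr.Qe (-k)) (fr.Qe k) hu (fr.B_ne k) hk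
  have hc : c ≠ 0 := by rintro rfl; exact fr.e_ne_zero k (by simpa using h1)
  have h2 : x⁻¹.1 u = c⁻¹ • fr.e k := x.1.injective (by
    rw [Isom.apply_inv, map_smul, h1, smul_smul, inv_mul_cancel₀ hc, one_smul])
  have h3 := fr.U_le_EG k (conj_mem_Eu (hu := hu) h2 (inv_ne_zero hc) ⟨v, l, hg⟩)
  have h4 := fr.U_le_EG _ ⟨_, _, hx⟩
  simpa [mul_assoc] using mul_mem (mul_mem h4 h3) (inv_mem h4)

theorem mem_EG_of_isE {g : f.Isom} {u v : V} {l : F} (hu : f.Q u = 0) (h : IsE g u v l) :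
    g ∈ fr.EG := fr.Eu_le_EG hu ⟨v, l, h⟩

theorem eichler_mem_EG (u v : V) (l : F) (hu hv hl) : f.eichler u v l hu hv hl ∈ fr.EG :=
  fr.mem_EG_of_isE hu (isE_eichler hu hv hl)

instance instNormalEG : fr.EG.Normal := ⟨fun n hn g => by
  have : fr.EG ≤ fr.EG.comap (MulAut.conj g).toMonoidHom := iSup_le fun i x ⟨v, l, hx⟩ =>
    fr.mem_EG_of_isE (by rw [Isom.map_Q, fr.Qe]) (hx.conj g)
  exact this hn⟩

theorem EG_le [Finite I] {N : Subgroup f.Isom} (hA : ∀ i j, j ≠ i → j ≠ -i → fr.RS i j ≤ N)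
    (hC : ∀ i, fr.RC i ≤ N) : fr.EG ≤ N :=
  iSup_le fun i _ hg => fr.U_induction ∅ (fun j h1 h2 _ => hA i j h1 h2) (hC i) hg (by simp) (by simp)

theorem RS_le_EG (i j : I) : fr.RS i j ≤ fr.EG := fun _ h => fr.U_le_EG i (fr.RA_subset_U h)

theorem RC_le_EG (i : I) : fr.RC i ≤ fr.EG := (fr.RC_le_U i).trans (fr.U_le_EG i)

/-- every isometry is monomial modulo the Eichler transformations -/
theorem exists_mon [Finite I] (g : f.Isom) : ∃ t ∈ fr.EG, t * g ∈ fr.Mon := by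
  have key : ∀ T : Set I, ∃ t ∈ fr.EG, ∀ i ∈ T, (∃ j, fr.Mv (t * g) i j) ∧
      ∃ j, fr.Mv (t * g) (-i) j := by
    intro T
    induction T, Set.toFinite T using Set.Finite.induction_on with
    | empty => exact ⟨1, one_mem _, by simp⟩
    | @insert r T hr _ ih =>
      obtain ⟨t, ht, h⟩ := ih
      by_cases h0 : -r ∈ T
      · refine ⟨t, ht, fun i hi => ?_⟩
        rcases hi with rfl | hi
        · simpa using (h _ h0).symm
        · exact h i hi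
      have step : ∀ (g1 : f.Isom) (a k : I), f.B (g1.1 (fr.e a)) (fr.e (-k)) ≠ 0 →
          ∃ x ∈ fr.EG, fr.Mv (x * g1) a k ∧ x.1 (fr.e (-k)) = fr.e (-k) ∧
            ∀ i j, i ≠ a → i ≠ -a → fr.Mv g1 i j → (∃ j', fr.Mv g1 (-i) j') → fr.Mv (x * g1) i j := by
        intro g1 a k hk
        obtain ⟨x, v', l', c, hx, h1, h2⟩ := exists_move (fr.Qe (-k)) (fr.Qe k)
          (show f.Q (g1.1 (fr.e a)) = 0 by rw [Isom.map_Q, fr.Qe]) (fr.B_ne k) hk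
        have orth : ∀ i j, i ≠ -a → fr.Mv g1 i j → f.B (g1.1 (fr.e a)) (fr.e j) = 0 := by
          rintro i j hi ⟨d, hd⟩
          have := fr.B_eq a i hi
          rw [← Isom.map_B g1, hd, B_smul_right] at this
          exact (mul_eq_zero.1 this).resolve_left (P.σ_ne_zero (fr.smul_ne_zero hd))
        refine ⟨x⁻¹, inv_mem (fr.U_le_EG _ ⟨_, _, hx⟩), ?_,
          inv_apply_of_apply (hx.apply_self (fr.Qe _)), fun i j a1 a2 a3 ⟨j', a4⟩ => ?_⟩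
        · have hc : c ≠ 0 := by rintro rfl; exact fr.e_ne_zero k (by simpa using h1)
          refine ⟨c⁻¹, x.1.injective ?_⟩
          rw [Isom.mul_apply, Isom.apply_inv, map_smul, h1, smul_smul, inv_mul_cancel₀ hc, one_smul]
        · have b1 := orth i j a2 a3
          have b2 := orth _ _ (neg_ne_neg_of a1) a4
          rw [a3.neg a4] at b2
          exact (Mv.of_eq (inv_apply_of_apply (h2 _ (fr.B_eq' fun e => hk (e ▸ b1))
            (f.B_eq_zero_symm b1) (fr.B_neg fun e => hk (e ▸ b2))))).mul a3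
      obtain ⟨k, hk⟩ := fr.exists_B_ne (z := (t * g).1 (fr.e r)) (by simpa using fr.e_ne_zero r)
        (by rw [Isom.map_Q, fr.Qe])
      obtain ⟨x, hx, a1, -, a2⟩ := step _ r k hk
      obtain ⟨y, hy, b1, b2, b3⟩ := step (x * (t * g)) (-r) (-k) (by
        obtain ⟨c, hc⟩ := a1
        have := fr.B_ne' r
        rw [← Isom.map_B (x * (t * g)), hc, B_smul_right] at this
        rw [neg_neg]; exact right_ne_zero_of_mul this)
      rw [neg_neg] at b2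
      refine ⟨y * x * t, mul_mem (mul_mem hy hx) ht, fun i hi => ?_⟩
      rw [mul_assoc, mul_assoc]
      rcases hi with rfl | hi
      · exact ⟨⟨k, (Mv.of_eq b2).mul a1⟩, _, b1⟩
      have c1 : i ≠ r := fun e => hr (e ▸ hi)
      have c2 : i ≠ -r := fun e => h0 (e ▸ hi)
      obtain ⟨⟨j, d1⟩, j', d2⟩ := h i hi
      have e1 := a2 i j c1 c2 d1 ⟨_, d2⟩
      have e2 := a2 (-i) j' (neg_ne_of c2) (neg_ne_neg_of c1) d2 ⟨j, by rwa [neg_neg]⟩
      exact ⟨⟨j, b3 i j c2 (by rwa [neg_neg]) e1 ⟨_, e2⟩⟩, j', b3 (-i) j' (neg_ne_neg_of c1)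
        (neg_ne_neg_of c2) e2 ⟨j, by rwa [neg_neg]⟩⟩
  obtain ⟨t, ht, h⟩ := key Set.univ
  exact ⟨t, ht, fr.mem_Mon fun i => (h i trivial).1⟩

end Frame

end Cfsg.Agent.Cls
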