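import Cfsg.Agent.Lib.Cls.Weyl
import Cfsg.Agent.Lib.SL2.Bruhat

/-!
Reduction of the torus to rank one, and the rank one tori of the roots with two indices.
-/

set_option autoImplicit false

namespace Cfsg.Agent.Cls

open Forms Forms.Form Subgroup

variable {F : Type*} [Field F] {P : Param F} {V : Type*} [AddCommGroup V] [Module F V]
  {f : Form P V} {I : Type*} [InvolutiveNeg I] {J : Type*} [Group J]

theorem stH_mul' {K : Type*} [Field K] [Finite K] {x y : K → J} (hx : ∀ a b, x (a + b) = x a * x b)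
    (hy : ∀ a b, y (a + b) = y a * y b)
    (hw : ∀ t u : K, t ≠ 0 → SL2.stW x y t * x u * (SL2.stW x y t)⁻¹ = y (-(t⁻¹ ^ 2 * u)))
    {t u : K} (ht : t ≠ 0) (hu : u ≠ 0) : SL2.stH x y (t * u) = SL2.stH x y t * SL2.stH x y u := by
  let L := closure (Set.range x ∪ Set.range y)
  let x' : K → L := fun a => ⟨x a, subset_closure (Or.inl ⟨a, rfl⟩)⟩
  let y' : K → L := fun a => ⟨y a, subset_closure (Or.inr ⟨a, rfl⟩)⟩
  have := SL2.stH_mul (x := x') (y := y') (fun a b => Subtype.ext (hx a b))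
    (fun a b => Subtype.ext (hy a b)) (fun t u ht => Subtype.ext (hw t u ht)) (by
      apply map_injective L.subtype_injective
      rw [MonoidHom.map_closure, ← MonoidHom.range_eq_map, range_subtype, Set.image_union,
        ← Set.range_comp, ← Set.range_comp]
      rfl) ht hu
  exact congrArg Subtype.val this

theorem exists_stH {K : Type*} [Field K] [Finite K] {x y : K → J}
    (hx : ∀ a b, x (a + b) = x a * x b) (hy : ∀ a b, y (a + b) = y a * y b)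
    (hw : ∀ t u : K, t ≠ 0 → SL2.stW x y t * x u * (SL2.stW x y t)⁻¹ = y (-(t⁻¹ ^ 2 * u)))
    {W : Set J} (hW : ∀ r ∈ W, ∃ t, t ≠ 0 ∧ r = SL2.stW x y t) {g : J}
    (hg : g ∈ closure {g | ∃ r ∈ W, ∃ r' ∈ W, g = r * r'⁻¹}) : ∃ t, t ≠ 0 ∧ g = SL2.stH x y t := by
  have h1 : SL2.stH x y (1 : K) = 1 := mul_inv_cancel _
  have h2 : ∀ t : K, t ≠ 0 → (SL2.stH x y t)⁻¹ = SL2.stH x y t⁻¹ := fun t ht => by
    rw [inv_eq_iff_mul_eq_one, ← stH_mul' hx hy hw ht (inv_ne_zero ht), mul_inv_cancel₀ ht, h1]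
  induction hg using closure_induction with
  | mem g hg =>
    obtain ⟨r, hr, r', hr', rfl⟩ := hg
    obtain ⟨t, ht, rfl⟩ := hW r hr
    obtain ⟨u, hu, rfl⟩ := hW r' hr'
    refine ⟨t * u⁻¹, mul_ne_zero ht (inv_ne_zero hu), ?_⟩
    rw [stH_mul' hx hy hw ht (inv_ne_zero hu), ← h2 u hu, SL2.stH, SL2.stH]; group
  | one => exact ⟨1, one_ne_zero, h1.symm⟩
  | mul a b _ _ ha hb =>
    obtain ⟨t, ht, rfl⟩ := ha
    obtain ⟨u, hu, rfl⟩ := hb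
    exact ⟨t * u, mul_ne_zero ht hu, (stH_mul' hx hy hw ht hu).symm⟩
  | inv a _ ha =>
    obtain ⟨t, ht, rfl⟩ := ha
    exact ⟨t⁻¹, inv_ne_zero ht, h2 t ht⟩

namespace Frame

variable (fr : Frame f I)

/-- the root subgroups with one index are not trivial -/
def HasC (fr : Frame f I) : Prop := ∃ v ∈ fr.V0, ∃ l, f.IsLam v l ∧ l ≠ 0

theorem RC_ne_bot (h : fr.HasC) (i : I) : fr.RC i ≠ ⊥ := by
  obtain ⟨v, hv, l, hl, h0⟩ := h
  obtain ⟨g, hg⟩ := exists_isE (fr.Qe i) (fr.mem_V0.1 hv i) hl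
  refine ne_bot_iff_exists_ne_one.2 ⟨⟨g, v, hv, l, hg⟩, fun e => h0 ?_⟩
  have := hg.app (fr.e (-i))
  rw [show g = 1 from congrArg Subtype.val e] at this
  have := congrArg (fun w => f.B w (fr.e (-i))) this
  simpa [fr.mem_V0.1 hv, f.B_eq_zero_symm (fr.mem_V0.1 hv _), fr.B_ne, fr.B_ne', P.ε_ne_zero,
    f.B_self_of_Q (fr.Qe _)] using this

theorem RC_eq_bot (h : ¬ fr.HasC) (i : I) : fr.RC i = ⊥ := by
  rw [eq_bot_iff]
  rintro g ⟨v, hv, l, hg⟩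
  by_contra h0
  exact h ⟨v, hv, l, hg.lam, fr.l_ne_zero hv hg h0⟩

theorem exists_RX_ne_one {i j : I} (h1 : j ≠ i ∨ fr.HasC) (h2 : j ≠ -i) :
    ∃ x ∈ fr.RX i j, x ≠ 1 := by
  by_cases e : j = i
  · obtain ⟨⟨x, hx⟩, h0⟩ := ne_bot_iff_exists_ne_one.1 (fr.RC_ne_bot (h1.resolve_left (by simpa)) i)
    exact ⟨x, by rwa [e, RX_self], fun e => h0 (Subtype.ext e)⟩
  · obtain ⟨x, hx⟩ := fr.exists_RA h2 1
    refine ⟨x, by rw [fr.RX_of_ne e]; exact ⟨_, hx⟩, fun e' => ?_⟩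
    have := hx.app (fr.e (-i))
    rw [e', B_smul_right, fr.B_eq' (neg_ne_neg_of (Ne.symm e))] at this
    simpa [fr.B_ne', fr.e_ne_zero] using this

theorem W_unique {i j : I} (h2 : j ≠ -i) {x y y' z z' : f.Isom} (hx : x ∈ fr.RX i j) (h0 : x ≠ 1)
    (hy : y ∈ fr.RX (-i) (-j)) (hy' : y' ∈ fr.RX (-i) (-j)) (hz : z ∈ fr.RX (-i) (-j))
    (hz' : z' ∈ fr.RX (-i) (-j)) (h1 : y * x * y' ∈ fr.Mon) (h3 : z * x * z' ∈ fr.Mon) :
    y = z ∧ y' = z' := by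
  have key : ∀ {x y y' z z' : f.Isom}, x ∈ fr.RX i j → x ≠ 1 → y ∈ fr.RX (-i) (-j) →
      y' ∈ fr.RX (-i) (-j) → z ∈ fr.RX (-i) (-j) → z' ∈ fr.RX (-i) (-j) → y * x * y' ∈ fr.Mon →
      z * x * z' ∈ fr.Mon → y = z := by
    intro x y y' z z' hx h0 hy hy' hz hz' h1 h3
    have k : ∀ {y y' : f.Isom}, y ∈ fr.RX (-i) (-j) → y' ∈ fr.RX (-i) (-j) → y * x * y' ∈ fr.Mon →
        fr.Mv (y * x) (-i) j := fun {y y'} hy hy' h1 => by
      obtain ⟨k, hk⟩ := h1.1 (-i)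
      have hk' : fr.Mv (y * x) (-i) k := by
        simpa using hk.mul (Mv.of_eq (apply_self_of_mem_Eu (fr.RX_le_U _ _ hy'))).inv
      rwa [← hk'.eq_of_B (k := j)]
      rw [Isom.mul_apply, B_apply_of_mem_Eu (fr.RX_le_U _ _ (fr.RX_symm (neg_ne_neg_of h2) hy))]
      exact fr.RX_B_ne h2 hx h0
    obtain ⟨c, hc⟩ := (k hy hy' h1).mul (k hz hz' h3).inv
    refine mul_inv_eq_one.1 (fr.U_eq_one (i := -j) (c := c)
      (fr.RX_le_U _ _ (fr.RX_symm (neg_ne_neg_of h2) (mul_mem hy (inv_mem hz)))) ?_)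
    simpa [mul_assoc] using hc
  refine ⟨key hx h0 hy hy' hz hz' h1 h3, inv_injective (key (inv_mem hx) (inv_ne_one.2 h0)
    (inv_mem hy') (inv_mem hy) (inv_mem hz') (inv_mem hz) ?_ ?_)⟩
  · simpa [mul_assoc] using inv_mem h1
  · simpa [mul_assoc] using inv_mem h3

theorem mon_of_W1 [Finite I] {i j : I} {g : f.Isom} (a1 : fr.Mv g i (-j)) (a2 : fr.Mv g (-i) j)
    (a3 : fr.Mv g j (-i)) (a4 : fr.Mv g (-j) i)
    (a5 : ∀ k, k ≠ i → k ≠ -i → k ≠ j → k ≠ -j → g.1 (fr.e k) = fr.e k) : g ∈ fr.Mon := by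
  refine fr.mem_Mon fun k => ?_
  by_cases b1 : k = i
  · exact ⟨_, b1 ▸ a1⟩
  by_cases b2 : k = -i
  · exact ⟨_, b2 ▸ a2⟩
  by_cases b3 : k = j
  · exact ⟨_, b3 ▸ a3⟩
  by_cases b4 : k = -j
  · exact ⟨_, b4 ▸ a4⟩
  exact ⟨k, .of_eq (a5 k b1 b2 b3 b4)⟩

end Frame

variable {fr : Frame f I} {φ : J →* f.Isom} {U : I → Subgroup J}

theorem comm_mem_HR {i j : I} {r g : J} (hr : r ∈ WR fr φ U i j) (hg : g ∈ Mx fr φ U)
    (hv : ∀ k, fr.Mv (φ g) k k) : r * g * r⁻¹ * g⁻¹ ∈ HR fr φ U i j := by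
  convert mul_inv_mem_HR hr (Mx_conj_W hg (hv i) (hv j) hr) using 1
  group

namespace PSt0

variable (h : PSt0 fr φ U)
include h

theorem W_nonempty [Finite I] {i j : I} (h1 : j ≠ i ∨ fr.HasC) (h2 : j ≠ -i) :
    ∃ r, r ∈ WR fr φ U i j := by
  obtain ⟨x, hx, h0⟩ := fr.exists_RX_ne_one h1 h2
  obtain ⟨x, hx', rfl⟩ := h.exists_X hx
  obtain ⟨y, -, y', -, hW⟩ := h.exists_W h2 hx' (by rintro rfl; exact h0 (map_one φ))
  exact ⟨_, hW⟩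

theorem HR_symm {i j : I} (h2 : j ≠ -i) : HR fr φ U i j ≤ HR fr φ U j i :=
  HR_le fun _ hr _ hr' => mul_inv_mem_HR (h.W_symm h2 hr) (h.W_symm h2 hr')

theorem HR_eq_bot (hC : ¬ fr.HasC) (i : I) : HR fr φ U i i = ⊥ := by
  rw [eq_bot_iff]
  refine HR_le fun r ⟨_, x, hx, h0, _⟩ => absurd (h.inj i x hx.1 ?_) h0
  have := (mem_XR_self.1 hx).2
  rwa [fr.RC_eq_bot hC] at this

theorem W_eq {i j : I} (h2 : j ≠ -i) {x y y' z z' : J} (hx : x ∈ XR fr φ U i j) (h0 : x ≠ 1)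
    (hy : y ∈ XR fr φ U (-i) (-j)) (hy' : y' ∈ XR fr φ U (-i) (-j)) (hz : z ∈ XR fr φ U (-i) (-j))
    (hz' : z' ∈ XR fr φ U (-i) (-j)) (h1 : φ (y * x * y') ∈ fr.Mon) (h3 : φ (z * x * z') ∈ fr.Mon) :
    y = z ∧ y' = z' := by
  simp only [map_mul] at h1 h3
  have := fr.W_unique h2 hx.2 (fun e => h0 (h.inj i x hx.1 e)) hy.2 hy'.2 hz.2 hz'.2 h1 h3
  exact ⟨h.eq hy.1 hz.1 this.1, h.eq hy'.1 hz'.1 this.2⟩

end PSt0

namespace PSt1

variable (h : PSt1 fr φ U)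
include h

theorem HR_neg {i j : I} (h2 : j ≠ -i) : HR fr φ U i j ≤ HR fr φ U (-i) (-j) :=
  HR_le fun _ hr _ hr' => mul_inv_mem_HR (h.W_neg h2 hr) (h.W_neg h2 hr')

theorem HR_mv' {i j : I} (h2 : j ≠ -i) {g : J} (hg : g ∈ HR fr φ U i j) (k : I) :
    fr.Mv (φ g) k k := h.toPSt0.HR_mv h2 hg k (by simp)

theorem HR_le_of_conj {k l i j i' j' : I} (e : l ≠ -k) (e' : j ≠ -i) {r : J}
    (hr : r ∈ WR fr φ U k l) (h1 : fr.Mv (φ r) i' i) (h2 : fr.Mv (φ r) j' j) {K : Subgroup J}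
    (k1 : HR fr φ U k l ≤ K) (k2 : HR fr φ U i j ≤ K) : HR fr φ U i' j' ≤ K := fun g hg => by
  have a1 := Mx_conj_HR (h.monoW k l e r hr) h1 h2 hg
  have a2 := comm_mem_HR (inv_mem_W hr) (h.HR_le_Mx e' a1) (h.HR_mv' e' a1)
  convert mul_mem (k1 a2) (k2 a1) using 1
  group

theorem HS_step [Finite I] {S : Set I} (hS : ∀ i ∈ S, -i ∈ S) {r j : I} (hj : j ∈ rm S r)
    (hC : fr.HasC ∨ ∃ l ∈ rm S r, l ≠ j ∧ l ≠ -j) :
    HS fr φ U S ≤ HR fr φ U r j ⊔ HS fr φ U (rm S r) := by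
  have h0 := h.toPSt0
  have hS' := rm_closed hS r
  set K := HR fr φ U r j ⊔ HS fr φ U (rm S r)
  have k0 : ∀ a ∈ rm S r, ∀ b ∈ rm S r, b ≠ -a → HR fr φ U a b ≤ K := fun a ha b hb e =>
    (HR_le_HS ha hb e).trans le_sup_right
  have k1 : ∀ a ∈ rm S r, ∀ b ∈ rm S r, a ≠ -b ∨ fr.HasC → a ≠ b → HR fr φ U r b ≤ K →
      HR fr φ U r a ≤ K := fun a ha b hb e1 e2 hK => by
    obtain ⟨w, hw⟩ := h0.W_nonempty (i := a) (j := -b) (e1.imp_left Ne.symm) (neg_ne_neg_of e2.symm)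
    refine h.HR_le_of_conj (neg_ne_neg_of e2.symm) hb.2.2 hw (.of_eq (W_fix hw ha.2.1.symm
      (ne_neg_swap ha.2.2) (ne_neg_swap hb.2.2) (by rw [neg_neg]; exact hb.2.1.symm)))
      (by simpa using h0.W_mv2 (neg_ne_neg_of e2.symm) hw)
      (k0 a ha _ (hS' b hb) (neg_ne_neg_of e2.symm)) hK
  have k2 : ∀ a ∈ rm S r, HR fr φ U r a ≤ K := fun a ha => by
    by_cases e1 : a = j
    · rw [e1]; exact le_sup_left
    by_cases e2 : a = -j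
    · rcases hC with hC | ⟨l, hl, l1, l2⟩
      · exact k1 a ha j hj (Or.inr hC) e1 le_sup_left
      · exact k1 a ha l hl (Or.inl (by rw [e2]; exact neg_ne_neg_of l1.symm))
          (by rw [e2]; exact l2.symm) (k1 l hl j hj (Or.inl l2) l1 le_sup_left)
    exact k1 a ha j hj (Or.inl e2) e1 le_sup_left
  have k3 : HR fr φ U r r ≤ K := by
    obtain ⟨w, hw⟩ := h0.W_nonempty (Or.inl hj.2.1) hj.2.2
    exact h.HR_le_of_conj hj.2.2 (fr.ne _).symm hw (h0.W_mv2 hj.2.2 hw) (h0.W_mv2 hj.2.2 hw)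
      le_sup_left (k0 _ (hS' j hj) _ (hS' j hj) (fr.ne _).symm)
  have k4 : ∀ a ∈ S, a ≠ -r → HR fr φ U r a ≤ K := fun a ha e => by
    by_cases e1 : a = r
    · rw [e1]; exact k3
    exact k2 a ⟨ha, e1, e⟩
  refine HS_le fun a ha b hb e => ?_
  by_cases a1 : a = r
  · subst a1; exact k4 b hb e
  by_cases a2 : b = r
  · subst a2; exact (h0.HR_symm e).trans (k4 a ha (ne_neg_swap e))
  by_cases a3 : a = -r
  · subst a3; exact (h.HR_neg e).trans (by rw [neg_neg]; exact k4 _ (hS b hb) (neg_ne_neg_of a2))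
  by_cases a4 : b = -r
  · subst a4
    exact (h0.HR_symm e).trans ((h.HR_neg (ne_neg_swap e)).trans
      (by rw [neg_neg]; exact k4 _ (hS a ha) (neg_ne_neg_of a1)))
  exact k0 a ⟨ha, a1, a3⟩ b ⟨hb, a2, a4⟩ e

theorem exists_of_mem_sup {i j : I} {K : Subgroup J} (hK : K ≤ HS fr φ U Set.univ) {g : J}
    (hg : g ∈ HR fr φ U i j ⊔ K) : ∃ a ∈ HR fr φ U i j, ∃ b ∈ K, g = a * b := by
  have : K ≤ normalizer (HR fr φ U i j : Set J) := le_normalizer_iff.2 fun x hx y hy =>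
    Mx_conj_HR (h.HS_le_Mx (hK hx)) (h.toPSt0.HS_mv (hK hx) i) (h.toPSt0.HS_mv (hK hx) j) hy
  rw [← SetLike.mem_coe, coe_mul_of_right_le_normalizer_left _ _ this] at hg
  obtain ⟨a, ha, b, hb, rfl⟩ := hg
  exact ⟨a, ha, b, hb, rfl⟩

/-- parametrization of the rank one torus -/
theorem exists_torus [Finite I] [Finite F] {i j : I} (h1 : j ≠ i) (h2 : j ≠ -i) :
    ∃ η : F → J, η 1 = 1 ∧ (∀ g ∈ HR fr φ U i j, ∃ t, t ≠ 0 ∧ g = η t) ∧ ∀ t, t ≠ 0 →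
      η t ∈ HR fr φ U i j ∧ (φ (η t)).1 (fr.e j) = t⁻¹ • fr.e j ∧
      (φ (η t)).1 (fr.e i) = P.σ t⁻¹ • fr.e i := by
  have h0 := h.toPSt0
  have n1 := fr.B_ne i
  have n2 := fr.B_ne j
  have n3 := fr.B_ne' i
  have n4 := fr.B_ne' j
  have hY : ∀ a : F, ∃ y ∈ XR fr φ U i j, IsE (φ y) (fr.e i) (a • fr.e j) 0 := fun a => by
    obtain ⟨g, hg⟩ := fr.exists_RA h2 a
    obtain ⟨y, hy, rfl⟩ := h0.exists_A h1 ⟨_, hg⟩
    exact ⟨y, hy, hg⟩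
  have hX : ∀ a : F, ∃ y ∈ XR fr φ U (-i) (-j), IsE (φ y) (fr.e (-i))
      (P.σ (P.ε * (f.B (fr.e (-i)) (fr.e i) * f.B (fr.e j) (fr.e (-j)))⁻¹ * -a) • fr.e (-j)) 0 :=
    fun a => by
      obtain ⟨g, hg⟩ := fr.exists_RA (neg_ne_neg_of h2) _
      obtain ⟨y, hy, rfl⟩ := h0.exists_A (neg_ne_neg_of h1) ⟨_, hg⟩
      exact ⟨y, hy, hg⟩
  choose Y hY1 hY2 using hY
  choose X hX1 hX2 using hX
  have aY : ∀ a b, Y (a + b) = Y a * Y b := fun a b =>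
    h0.eq (hY1 _).1 (mul_mem (hY1 _).1 (hY1 _).1) ((hY2 _).eq (by
      rw [map_mul]
      exact ((hY2 a).mul (fr.Qe i) (hY2 b)).congr (add_smul _ _ _).symm
        (by simp [f.B_self_of_Q (fr.Qe j)])))
  have aX : ∀ a b, X (a + b) = X a * X b := fun a b =>
    h0.eq (hX1 _).1 (mul_mem (hX1 _).1 (hX1 _).1) ((hX2 _).eq (by
      rw [map_mul]
      exact ((hX2 a).mul (fr.Qe _) (hX2 b)).congr (by rw [← add_smul, ← map_add]; congr 2; ring)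
        (by simp [f.B_self_of_Q (fr.Qe (-j))])))
  have hA := fun t (ht : t ≠ 0) => fr.W1_apply h1 h2 (neg_ne_zero.2 (inv_ne_zero ht)) (hY2 (-t⁻¹))
    ((hX2 t).congr (by congr 2; field_simp) rfl)
  have hne : ∀ t, t ≠ 0 → Y t ≠ 1 := fun t ht e => by
    have := (hY2 t).app (fr.e (-i))
    rw [e, map_one, B_smul_right, fr.B_eq' (neg_ne_neg_of h1.symm)] at this
    simpa [n3, fr.e_ne_zero, ht] using this
  have hφ : ∀ t, φ (SL2.stW X Y t) = φ (X t) * φ (Y (-t⁻¹)) * φ (X t) := fun t => by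
    simp [SL2.stW]
  have hW : ∀ t, t ≠ 0 → SL2.stW X Y t ∈ WR fr φ U i j := fun t ht => by
    obtain ⟨a1, a2, a3, a4⟩ := hA t ht
    refine ⟨?_, _, hY1 _, hne _ (neg_ne_zero.2 (inv_ne_zero ht)), _, hX1 _, _, hX1 _, rfl⟩
    rw [hφ]
    exact fr.mon_of_W1 ⟨_, a3⟩ ⟨_, a1⟩ ⟨_, a4⟩ ⟨_, a2⟩ fun k =>
      fr.W1_fix ⟨_, hY2 _⟩ ⟨_, hX2 _⟩ ⟨_, hX2 _⟩
  have hW' : ∀ r ∈ WR fr φ U i j, ∃ t, t ≠ 0 ∧ r = SL2.stW X Y t := by
    rintro _ ⟨hM, x, hx, x0, y, hy, y', hy', rfl⟩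
    obtain ⟨a, ha⟩ := ((mem_XR_of_ne h1).1 hx).2
    obtain rfl := h0.eq hx.1 (hY1 a).1 (ha.eq (hY2 a))
    have a0 : a ≠ 0 := by
      rintro rfl
      exact x0 (SL2.x_zero_of_add aY)
    have a1 := hW (-a⁻¹) (neg_ne_zero.2 (inv_ne_zero a0))
    have a2 : SL2.stW X Y (-a⁻¹) = X (-a⁻¹) * Y a * X (-a⁻¹) := by simp [SL2.stW]
    obtain ⟨rfl, rfl⟩ := h0.W_eq h2 hx x0 hy hy' (hX1 _) (hX1 _) hM (a2 ▸ a1.1)
    exact ⟨_, neg_ne_zero.2 (inv_ne_zero a0), a2.symm⟩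
  have hw : ∀ t u : F, t ≠ 0 → SL2.stW X Y t * X u * (SL2.stW X Y t)⁻¹ = Y (-(t⁻¹ ^ 2 * u)) := by
    intro t u ht
    obtain ⟨a1, a2, -, -⟩ := hA t ht
    rw [← hφ] at a1 a2
    refine h0.eq (h0.X_symm (ne_neg_swap h2) (Mx_conj_X (h.monoW i j h2 _ (hW t ht)) ⟨_, a1⟩ ⟨_, a2⟩
      (hX1 u))).1 (hY1 _).1 (IsE.eq ?_ (hY2 _))
    rw [map_mul, map_mul, map_inv]
    have b1 := (hX2 u).of_conj a1 (fr.smul_ne_zero a1)
    rw [map_smul, a2, smul_smul, smul_smul, mul_zero] at b1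
    refine (b1.swap (fr.Qe j) (fr.B_eq' h2)).congr ?_ rfl
    congr 1
    simp only [map_mul, map_neg, P.σσ, P.σε, f.σ_B (fr.e (-j))]
    have := P.εε
    field_simp
    linear_combination (-u * (P.ε ^ 2 + 1)) * this
  refine ⟨SL2.stH X Y, mul_inv_cancel _, fun g hg => exists_stH aX aY hw hW' hg, fun t ht =>
    ⟨mul_inv_mem_HR (hW t ht) (hW 1 one_ne_zero), ?_, ?_⟩⟩
  · obtain ⟨a1, -⟩ := hA t ht
    obtain ⟨a2, -⟩ := hA 1 one_ne_zero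
    rw [← hφ] at a1 a2
    have : fr.e j = (f.B (fr.e (-i)) (fr.e i) * -1⁻¹)⁻¹ • (φ (SL2.stW X Y 1)).1 (fr.e (-i)) := by
      rw [a2, smul_smul, inv_mul_cancel₀ (fr.smul_ne_zero a2), one_smul]
    rw [SL2.stH, map_mul, map_inv, Isom.mul_apply]
    nth_rewrite 1 [this]
    rw [map_smul, Isom.inv_apply, map_smul, a1, smul_smul]
    congr 1
    field_simp
  · obtain ⟨-, a1, -⟩ := hA t ht
    obtain ⟨-, a2, -⟩ := hA 1 one_ne_zero
    rw [← hφ] at a1 a2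
    have : fr.e i = (-(P.ε * (P.σ (-1⁻¹) * f.B (fr.e (-j)) (fr.e j))))⁻¹ •
        (φ (SL2.stW X Y 1)).1 (fr.e (-j)) := by
      rw [a2, smul_smul, inv_mul_cancel₀ (fr.smul_ne_zero a2), one_smul]
    rw [SL2.stH, map_mul, map_inv, Isom.mul_apply]
    nth_rewrite 1 [this]
    rw [map_smul, Isom.inv_apply, map_smul, a1, smul_smul]
    congr 1
    have := P.ε_ne_zero
    simp only [map_neg, inv_one, map_one]
    field_simp

end PSt1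

end Cfsg.Agent.Cls
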