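import Cfsg.Agent.Lib.Cls.Cox

/-!
Two generators for the groups generated by Eichler transformations.
-/

set_option autoImplicit false

namespace Cfsg.Agent.Cls

open Forms Forms.Form Subgroup
open scoped commutatorElement

variable {F : Type*} [Field F] {P : Param F} {V : Type*} [AddCommGroup V] [Module F V]
  {f : Form P V} {I : Type*} [InvolutiveNeg I]

theorem IsE.comm {g g' : f.Isom} {u v v' : V} {l l' : F} (hu : f.Q u = 0) (h : IsE g u v l)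
    (h' : IsE g' u v' l') : IsE ⁅g, g'⁆ u 0 (f.B v' v - f.B v v') := by
  refine (((h.mul hu h').mul hu (h.inv hu)).mul hu (h'.inv hu)).congr (by abel) ?_
  simp only [B_add_right, B_neg_left, B_neg_right, ← h.lam.2, ← h'.lam.2]
  ring

theorem IsE.pow {g : f.Isom} {u v : V} {l : F} (hu : f.Q u = 0) (h : IsE g u v l) (n : ℕ) :
    ∃ l', IsE (g ^ n) u ((n : F) • v) l' ∧ (f.B v v = 0 → l' = n * l) := by
  induction n with
  | zero => exact ⟨0, by simpa using isE_one _, by simp⟩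
  | succ n ih =>
    obtain ⟨l', a, b⟩ := ih
    exact ⟨_, pow_succ g n ▸ (a.mul hu h).congr (by simp [add_smul]) rfl, fun e => by
      simp [b e, B_smul_right, e, add_mul]⟩

theorem IsE.pow_card [Finite F] {g : f.Isom} {u v : V} {l : F} (hu : f.Q u = 0) (h : IsE g u v l) :
    g ^ (Nat.card F ^ 2) = 1 := by
  have := Fintype.ofFinite F
  have e : ((Nat.card F : ℕ) : F) = 0 := by
    rw [Nat.card_eq_fintype_card]; exact FiniteField.cast_card_eq_zero F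
  obtain ⟨l', a, -⟩ := h.pow hu (Nat.card F)
  rw [e, zero_smul] at a
  obtain ⟨l'', b, c⟩ := a.pow hu (Nat.card F)
  rw [sq, pow_mul]
  exact (b.congr (smul_zero _) (by simp [c, e])).eq_one

theorem span_pow {ζ : F} (hζ : ∀ t, t ≠ 0 → ∃ n : ℕ, t = ζ ^ n) (A : AddSubgroup F) (d : F)
    (hd : d ≠ 0) (h : ∀ n : ℕ, d * ζ ^ n ∈ A) (c : F) : c ∈ A := by
  by_cases e : c = 0
  · exact e ▸ zero_mem A
  obtain ⟨n, hn⟩ := hζ (c / d) (div_ne_zero e hd)
  simpa [← hn, mul_div_cancel₀ _ hd] using h n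

theorem gen_map {ζ : F} (hζ : ∀ t, t ≠ 0 → ∃ n : ℕ, t = ζ ^ n) (t : F) (ht : t ≠ 0) :
    ∃ n : ℕ, t = P.σ ζ ^ n :=
  let ⟨n, h⟩ := hζ _ (P.σ_ne_zero ht); ⟨n, by rw [← map_pow, ← h, P.σσ]⟩

theorem gen_pow_ne [Finite F] {ζ : F} (hζ : ∀ t, t ≠ 0 → ∃ n : ℕ, t = ζ ^ n) {k : ℕ} (h0 : 0 < k)
    (hk : k + 1 < Nat.card F) : ζ ^ k ≠ 1 := fun h => by
  classical
  have := Fintype.ofFinite F
  have h1 : (Finset.univ : Finset F) ⊆ insert 0 ((Finset.range k).image (ζ ^ ·)) := fun t _ => by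
    by_cases e : t = 0
    · simp [e]
    obtain ⟨n, rfl⟩ := hζ t e
    exact Finset.mem_insert_of_mem (Finset.mem_image.2 ⟨n % k, Finset.mem_range.2 (Nat.mod_lt _ h0),
      by conv_rhs => rw [← Nat.mod_add_div n k, pow_add, pow_mul, h, one_pow, mul_one]⟩)
  have h2 := (Finset.card_le_card h1).trans ((Finset.card_insert_le _ _).trans
    (Nat.add_le_add_right Finset.card_image_le 1))
  rw [Finset.card_range, Finset.card_univ, ← Nat.card_eq_fintype_card] at h2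
  omega

namespace Frame

variable {fr : Frame f I} [Finite I] [Finite F] {q : ℕ → I} {m : ℕ} {w : f.Isom}

theorem diag_pow {h : f.Isom} (hd : ∀ k, fr.Mv h k k) (hV : ∀ v ∈ fr.V0, h.1 v = v) :
    h ^ (Nat.card F - 1) = 1 := by
  have := Fintype.ofFinite F
  refine fr.ext (fun k => ?_) fun v hv => ?_
  · obtain ⟨c, hc⟩ := hd k
    rw [apply_pow hc, Nat.card_eq_fintype_card,
      FiniteField.pow_card_sub_one_eq_one _ (fr.smul_ne_zero hc)]; simp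
  · simpa using apply_pow ((hV v hv).trans (one_smul F v).symm) _

theorem Cox.gen_large (cox : fr.Cox q m w) (hm : 1 ≤ m) {h c : f.Isom} (hd : ∀ k, fr.Mv h k k)
    (hV : ∀ v ∈ fr.V0, h.1 v = v) {t s r : F} (a1 : h.1 (fr.e (q 0)) = t • fr.e (q 0))
    (a2 : h.1 (fr.e (-q 1)) = s • fr.e (-q 1)) (a3 : h.1 (fr.e (-q m)) = r • fr.e (-q m))
    (b1 : P.σ t * s ≠ 1) (b2 : r ≠ t)
    (hs : ∀ (A : AddSubgroup F) (d : F), d ≠ 0 → (∀ n : ℕ, d * (P.σ t * s) ^ n ∈ A) → ∀ c, c ∈ A)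
    (hc : Commute h c) (hc' : c ^ (Nat.card F ^ 2) = 1) :
    ∃ x ∈ fr.EG, ∀ H : Subgroup f.Isom, h * c ∈ H → x * w ∈ H → w ∈ H ∧ c ∈ H ∧
      ∀ a ∈ cyc q m, ∀ b ∈ cyc q m, b ≠ a → b ≠ -a → fr.RS a b ≤ H := by
  have e := cox.ne 1 hm 0 (by omega) (by omega)
  obtain ⟨x, hx⟩ := fr.exists_RA (neg_ne_neg_of e.1) 1
  refine ⟨x, fr.RS_le_EG _ _ ⟨_, hx⟩, fun H h1 h2 => ?_⟩
  have := Nat.card_pos (α := F)
  obtain ⟨h3, h4⟩ := mem_of_coprime hc (Nat.Coprime.pow_right 2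
    ((Nat.coprime_self_sub_left this).2 (by simp))) (diag_pow hd hV) hc' h1
  have d' := conj_diag cox.mon hd
  have t0 := fr.smul_ne_zero a1
  have k := fr.RS_le_of_trick (neg_ne_of e.2) (exists_trick (N := fr.RS _ _) h3 h2
    (fr.diag_commute hd d' hV) ⟨_, hx⟩ (fun y => (hd _).conj_RA (hd _))
    (fun y => (d' _).conj_RA (d' _)) (fr.Qe _) (hx.congr (one_smul _ _) rfl) a1 a2
    (Mv.conj_apply (by simpa using cox.last.neg' cox.mon) a3)
    (((cox.mv 0 hm).neg' cox.mon).conj_apply (fr.apply_neg a1 (hd _))) t0 (fr.smul_ne_zero a3) b1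
    (fun e => b2 (P.σ.injective ((mul_inv_eq_one₀ (P.σ_ne_zero t0)).1 e))) hs)
  have wH := (H.mul_mem_cancel_left (k ⟨_, hx⟩)).1 h2
  exact ⟨wH, h4, cox.RS_le wH hm k⟩

theorem Cox.gen_small (cox : fr.Cox q m w) (hm : 2 ≤ m) (hF : Nat.card F ≤ 3) (hσ : ∀ a, P.σ a = a)
    (hε : P.ε = 1) {c : f.Isom} {v : V} {l : F} (hc : IsE c (fr.e (q 0)) v l)
    (hv : ∀ a ∈ cyc q m, f.B v (fr.e a) = 0) :
    ∃ a ∈ fr.EG, ∀ H : Subgroup f.Isom, a ∈ H → w ∈ H → (∃ g ∈ H, IsE g (fr.e (q 2)) v l) ∧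
      ∀ a ∈ cyc q m, ∀ b ∈ cyc q m, b ≠ a → b ≠ -a → fr.RS a b ≤ H := by
  have := Fintype.ofFinite F
  have e := cox.ne 1 (by omega) 0 (by omega) (by omega)
  have e0 := cox.ne 2 hm 0 (by omega) (by omega)
  have e1 := cox.ne 2 hm 1 (by omega) (by omega)
  have i1 := mem_cyc (q := q) (Nat.zero_le m)
  have i2 := neg_mem_cyc (mem_cyc (q := q) (t := 1) (m := m) (by omega))
  have i3 := mem_cyc (q := q) hm
  obtain ⟨x, hx⟩ := fr.exists_RA (neg_ne_neg_of e.1) 1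
  obtain ⟨L, L1, L2⟩ := fr.exists_hom_levi le_rfl (p := ![q 0, -q 1]) (by
      intro a b; fin_cases a <;> fin_cases b <;> simp [neg_ne_of e.2, (neg_ne_of e.2).symm]) (by
      intro a b; fin_cases a <;> fin_cases b <;> simp [(fr.ne _).symm, e.1, e.1.symm, fr.ne])
  obtain ⟨δ, n, T, hn, T0, hT⟩ : ∃ (δ : F) (n : ℕ) (T : Matrix.SpecialLinearGroup (Fin 2) F),
      n.Coprime (Nat.card F ^ 2) ∧ T.1 = !![0, -1; 1, δ] ∧ T ^ n = 1 := by
    have : 1 < Nat.card F := Finite.one_lt_card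
    by_cases h : Nat.card F = 2
    · refine ⟨-1, 3, ⟨_, by simp⟩, by rw [h]; decide, rfl, Subtype.ext ?_⟩
      change (_ : Matrix _ _ F) ^ 3 = 1
      simp [pow_succ, Matrix.one_fin_two]
    · refine ⟨0, 4, ⟨_, by simp⟩, by rw [show Nat.card F = 3 by omega]; decide, rfl, Subtype.ext ?_⟩
      change (_ : Matrix _ _ F) ^ 4 = 1
      simp [pow_succ, Matrix.one_fin_two]
  have t1 : (L T).1 (fr.e (q 0)) = fr.e (-q 1) := by simpa [T0] using L2 T 0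
  have t2 : (L T).1 (fr.e (-q 1)) = (-1 : F) • fr.e (q 0) + δ • fr.e (-q 1) := by
    simpa [T0] using L2 T 1
  have t3 : L T ∈ fr.Levi (Set.range ![q 0, -q 1]) := L1 ▸ ⟨T, rfl⟩
  have sub : ∀ a ∈ Set.range ![q 0, -q 1], a = q 0 ∨ a = -q 1 := by simp [or_comm]
  have t4 : (L T).1 v = v := fr.Levi_apply t3 fun a ha => by
    rcases sub a ha with rfl | rfl
    exacts [⟨hv _ i1, hv _ (neg_mem_cyc i1)⟩, ⟨hv _ i2, hv _ (neg_mem_cyc i2)⟩]
  have c1 : Commute (L T) x := by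
    have a := hx.conj (L T)
    rw [t1, one_smul, t2] at a
    have b := ((a.add_self (fr.Qe _) δ).congr rfl (by simp [hσ, hε])).swap (fr.Qe _)
      (fr.B_eq' (neg_ne_neg_of e.1))
    exact mul_inv_eq_iff_eq_mul.1 (b.eq (hx.congr (by simp [hε]) rfl))
  have c2 : Commute x c := hc.commute (hx.apply_self (fr.Qe _))
    (hx.apply_of_orth (hv _ i1) (by simp [hv _ i2]))
  refine ⟨c * L T * c⁻¹ * x, mul_mem ((instNormalEG fr).conj_mem _ (fr.Levi_le_EG _ t3) c)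
    (fr.RS_le_EG _ _ ⟨_, hx⟩), fun H h1 h2 => ?_⟩
  obtain ⟨h3, h4⟩ := mem_of_coprime ((c2.symm.mul_left c1).mul_left c2.symm.inv_left) hn
    (by rw [conj_pow, ← map_pow, hT]; simp) (hx.pow_card (fr.Qe _)) h1
  have A := cox.RS_le h2 (by omega) (by
    rintro y ⟨b, hy⟩
    have : b * (b - 1) * (b + 1) = 0 := by
      have h5 := FiniteField.pow_card b
      have : 1 < Nat.card F := Finite.one_lt_card
      rw [← Nat.card_eq_fintype_card] at h5
      interval_cases Nat.card F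
      · linear_combination (b + 1) * h5
      · linear_combination h5
    simp only [mul_eq_zero, sub_eq_zero, add_eq_zero_iff_eq_neg] at this
    rcases this with (rfl | rfl) | rfl
    · exact (hy.congr (zero_smul _ _) rfl).eq_one ▸ one_mem H
    · exact hx.eq hy ▸ h4
    · exact ((hx.inv (fr.Qe _)).congr (neg_smul _ _).symm (by simp)).eq hy ▸ inv_mem h4)
  have t5 : L T ∈ H := fr.Levi_le (fun a ha b hb h y hy => by
    rcases sub a ha with rfl | rfl <;> rcases sub b hb with rfl | rfl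
    exacts [absurd rfl h, A _ i1 _ (neg_mem_cyc i2) (by simpa using e.1) (by simpa using e.2) hy,
      A _ i2 _ (neg_mem_cyc i1) (neg_ne_neg_of e.1.symm) (by simpa using neg_ne_of (ne_neg_swap e.2))
        hy, absurd rfl h]) t3
  have d := (hc.inv (fr.Qe _)).conj (L T)
  rw [t1, map_neg, t4] at d
  have A2 := A _ i3 _ (neg_mem_cyc i1) (neg_ne_of (ne_neg_swap e0.2)) (neg_ne_neg_of e0.1.symm)
  refine ⟨?_, A⟩
  simpa using fr.absorb e0.1 e0.2 (A _ i3 _ i1 e0.1.symm (ne_neg_swap e0.2)) A2 hc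
    (hv _ (neg_mem_cyc i1)) (hv _ i3) (fun y hy => by
      obtain ⟨b, hy'⟩ := id hy
      have := d.commute (fr.RA_apply hy (neg_ne_neg_of e1.1.symm) (by simpa using neg_ne_of e.2))
        (hy'.apply_of_orth (by simp [hv _ i3]) (by simp [B_smul_right, hv _ (neg_mem_cyc i1)]))
      convert mul_mem (mul_mem (mul_mem h3 (inv_mem t5)) (A2 hy)) (inv_mem (mul_mem h3 (inv_mem t5)))
        using 1
      calc _ = c * (y * (L T * c⁻¹ * (L T)⁻¹)) * (L T * c⁻¹ * (L T)⁻¹)⁻¹ * c⁻¹ := by group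
        _ = _ := by rw [this.eq]; group) 1

theorem Cox.gen_orth (cox : fr.Cox q m w) (wE : w ∈ fr.EG) (hm : 2 ≤ m) (hσ : ∀ a, P.σ a = a)
    (hε : P.ε = 1) {v : V} {l : F} (hl : f.IsLam v l) (hv : ∀ a ∈ cyc q m, f.B v (fr.e a) = 0) :
    ∃ a ∈ fr.EG, ∃ b ∈ fr.EG, ∀ H : Subgroup f.Isom, a ∈ H → b ∈ H → w ∈ H ∧
      (∃ g ∈ H, IsE g (fr.e (q 2)) v l) ∧
      ∀ a ∈ cyc q m, ∀ b ∈ cyc q m, b ≠ a → b ≠ -a → fr.RS a b ≤ H := by
  by_cases hF : Nat.card F ≤ 3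
  · obtain ⟨c, hc⟩ := exists_isE (fr.Qe (q 0)) (hv _ (mem_cyc (by omega))) hl
    obtain ⟨a, a1, a2⟩ := cox.gen_small hm hF hσ hε hc hv
    exact ⟨a, a1, w, wE, fun H h1 h2 => ⟨h2, a2 H h1 h2⟩⟩
  obtain ⟨c, hc⟩ := exists_isE (fr.Qe (q 2)) (hv _ (mem_cyc hm)) hl
  obtain ⟨ζ, ζ0, hζ⟩ := exists_pow_eq (F := F)
  have e := cox.ne 1 (by omega) 0 (by omega) (by omega)
  have e0 := cox.ne 2 hm 0 (by omega) (by omega)
  have e1 := cox.ne 2 hm 1 (by omega) (by omega)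
  have e2 := cox.ne m le_rfl 0 (by omega) (by omega)
  have e3 := cox.ne m le_rfl 1 (by omega) (by omega)
  obtain ⟨h, h1, h2, h3, h4, h5, h6⟩ := fr.exists_torus_A e.1 e.2 ζ0
  have h7 := h1 (cyc q m) (mem_cyc (by omega)) (mem_cyc (by omega))
  obtain ⟨x, x1, x2⟩ := cox.gen_large (by omega) h4 h6 h2 (fr.apply_neg h3 (h4 _))
    ((h5 _ (neg_ne_of e2.2) (neg_ne_neg_of e2.1) (neg_ne_of e3.2) (neg_ne_neg_of e3.1)).trans
      (one_smul F _).symm)
    (by simpa [hσ, sq] using gen_pow_ne hζ two_pos (by omega))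
    (by simpa [eq_comm] using gen_pow_ne hζ one_pos (by omega))
    (fun A d hd h => span_sq A d hd (by
      rintro _ ⟨t, ht, rfl⟩
      obtain ⟨n, rfl⟩ := hζ t ht
      simpa [hσ, sq, mul_pow] using h n))
    (hc.commute (h5 _ e0.1 e0.2 e1.1 e1.2) (fr.Levi_apply h7 fun a ha =>
      ⟨hv a ha, hv _ (neg_mem_cyc ha)⟩)) (hc.pow_card (fr.Qe _))
  refine ⟨h * c, mul_mem (fr.Levi_le_EG _ h7) (fr.mem_EG_of_isE (fr.Qe _) hc), x * w,
    mul_mem x1 wE, fun H a1 a2 => ?_⟩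
  obtain ⟨b1, b2, b3⟩ := x2 H a1 a2
  exact ⟨b1, ⟨c, b2, hc⟩, b3⟩

end Frame

end Cfsg.Agent.Cls
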