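import Cfsg.Agent.Lib.Cls.TwoGen

/-!
Two generators: the individual types.
-/

set_option autoImplicit false

namespace Cfsg.Agent.Cls

open Forms Forms.Form Subgroup Module
open scoped commutatorElement

variable {F : Type*} [Field F] {P : Param F} {V : Type*} [AddCommGroup V] [Module F V]
  {f : Form P V} {I : Type*} [InvolutiveNeg I] {q : ℕ → I} {m : ℕ}

theorem Indep.exists_ne (hq : Indep q m) (hm : 1 ≤ m) (a : I) :
    ∃ b ∈ cyc q m, b ≠ a ∧ b ≠ -a := by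
  have e := hq 1 hm 0 (by omega) (by omega)
  by_cases h : q 0 = a ∨ q 0 = -a
  · refine ⟨_, mem_cyc hm, ?_⟩
    rcases h with rfl | h
    · exact e
    · obtain rfl : a = -q 0 := by rw [h, neg_neg]
      exact ⟨e.2, by simpa using e.1⟩
  · exact ⟨_, mem_cyc (Nat.zero_le _), not_or.1 h⟩

theorem PM.exists_cyc (m : ℕ) : ∃ q : ℕ → PM (m + 1), Indep q m ∧ ∀ a, a ∈ cyc q m := by
  refine ⟨fun a => ⟨Fin.ofNat _ a, true⟩, fun a ha b hb h => ⟨?_, by simp⟩, fun ⟨a, s⟩ =>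
    ⟨a, Nat.le_of_lt_succ a.2, by cases s <;> simp⟩⟩
  simpa [Fin.ext_iff, Nat.mod_eq_of_lt (Nat.lt_succ_of_le ha),
    Nat.mod_eq_of_lt (Nat.lt_succ_of_le hb)] using h

namespace Frame

variable (fr : Frame f I) [Finite I]

/-- generation by two elements -/
def TwoG : Prop := ∃ a ∈ fr.EG, ∃ b ∈ fr.EG, ∀ H : Subgroup f.Isom, a ∈ H → b ∈ H → fr.EG ≤ H

omit [Finite I] in
theorem TwoG.quot {fr : Frame f I} (h : fr.TwoG) {G G' : Type*} [Group G] [Group G']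
    (j : G →* f.Isom) (hj : Function.Injective j) (hr : j.range = fr.EG) (π : G →* G')
    (hπ : Function.Surjective π) : ∃ a b : G', closure {a, b} = ⊤ := by
  obtain ⟨a, a1, b, b1, h⟩ := h
  obtain ⟨a, rfl⟩ := hr.ge a1
  obtain ⟨b, rfl⟩ := hr.ge b1
  refine ⟨π a, π b, ?_⟩
  rw [← Set.image_pair, ← MonoidHom.map_closure, ← MonoidHom.range_eq_top.2 hπ,
    MonoidHom.range_eq_map]
  congr 1
  refine eq_top_iff.2 fun x _ => ?_
  obtain ⟨y, hy, e⟩ := h ((closure {a, b}).map j) ⟨a, subset_closure (by simp), rfl⟩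
    ⟨b, subset_closure (by simp), rfl⟩ (hr.le ⟨x, rfl⟩)
  exact hj e ▸ hy

theorem exists_cox_C (hq : Indep q m) {v : V} {l : F} (hv : v ∈ fr.V0) (hl : f.IsLam v l)
    (l0 : l ≠ 0) : ∃ w ∈ fr.EG, fr.Cox q m w ∧ ∀ u ∈ fr.V0, w.1 u = u - (f.B u v * l⁻¹) • v := by
  obtain ⟨n, n1, n2, -, n3, n4⟩ := fr.exists_W2_of (q 0) hv hl l0
  obtain ⟨w, w1, w2, w3⟩ := fr.exists_cox hq (sup_le (fr.RC_le_EG _) (fr.RC_le_EG _) n1) n2 ⟨_, n3⟩
    fun a h1 h2 => let e := hq a h2 0 (by omega) (by omega); .of_eq (fr.RC_sup_fix n1 e.1 e.2)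
  exact ⟨w, w1, w2, fun u hu => (w3 u fun a _ => fr.mem_V0.1 hu a).trans (n4 u hu)⟩

omit [Finite I] in
theorem central_mem {H : Subgroup f.Isom} (hZ : ∀ l, f.IsLam 0 l → ∃ a, l = a - P.ε * P.σ a)
    {k : I} {u u' : V} (hu : f.B u u' ≠ 0) (h1 : ∀ a : F, ∃ g ∈ H, ∃ l, IsE g (fr.e k) (a • u) l)
    (h2 : ∃ g ∈ H, ∃ l, IsE g (fr.e k) u' l) {x : f.Isom} {l : F} (hx : IsE x (fr.e k) 0 l) :
    x ∈ H := by
  obtain ⟨a, rfl⟩ := hZ l hx.lam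
  obtain ⟨g, g1, _, g2⟩ := h1 (a / f.B u u')
  obtain ⟨g', g3, _, g4⟩ := h2
  refine ((g4.comm (fr.Qe k) g2).congr rfl ?_).eq hx ▸
    H.mul_mem (H.mul_mem (H.mul_mem g3 g1) (H.inv_mem g3)) (H.inv_mem g1)
  rw [f.symm (_ • u) u', B_smul_left, div_mul_cancel₀ _ hu]

omit [Finite I] in
theorem RS_le_of_RC {H : Subgroup f.Isom} {v : V} (hv : v ∈ fr.V0) (hB : f.B v v ≠ 0) {a b : I}
    (h2 : b ≠ -a) (ha : fr.RC a ≤ H) (hb : fr.RC b ≤ H) : fr.RS a b ≤ H := by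
  rintro s ⟨c, hs⟩
  obtain ⟨l, hl⟩ := f.exists_isLam v
  have v1 := fr.mem_V0.1 hv
  obtain ⟨y, hy⟩ := exists_isE (fr.Qe a) (v1 a) hl
  have v2 := Submodule.smul_mem _ (P.σ (-(P.ε * c / f.B v v))) hv
  obtain ⟨x, hx⟩ := exists_isE (fr.Qe b) (fr.mem_V0.1 v2 b) (hl.smul _)
  have x1 : x ∈ fr.RC b := ⟨_, v2, _, hx⟩
  have e := hy.conj x
  rw [fr.RC_apply x1 (ne_neg_swap h2), hx.app, v1] at e
  refine (((hy.inv (fr.Qe a)).mul (fr.Qe a) e).congr ?_ ?_).eq hs ▸ H.mul_mem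
    (H.inv_mem (ha ⟨v, hv, l, hy⟩)) (H.mul_mem (H.mul_mem (hb x1) (ha ⟨v, hv, l, hy⟩))
      (H.inv_mem (hb x1)))
  · rw [B_smul_right, P.σσ]
    rcases P.ε_eq with e | e <;> simp only [e] <;> match_scalars <;> field_simp <;> ring
  · simp [f.B_eq_zero_symm (v1 b), ← hl.2, add_comm l]

theorem twoG_C {w h : f.Isom} (cox : fr.Cox q m w) (wE : w ∈ fr.EG) (hT : ∀ a, a ∈ cyc q m)
    (hZ : ∀ l, f.IsLam 0 l → ∃ a, l = a - P.ε * P.σ a) {v : V} (hv : v ∈ fr.V0) (hB : f.B v v ≠ 0)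
    (hV : ∀ u ∈ fr.V0, ∃ c : F, u = c • v) (hE : h ∈ fr.EG) (hd : ∀ k, fr.Mv h k k) {t ρ r : F}
    (a1 : h.1 (fr.e (q 0)) = t • fr.e (q 0)) (a2 : h.1 v = ρ • v)
    (a3 : h.1 (fr.e (-q m)) = r • fr.e (-q m)) (b1 : P.σ t * ρ ≠ 1) (b2 : P.σ r * ρ ≠ 1)
    (hs : ∀ (A : AddSubgroup F) (d : F), d ≠ 0 → (∀ n : ℕ, d * (P.σ t * ρ) ^ n ∈ A) → ∀ c, c ∈ A) :
    fr.TwoG := by
  obtain ⟨l, hl⟩ := f.exists_isLam v
  obtain ⟨y, hy⟩ := exists_isE (fr.Qe (q 0)) (fr.mem_V0.1 hv _) hl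
  have c1 : ∀ u ∈ fr.V0, h.1 u = ρ • u := fun u hu => by
    obtain ⟨c, rfl⟩ := hV u hu; rw [map_smul, a2, smul_comm]
  have c2 : ∀ u ∈ fr.V0, (w * h * w⁻¹).1 u = ρ • u := fun u hu => by
    rw [Isom.mul_apply, Isom.mul_apply, c1 _ (fr.mem_V0_of_mon (inv_mem cox.mon) hu), map_smul,
      Isom.apply_inv]
  have d' := conj_diag cox.mon hd
  have m1 := fr.mem_Mon fun k => ⟨k, hd k⟩
  have m2 := fr.mem_Mon fun k => ⟨k, d' k⟩
  refine ⟨h, hE, y * w, mul_mem (fr.mem_EG_of_isE (fr.Qe _) hy) wE, fun H h1 h2 => ?_⟩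
  have k := exists_trick (N := fr.RC (q 0)) h1 h2 (fr.ext (fun k => by
      obtain ⟨a, ha⟩ := hd k
      obtain ⟨b, hb⟩ := d' k
      rw [Isom.mul_apply, Isom.mul_apply _ h, ha, hb, map_smul, map_smul, ha, hb, smul_comm])
    fun u hu => by
      rw [Isom.mul_apply, Isom.mul_apply _ h, c1 u hu, c2 u hu, map_smul, map_smul, c1 u hu, c2 u hu])
    ⟨v, hv, l, hy⟩ (fun y => (hd _).conj_RC m1) (fun y => (d' _).conj_RC m2) (fr.Qe _) hy a1 a2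
    (Mv.conj_apply (by simpa using cox.last.neg' cox.mon) a3) (c2 v hv) (fr.smul_ne_zero a1)
    (fr.smul_ne_zero a3) b1 b2 hs
  have k' : ∀ c : F, ∃ g ∈ H, ∃ l, IsE g (fr.e (q 0)) (c • v) l := fun c =>
    let ⟨g, g1, g2⟩ := k c; ⟨g, g1.1, g2⟩
  have k1 : fr.RC (q 0) ≤ H := by
    rintro x ⟨u, hu, l', hx⟩
    obtain ⟨c, rfl⟩ := hV u hu
    obtain ⟨g, g1, _, g2⟩ := k' c
    exact (H.mul_mem_cancel_right (H.inv_mem g1)).1 (fr.central_mem hZ hB k'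
      (by simpa using k' 1) ((hx.mul (fr.Qe _) (g2.inv (fr.Qe _))).congr (add_neg_cancel _) rfl))
  have k2 := fun a => cox.RC_le ((H.mul_mem_cancel_left (k1 ⟨v, hv, l, hy⟩)).1 h2) k1 a (hT a)
  exact fr.EG_le (fun a b _ h2 => fr.RS_le_of_RC hv hB h2 (k2 a) (k2 b)) k2

variable [Finite F]

theorem twoG_B (hq : Indep q m) (hT : ∀ a, a ∈ cyc q m) (hm : 1 ≤ m) (hF : 2 < Nat.card F)
    (hZ : ∀ l, f.IsLam 0 l → ∃ a, l = a - P.ε * P.σ a) {v : V} (hv : v ∈ fr.V0) (hB : f.B v v ≠ 0)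
    (hV : ∀ u ∈ fr.V0, ∃ c : F, u = c • v) : fr.TwoG := by
  obtain ⟨l, hl⟩ := f.exists_isLam v
  obtain ⟨w, wE, cox, -⟩ := fr.exists_cox_C hq hv hl fun e => hB (by simp [← hl.2, e])
  obtain ⟨ζ, ζ0, hζ⟩ := exists_pow_eq (F := F)
  have e := hq m le_rfl 0 (by omega) (by omega)
  obtain ⟨h, h1, h2, h3, h4, -, h6⟩ := fr.exists_torus_A (neg_ne_of e.2) (neg_ne_neg_of e.1) ζ0
  have := gen_pow_ne (gen_map (P := P) hζ) one_pos hF
  exact fr.twoG_C cox wE hT hZ hv hB hV (fr.Levi_le_EG Set.univ (h1 _ trivial trivial)) h4 h2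
    ((h6 v hv).trans (one_smul _ _).symm) h3 (by simpa using this) (by simpa using this)
    (by simpa using span_pow (gen_map hζ))

theorem twoG_A (hq : Indep q m) (hT : ∀ a, a ∈ cyc q m) (hm : 1 ≤ m) (hF : 3 < Nat.card F)
    (hσ : ∃ a, P.σ a ≠ a) (hZ : ∀ l, f.IsLam 0 l → ∃ a, l = a - P.ε * P.σ a)
    (hC : ∃ l, l ≠ 0 ∧ f.IsLam 0 l) (hV : ∀ u ∈ fr.V0, u = 0) : fr.TwoG := by
  obtain ⟨l, l0, hl⟩ := hC
  obtain ⟨w, wE, cox, -⟩ := fr.exists_cox_C hq (zero_mem _) hl l0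
  obtain ⟨ζ, ζ0, hζ⟩ := exists_pow_eq (F := F)
  have e := hq 1 hm 0 (by omega) (by omega)
  obtain ⟨h, h1, h2, h3, h4, h5, h6⟩ := fr.exists_torus_A e.1 e.2 ζ0
  have h7 := fr.apply_neg h3 (h4 _)
  obtain ⟨r, r1, r2⟩ : ∃ r : F, h.1 (fr.e (-q m)) = r • fr.e (-q m) ∧ r ≠ ζ := by
    by_cases c : m = 1
    · refine ⟨_, c ▸ h7, fun e => ?_⟩
      obtain ⟨a, ha⟩ := hσ
      obtain ⟨n, rfl⟩ := hζ a (by rintro rfl; simp at ha)
      exact ha (by rw [map_pow, show P.σ ζ = ζ by simpa using e])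
    have e2 := hq m le_rfl 0 (by omega) (by omega)
    have e3 := hq m le_rfl 1 (by omega) (by omega)
    exact ⟨1, (h5 _ (neg_ne_of e2.2) (neg_ne_neg_of e2.1) (neg_ne_of e3.2)
      (neg_ne_neg_of e3.1)).trans (one_smul F _).symm,
      by simpa [eq_comm] using gen_pow_ne hζ one_pos (by omega)⟩
  obtain ⟨x, x1, x2⟩ := cox.gen_large hm h4 h6 h2 h7 r1
    (by simpa [sq] using gen_pow_ne (gen_map (P := P) hζ) two_pos hF) r2
    (fun A d hd h => span_sq A d hd (by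
      rintro _ ⟨t, ht, rfl⟩
      obtain ⟨n, rfl⟩ := gen_map (P := P) hζ t ht
      simpa [sq, mul_pow] using h n)) (Commute.one_right _) (one_pow _)
  refine ⟨h, fr.Levi_le_EG Set.univ (h1 _ trivial trivial), x * w, mul_mem x1 wE, fun H a1 a2 => ?_⟩
  obtain ⟨-, -, b⟩ := x2 H (by simpa) a2
  refine fr.EG_le (fun a c => b a (hT a) c (hT c)) ?_
  rintro k y ⟨u, hu, l, hy⟩
  obtain rfl := hV u hu
  obtain ⟨j, -, j1, j2⟩ := hq.exists_ne hm k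
  refine fr.central_mem hZ (fr.B_ne j) (fun a => ?_) ?_ hy
  · obtain ⟨g, hg⟩ := fr.exists_RA j2 a
    exact ⟨g, b k (hT _) j (hT _) j1 j2 ⟨a, hg⟩, 0, hg⟩
  · obtain ⟨g, hg⟩ := fr.exists_RA (neg_ne_neg_of j1) 1
    exact ⟨g, b k (hT _) _ (hT _) (neg_ne_of j2) (neg_ne_neg_of j1) ⟨1, hg⟩, 0, by simpa using hg⟩

theorem twoG_sp {f : Form (Param.sp F) V} (fr : Frame f I) (hq : Indep q m) (hT : ∀ a, a ∈ cyc q m)
    (hm : 1 ≤ m) (hF : 2 ≤ m ∨ 2 < Nat.card F) : fr.TwoG := by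
  obtain ⟨w, wE, cox, -⟩ := fr.exists_cox_C hq (zero_mem _) (f.sp_isLam 0 1) one_ne_zero
  have fin : ∀ H : Subgroup f.Isom, ∀ i, (∃ g ∈ H, IsE g (fr.e i) 0 1) →
      (∀ a ∈ cyc q m, ∀ b ∈ cyc q m, b ≠ a → b ≠ -a → fr.RS a b ≤ H) → fr.EG ≤ H := by
    rintro H i ⟨g, g1, g2⟩ b
    refine fr.EG_le (fun a c => b a (hT a) c (hT c)) ?_
    rintro k y ⟨u, hu, l, hy⟩
    obtain rfl := fr.sp_V0 u hu
    let A : AddSubgroup F :=
      { carrier := {u | ∃ y ∈ H, IsE y (fr.e k) 0 u}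
        zero_mem' := ⟨1, one_mem _, isE_one _⟩
        add_mem' := fun ⟨y, hy, e⟩ ⟨y', hy', e'⟩ => ⟨y * y', mul_mem hy hy',
          (e.mul (fr.Qe k) e').congr (add_zero _) (by simp)⟩
        neg_mem' := fun ⟨y, hy, e⟩ => ⟨y⁻¹, inv_mem hy, (e.inv (fr.Qe k)).congr neg_zero (by simp)⟩ }
    obtain ⟨y', h1, h2⟩ := span_sq A 1 one_ne_zero (by
      rintro _ ⟨t, -, rfl⟩
      obtain ⟨z, z1, z2⟩ := fr.spread (fun _ => neg_mem_cyc) (fun a _ => hq.exists_ne hm a) b (hT i)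
        g2 (by simp) g1 (hT k) t
      exact ⟨z, z1, z2.congr (by simp) (by simp [sq])⟩) l
    exact h2.eq hy ▸ h1
  by_cases h2 : 2 < Nat.card F
  swap
  · have := Fintype.ofFinite F
    have h3 : ((Nat.card F : ℕ) : F) = 0 := by
      rw [Nat.card_eq_fintype_card]; exact FiniteField.cast_card_eq_zero F
    have : 1 < Nat.card F := Finite.one_lt_card
    rw [show Nat.card F = 2 by omega] at h3
    obtain ⟨a, a1, b, b1, h⟩ := cox.gen_orth wE (by omega) (fun _ => rfl)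
      (by simpa [neg_eq_iff_add_eq_zero, one_add_one_eq_two] using h3) (f.sp_isLam 0 1) (by simp)
    exact ⟨a, a1, b, b1, fun H h1 h2 => fin H _ (h H h1 h2).2.1 (h H h1 h2).2.2⟩
  obtain ⟨ζ, ζ0, hζ⟩ := exists_pow_eq (F := F)
  obtain ⟨h, h1, h3, h4⟩ := fr.sp_torus (q 0) ζ0
  have e := hq 1 hm 0 (by omega) (by omega)
  have e2 := hq m le_rfl 0 (by omega) (by omega)
  obtain ⟨c, hc⟩ := exists_isE (fr.Qe (q 1)) (f.B_zero_left _) (f.sp_isLam 0 1)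
  have := gen_pow_ne hζ one_pos h2
  obtain ⟨x, x1, x2⟩ := cox.gen_large hm (h := h) (fun k => by
      by_cases b1 : k = q 0
      · exact ⟨_, b1 ▸ h3⟩
      by_cases b2 : k = -q 0
      · exact b2 ▸ h4
      exact .of_eq (fr.RC_sup_fix h1 b1 b2)) (fun v hv => by rw [fr.sp_V0 v hv, map_zero]) h3
    ((fr.RC_sup_fix h1 (neg_ne_of e.2) (neg_ne_neg_of e.1)).trans (one_smul F _).symm)
    ((fr.RC_sup_fix h1 (neg_ne_of e2.2) (neg_ne_neg_of e2.1)).trans (one_smul F _).symm)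
    (by simpa using this) (by simpa [eq_comm] using this) (by simpa using span_pow hζ)
    (hc.commute (fr.RC_sup_fix h1 e.1 e.2) (map_zero _)) (hc.pow_card (fr.Qe _))
  refine ⟨h * c, mul_mem (sup_le (fr.RC_le_EG _) (fr.RC_le_EG _) h1)
    (fr.mem_EG_of_isE (fr.Qe _) hc), x * w, mul_mem x1 wE, fun H a1 a2 => ?_⟩
  obtain ⟨-, b1, b2⟩ := x2 H a1 a2
  exact fin H _ ⟨c, b1, hc⟩ b2

theorem Cox.gen_D {f : Form (Param.orth F) V} {fr : Frame f I} {w : f.Isom} (cox : fr.Cox q m w)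
    (wE : w ∈ fr.EG) (hm : 2 ≤ m) {v : V} (hv : ∀ a ∈ cyc q m, f.B v (fr.e a) = 0) :
    ∃ a ∈ fr.EG, ∃ b ∈ fr.EG, ∀ H : Subgroup f.Isom, a ∈ H → b ∈ H →
      (∀ a ∈ cyc q m, ∀ b ∈ cyc q m, b ≠ a → b ≠ -a → fr.RS a b ≤ H) ∧
      ∀ k ∈ cyc q m, ∀ (s t : F) x l, IsE x (fr.e k) (s • v + t • w.1 v) l → x ∈ H := by
  obtain ⟨a, a1, b, b1, h⟩ := cox.gen_orth wE hm (fun _ => rfl) rfl (f.orth_isLam v) hv
  refine ⟨a, a1, b, b1, fun H h1 h2 => ?_⟩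
  obtain ⟨wH, ⟨g, g1, g2⟩, A⟩ := h H h1 h2
  refine ⟨A, fun k hk s t x l hx => ?_⟩
  obtain ⟨j, c, hc⟩ := cox.mon.1 (q 2)
  have c0 := fr.smul_ne_zero hc
  have sp := fun {i} hi {c v l} => fr.spread (i := i) (c := c) (v := v) (l := l)
    (fun _ => neg_mem_cyc) (fun a _ => cox.ne.exists_ne (by omega) a) A hi
  obtain ⟨y, y1, y2⟩ := sp (mem_cyc hm) g2 hv g1 hk s
  obtain ⟨z, z1, z2⟩ := sp (cox.mem (mem_cyc hm) ⟨c, hc⟩) (g2.of_conj hc c0) (fun a ha => by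
      obtain ⟨b, hb, d, hd⟩ := cox.exists_mv a ha
      have := hv b hb
      rw [← Isom.map_B w, hd, B_smul_right] at this
      rw [B_smul_left, (mul_eq_zero.1 this).resolve_left (fr.smul_ne_zero hd), mul_zero])
    (H.mul_mem (H.mul_mem wH g1) (H.inv_mem wH)) hk (t / c)
  have := (y2.mul (fr.Qe k) z2).congr (v' := s • v + t • w.1 v) (by simp [smul_smul, c0]) rfl
  refine (this.congr rfl ?_).eq hx ▸ H.mul_mem y1 z1
  rw [f.orth_isLam_iff.1 this.lam, f.orth_isLam_iff.1 hx.lam]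

theorem twoG_minus [FiniteDimensional F V] {f : Form (Param.orth F) V} (fr : Frame f I)
    (hf : f.Nondeg) (hq : Indep q m) (hT : ∀ a, a ∈ cyc q m) (hm : 2 ≤ m)
    (hV : finrank F fr.V0 = 2) : fr.TwoG := by
  have : Nontrivial fr.V0 := (finrank_pos_iff (R := F)).1 (by omega)
  obtain ⟨u, u0⟩ := exists_ne (0 : fr.V0)
  have u1 : f.Q u ≠ 0 := fun e => u0 (fr.V0_aniso u e)
  obtain ⟨w, wE, cox, w1⟩ := fr.exists_cox_C hq u.2 (f.orth_isLam u) u1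
  obtain ⟨v, v1, v2⟩ : ∃ v : fr.V0, f.B v u ≠ 0 ∧ v ∉ F ∙ u := by
    obtain ⟨a, ha⟩ := (fr.V0_nondeg hf).exists_ne_zero u0
    replace ha : f.B a u ≠ 0 := fun e => ha (f.B_eq_zero_symm e)
    obtain ⟨b, hb⟩ : ∃ b, b ∉ F ∙ u := by
      by_contra hc
      push Not at hc
      have := finrank_span_singleton (K := F) u0
      rw [Submodule.eq_top_iff'.2 hc, finrank_top] at this
      omega
    by_cases c1 : a ∈ F ∙ u
    · by_cases c2 : f.B b u = 0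
      · exact ⟨a + b, by simpa [c2] using ha, fun e => hb ((Submodule.add_mem_iff_right _ c1).1 e)⟩
      · exact ⟨b, c2, hb⟩
    · exact ⟨a, ha, c1⟩
  obtain ⟨a, a1, b, b1, h⟩ := cox.gen_D wE hm fun a _ => fr.mem_V0.1 v.2 a
  refine ⟨a, a1, b, b1, fun H h1 h2 => ?_⟩
  obtain ⟨A, C⟩ := h H h1 h2
  refine fr.EG_le (fun a c => A a (hT a) c (hT c)) ?_
  rintro k y ⟨x, hx, l, hy⟩
  have li : LinearIndependent F ![v, u] := by
    rw [LinearIndependent.pair_symm_iff, LinearIndependent.pair_iff' u0]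
    exact fun c e => v2 (Submodule.mem_span_singleton.2 ⟨c, e⟩)
  have := li.span_eq_top_of_card_eq_finrank (by simp [hV])
  rw [Matrix.range_cons_cons_empty] at this
  obtain ⟨s, t, e⟩ := Submodule.mem_span_pair.1 (this.ge (Submodule.mem_top (x := ⟨x, hx⟩)))
  replace e : s • v.1 + t • u.1 = x := congrArg Subtype.val e
  refine C k (hT k) (s + t * f.Q u / f.B v u) (-(t * f.Q u / f.B v u)) y l (hy.congr ?_ rfl)
  rw [w1 v v.2, ← e]
  match_scalars <;> field_simp <;> ring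

theorem twoG_plus {f : Form (Param.orth F) V} (fr : Frame f I) (hq : Indep q (m + 1))
    (hT : ∀ a, a ∈ cyc q (m + 1)) (hm : 2 ≤ m) (hV : ∀ u ∈ fr.V0, u = 0) : fr.TwoG := by
  have hq' : Indep q m := fun a ha b hb => hq a (by omega) b (by omega)
  have e := hq (m + 1) le_rfl 0 (by omega) (by omega)
  have z : ∀ a ∈ cyc q m, a ≠ q (m + 1) ∧ a ≠ -q (m + 1) := by
    rintro a ⟨t, ht, rfl | rfl⟩ <;> have := hq t (by omega) (m + 1) le_rfl (by omega)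
    exacts [this, ⟨neg_ne_of this.2, neg_ne_neg_of this.1⟩]
  obtain ⟨g, g0, g1, g2, g3, g4⟩ := fr.exists_swap (S := Set.univ) trivial trivial
    (neg_ne_neg_of e.1)
  obtain ⟨g', h0, h1, h2, h3, h4⟩ := fr.exists_swap (S := Set.univ) trivial trivial e.2
  obtain ⟨w, wE, cox, w1⟩ := fr.exists_cox hq' (fr.Levi_le_EG _ (mul_mem h0 g0)) (mul_mem h1 g1)
    ((h3.neg' h1).mul g2) fun a a0 ha => by
      have b1 := hq a (by omega) 0 (by omega) (by omega)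
      have b2 := z _ (mem_cyc ha)
      exact (Mv.of_eq (h4 _ b1.1 b1.2 b2.1 b2.2)).mul (.of_eq (g4 _ b1.1 b1.2 b2.2 (by simpa using b2.1)))
  have hv : ∀ a ∈ cyc q m, f.B (fr.e (q (m + 1))) (fr.e a) = 0 := fun a ha => fr.B_eq _ _ (z a ha).2
  obtain ⟨c, hc⟩ := (h2.neg' h1).mul (by simpa using g3.neg' g1)
  have c0 := fr.smul_ne_zero hc
  obtain ⟨a, a1, b, b1, h⟩ := cox.gen_D wE hm hv
  refine ⟨a, a1, b, b1, fun H h1 h2 => ?_⟩
  obtain ⟨A, C⟩ := h H h1 h2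
  simp only [w1 _ hv, hc] at C
  have cs : ∀ a, a ∈ cyc q m ∨ a = q (m + 1) ∨ a = -q (m + 1) := fun a => by
    obtain ⟨t, ht, e⟩ := hT a
    by_cases c : t = m + 1
    · exact .inr (c ▸ e)
    · exact .inl ⟨t, by omega, e⟩
  have A' : ∀ a ∈ cyc q m, ∀ b, b ≠ a → b ≠ -a → fr.RS a b ≤ H := fun a ha b h1 h2 => by
    rcases cs b with hb | rfl | rfl
    · exact A a ha b hb h1 h2
    · exact fun x ⟨s, hx⟩ => C a ha s 0 x 0 (by simpa using hx)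
    · exact fun x ⟨s, hx⟩ => C a ha 0 (s / c) x 0 (by simpa [smul_smul, c0] using hx)
  refine fr.EG_le (fun a b h1 h2 => ?_) ?_
  · rcases cs a with ha | ha
    · exact A' a ha b h1 h2
    rcases cs b with hb | hb
    · exact fun x hx => A' b hb a h1.symm (ne_neg_swap h2) (fr.RA_swap h2 hx)
    rcases ha with rfl | rfl <;> rcases hb with rfl | rfl <;> simp at h1 h2
  · rintro k y ⟨u, hu, l, hy⟩
    obtain rfl := hV u hu
    exact (hy.congr rfl (by rw [f.orth_isLam_iff.1 hy.lam, f.Q_zero])).eq_one ▸ one_mem H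

end Frame

end Cfsg.Agent.Cls
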