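import Cfsg.Agent.Lib.Cls.Mono2

/-!
An element fixing the points of the frame lies in the group generated by the rank one tori.
-/

set_option autoImplicit false

namespace Cfsg.Agent.Cls

open Forms Forms.Form Subgroup

variable {F : Type*} [Field F] {P : Param F} {V : Type*} [AddCommGroup V] [Module F V]
  {f : Form P V} {I : Type*} [InvolutiveNeg I] {J : Type*} [Group J]

section defs

variable (fr : Frame f I) (φ : J →* f.Isom) (U : I → Subgroup J)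

/-- the rank one tori -/
def HR (i j : I) : Subgroup J :=
  closure {g | ∃ r ∈ WR fr φ U i j, ∃ r' ∈ WR fr φ U i j, g = r * r'⁻¹}

/-- the torus attached to a set of indices -/
def HS (S : Set I) : Subgroup J := closure {g | ∃ i ∈ S, ∃ j ∈ S, j ≠ -i ∧ g ∈ HR fr φ U i j}

/-- the group generated by the Weyl elements attached to a set of indices, and the torus -/
def NS (S : Set I) : Subgroup J :=
  closure {g | (∃ i ∈ S, ∃ j ∈ S, j ≠ -i ∧ g ∈ WR fr φ U i j) ∨ g ∈ HS fr φ U Set.univ}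

end defs

variable {fr : Frame f I} {φ : J →* f.Isom} {U : I → Subgroup J}

theorem mul_inv_mem_HR {i j : I} {r r' : J} (hr : r ∈ WR fr φ U i j) (hr' : r' ∈ WR fr φ U i j) :
    r * r'⁻¹ ∈ HR fr φ U i j := subset_closure ⟨r, hr, r', hr', rfl⟩

theorem mul_mem_HR {i j : I} {r r' : J} (hr : r ∈ WR fr φ U i j) (hr' : r' ∈ WR fr φ U i j) :
    r * r' ∈ HR fr φ U i j := by simpa using mul_inv_mem_HR hr (inv_mem_W hr')

theorem HR_le {i j : I} {N : Subgroup J}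
    (h : ∀ r ∈ WR fr φ U i j, ∀ r' ∈ WR fr φ U i j, r * r'⁻¹ ∈ N) : HR fr φ U i j ≤ N :=
  (closure_le _).2 fun _ ⟨r, hr, r', hr', e⟩ => e ▸ h r hr r' hr'

theorem HR_le_HS {S : Set I} {i j : I} (hi : i ∈ S) (hj : j ∈ S) (h : j ≠ -i) :
    HR fr φ U i j ≤ HS fr φ U S := fun _ hg => subset_closure ⟨i, hi, j, hj, h, hg⟩

theorem HS_le {S : Set I} {N : Subgroup J} (h : ∀ i ∈ S, ∀ j ∈ S, j ≠ -i → HR fr φ U i j ≤ N) :
    HS fr φ U S ≤ N := (closure_le _).2 fun _ ⟨i, hi, j, hj, e, hg⟩ => h i hi j hj e hg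

theorem HS_mono {S T : Set I} (h : S ⊆ T) : HS fr φ U S ≤ HS fr φ U T :=
  HS_le fun _ hi _ hj e => HR_le_HS (h hi) (h hj) e

theorem mem_NS_of_W {S : Set I} {i j : I} (hi : i ∈ S) (hj : j ∈ S) (h : j ≠ -i) {r : J}
    (hr : r ∈ WR fr φ U i j) : r ∈ NS fr φ U S := subset_closure (Or.inl ⟨i, hi, j, hj, h, hr⟩)

theorem HS_le_NS {S : Set I} : HS fr φ U Set.univ ≤ NS fr φ U S := fun _ hg =>
  subset_closure (Or.inr hg)

theorem NS_le {S : Set I} {N : Subgroup J}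
    (h : ∀ i ∈ S, ∀ j ∈ S, j ≠ -i → ∀ r ∈ WR fr φ U i j, r ∈ N) (h' : HS fr φ U Set.univ ≤ N) :
    NS fr φ U S ≤ N :=
  (closure_le _).2 fun g hg => hg.elim (fun ⟨i, hi, j, hj, e, hg⟩ => h i hi j hj e g hg) fun hg => h' hg

theorem HR_le_FixV {S : Set I} (hS : ∀ i ∈ S, -i ∈ S) {i j : I} (hi : i ∈ S) (hj : j ∈ S) :
    HR fr φ U i j ≤ FixV fr φ S := by
  have : ∀ r ∈ WR fr φ U i j, r ∈ FixV fr φ S := fun r hr k hk =>
    W_fix hr (fun e => hk (e ▸ hi)) (fun e => hk (e ▸ hS i hi)) (fun e => hk (e ▸ hj))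
      fun e => hk (e ▸ hS j hj)
  exact HR_le fun r hr r' hr' => mul_mem (this r hr) (inv_mem (this r' hr'))

theorem HS_le_FixV {S : Set I} (hS : ∀ i ∈ S, -i ∈ S) : HS fr φ U S ≤ FixV fr φ S :=
  HS_le fun _ hi _ hj _ => HR_le_FixV hS hi hj

theorem Mx_conj_HR {m g : J} (hm : m ∈ Mx fr φ U) {i j i' j' : I} (h : fr.Mv (φ m) i i')
    (h' : fr.Mv (φ m) j j') (hg : g ∈ HR fr φ U i j) : m * g * m⁻¹ ∈ HR fr φ U i' j' :=
  HR_le (N := (HR fr φ U i' j').comap (MulAut.conj m).toMonoidHom) (fun r hr r' hr' => by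
    have := mul_inv_mem_HR (Mx_conj_W hm h h' hr) (Mx_conj_W hm h h' hr')
    rw [mem_comap]
    convert this using 1
    simp [mul_assoc]) hg

theorem Mv_ne_neg {g : f.Isom} (hg : g ∈ fr.Mon) {i j i' j' : I} (h : fr.Mv g i i')
    (h' : fr.Mv g j j') (e : j ≠ -i) : j' ≠ -i' := fun e' => e (h'.inj (e' ▸ h.neg' hg))

theorem Mx_conj_HS {m g : J} (hm : m ∈ Mx fr φ U) (hg : g ∈ HS fr φ U Set.univ) :
    m * g * m⁻¹ ∈ HS fr φ U Set.univ :=
  HS_le (N := (HS fr φ U Set.univ).comap (MulAut.conj m).toMonoidHom) (fun i _ j _ e g hg =>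
    let ⟨_, h⟩ := hm.1.1 i; let ⟨_, h'⟩ := hm.1.1 j
    HR_le_HS (Set.mem_univ _) (Set.mem_univ _) (Mv_ne_neg hm.1 h h' e) (Mx_conj_HR hm h h' hg)) hg

theorem PSt0.HR_mv (h : PSt0 fr φ U) {i j : I} (e : j ≠ -i) : HR fr φ U i j ≤ FixP fr φ ∅ := by
  refine HR_le fun r hr r' hr' k _ => ?_
  rw [map_mul, map_inv]
  by_cases a1 : k = i
  · rw [a1]; exact (h.W_mv3 e hr).mul (h.W_mv3 e hr').inv
  by_cases a2 : k = -i
  · rw [a2]; exact (h.W_mv4 e hr).mul (h.W_mv4 e hr').inv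
  by_cases a3 : k = j
  · rw [a3]; exact (h.W_mv1 e hr).mul (h.W_mv1 e hr').inv
  by_cases a4 : k = -j
  · rw [a4]; exact (h.W_mv2 e hr).mul (h.W_mv2 e hr').inv
  exact (Frame.Mv.of_eq (W_fix hr a1 a2 a3 a4)).mul (Frame.Mv.of_eq (W_fix hr' a1 a2 a3 a4)).inv

theorem PSt0.HS_mv (h : PSt0 fr φ U) {S : Set I} {g : J} (hg : g ∈ HS fr φ U S) (k : I) :
    fr.Mv (φ g) k k := HS_le (N := FixP fr φ ∅) (fun _ _ _ _ e => h.HR_mv e) hg k (by simp)

namespace PSt1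

variable (h : PSt1 fr φ U)
include h

theorem HR_le_Mx {i j : I} (e : j ≠ -i) : HR fr φ U i j ≤ Mx fr φ U :=
  HR_le fun r hr r' hr' => mul_mem (h.monoW i j e r hr) (inv_mem (h.monoW i j e r' hr'))

theorem HS_le_Mx {S : Set I} : HS fr φ U S ≤ Mx fr φ U := HS_le fun _ _ _ _ e => h.HR_le_Mx e

theorem NS_le_Mx {S : Set I} : NS fr φ U S ≤ Mx fr φ U :=
  NS_le (fun i _ j _ e => h.monoW i j e) h.HS_le_Mx

theorem NS_le_FixP {S : Set I} (hS : ∀ i ∈ S, -i ∈ S) : NS fr φ U S ≤ FixP fr φ S :=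
  NS_le (fun i hi j hj _ r hr k hk => .of_eq (W_fix hr (fun e => hk (e ▸ hi))
    (fun e => hk (e ▸ hS i hi)) (fun e => hk (e ▸ hj)) fun e => hk (e ▸ hS j hj)))
    fun _ hg k _ => h.toPSt0.HS_mv hg k

theorem W_neg {i j : I} (e : j ≠ -i) {r : J} (hr : r ∈ WR fr φ U i j) : r ∈ WR fr φ U (-i) (-j) := by
  have := Mx_conj_W (h.monoW i j e r hr) (h.W_mv4 e hr) (h.W_mv2 e hr) (h.W_symm e hr)
  rwa [mul_inv_cancel_right] at this

theorem pSt [Finite I] : PSt fr φ U (NS fr φ U Set.univ) where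
  toPSt0 := h.toPSt0
  mono m hm i := let ⟨j, hj⟩ := (h.NS_le_Mx hm).1.1 i; ⟨j, hj, fun _ => Mx_conj (h.NS_le_Mx hm) hj⟩
  W1 i j h1 h2 x hx ha h0 := by
    obtain ⟨y, hy, y', hy', hW⟩ := h.exists_W h2 ((mem_XR_of_ne h1).2 ⟨hx, ha⟩) h0
    rw [mem_XR_of_ne (neg_ne_neg_of h1)] at hy hy'
    exact ⟨y, hy.1, y', hy'.1, hy.2, hy'.2, mem_NS_of_W (Set.mem_univ _) (Set.mem_univ _) h2 hW⟩
  W2 i x hx ha h0 := by
    obtain ⟨y, hy, y', hy', hW⟩ := h.exists_W (fr.ne i).symm (mem_XR_self.2 ⟨hx, ha⟩) h0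
    rw [mem_XR_self] at hy hy'
    exact ⟨y, hy.1, y', hy'.1, hy.2, hy'.2,
      mem_NS_of_W (Set.mem_univ _) (Set.mem_univ _) (fr.ne i).symm hW⟩

theorem mem_NS_rm {S : Set I} (hS : ∀ i ∈ S, -i ∈ S) {r : I} (hr : r ∈ S) {g : J}
    (hg : g ∈ NS fr φ U S) (hv : fr.Mv (φ g) r r) : g ∈ NS fr φ U (rm S r) := by
  have h0 := h.toPSt0
  set N := NS fr φ U (rm S r) with hN
  let Tr : J → Prop := fun t => t = 1 ∨ (∃ j ∈ S, j ≠ -r ∧ t ∈ WR fr φ U r j) ∨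
    ∃ j ∈ rm S r, ∃ t₁ ∈ WR fr φ U r j, ∃ t₂ ∈ WR fr φ U r (-j), t = t₁ * t₂
  let T : J → Prop := fun g => ∃ t, Tr t ∧ ∃ n ∈ N, g = t * n
  have hS' := rm_closed hS r
  have T1 : ∀ n ∈ N, ∀ t, Tr t → T (n * t) := by
    intro n hn t ht
    refine ⟨n * t * n⁻¹, ?_, n, hn, by group⟩
    have a1 := h.NS_le_Mx hn
    have a2 := h.NS_le_FixP hS' hn
    have a3 : fr.Mv (φ n) r r := a2 r fun e => e.2.1 rfl
    rcases ht with rfl | ⟨j, hj, e, ht⟩ | ⟨j, hj, t₁, h1, t₂, h2, rfl⟩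
    · exact Or.inl (by group)
    · obtain ⟨j', hj'⟩ := a1.1.1 j
      exact Or.inr (Or.inl ⟨j', PSt.mem_of_mv (FixP_mono (fun _ e => e.1) a2) hj' hj,
        Mv_ne_neg a1.1 a3 hj' e, Mx_conj_W a1 a3 hj' ht⟩)
    · obtain ⟨j', hj'⟩ := a1.1.1 j
      exact Or.inr (Or.inr ⟨j', PSt.mem_of_mv a2 hj' hj, _, Mx_conj_W a1 a3 hj' h1, _,
        Mx_conj_W a1 a3 (hj'.neg' a1.1) h2, by group⟩)
  have T2 : ∀ g, T g → ∀ n ∈ N, T (g * n) := fun _ ⟨t, ht, n, hn, e⟩ n' hn' =>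
    ⟨t, ht, n * n', mul_mem hn hn', by rw [e, mul_assoc]⟩
  have hH : ∀ {i j : I}, j ≠ -i → ∀ {a b : J}, a ∈ WR fr φ U i j → b ∈ WR fr φ U i j → a * b ∈ N :=
    fun e _ _ ha hb => HS_le_NS (HR_le_HS (Set.mem_univ _) (Set.mem_univ _) e (mul_mem_HR ha hb))
  -- conjugating by an element moving `r` away
  have T3 : ∀ j ∈ rm S r, ∀ w ∈ WR fr φ U r j, ∀ k ∈ S, k ≠ -r → k ≠ j → k ≠ -j →
      ∀ t ∈ WR fr φ U r k, w * t * w⁻¹ ∈ N := by
    intro j hj w hw k hk a1 a2 a3 t ht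
    have b1 := h.monoW r j hj.2.2 w hw
    by_cases a4 : k = r
    · subst a4
      exact mem_NS_of_W (hS' j hj) (hS' j hj) (fr.ne _).symm
        (Mx_conj_W b1 (h0.W_mv2 hj.2.2 hw) (h0.W_mv2 hj.2.2 hw) ht)
    · exact mem_NS_of_W (hS' j hj) ⟨hk, a4, a1⟩ (by rwa [neg_neg])
        (Mx_conj_W b1 (h0.W_mv2 hj.2.2 hw) (.of_eq (W_fix hw a4 a1 a2 a3)) ht)
  have T4 : ∀ j ∈ S, j ≠ -r → ∀ w ∈ WR fr φ U r j, ∀ t, Tr t → T (w * t) := by
    intro j hj e w hw t ht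
    have hw' : Tr w := Or.inr (Or.inl ⟨j, hj, e, hw⟩)
    rcases ht with rfl | ⟨k, hk, e', ht⟩ | ⟨k, hk, t₁, h1, t₂, h2, rfl⟩
    · exact ⟨w, hw', 1, one_mem _, rfl⟩
    · by_cases a1 : k = j
      · subst a1; exact ⟨1, Or.inl rfl, _, hH e hw ht, (one_mul _).symm⟩
      by_cases a3 : j = r
      · subst a3
        have := T3 k ⟨hk, a1, e'⟩ _ (inv_mem_W ht) j hj e (Ne.symm a1) (ne_neg_swap e') w hw
        exact ⟨t, Or.inr (Or.inl ⟨k, hk, e', ht⟩), _, this, by group⟩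
      by_cases a2 : k = -j
      · subst a2
        exact ⟨_, Or.inr (Or.inr ⟨j, ⟨hj, a3, e⟩, w, hw, t, ht, rfl⟩), 1, one_mem _, (mul_one _).symm⟩
      have := T1 _ (T3 j ⟨hj, a3, e⟩ w hw k hk e' a1 a2 t ht) w hw'
      rwa [inv_mul_cancel_right] at this
    · have k2 := hS' k hk
      by_cases a1 : k = j
      · subst a1
        rw [← mul_assoc]
        exact T1 _ (hH e hw h1) _ (Or.inr (Or.inl ⟨_, k2.1, k2.2.2, h2⟩))
      by_cases a2 : j = -k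
      · subst a2
        have b1 := Mx_conj_W (h.monoW _ _ e w hw) (h0.W_mv2 e hw)
          (by simpa using h0.W_mv3 e hw) h1
        rw [neg_neg] at b1
        exact ⟨_, Or.inr (Or.inl ⟨k, hk.1, hk.2.2, h0.W_symm (ne_neg_swap hk.2.2) b1⟩), _,
          hH e hw h2, by group⟩
      by_cases a3 : j = r
      · subst a3
        have b1 := Mx_conj_W (h.monoW _ _ hk.2.2 _ (inv_mem_W h1)) (h0.W_mv2 hk.2.2 (inv_mem_W h1))
          (h0.W_mv2 hk.2.2 (inv_mem_W h1)) hw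
        have b2 := Mx_conj_W (h.monoW _ _ (fr.ne _).symm _ b1)
          (.of_eq (W_fix b1 (ne_neg_swap hk.2.2) (by rw [neg_neg]; exact hk.2.1.symm)
            (ne_neg_swap hk.2.2) (by rw [neg_neg]; exact hk.2.1.symm)))
          (h0.W_mv2 (fr.ne _).symm b1) h2
        rw [neg_neg] at b2
        exact ⟨1, Or.inl rfl, _, mul_mem (hH hk.2.2 h1 b2) (mem_NS_of_W k2 k2 (fr.ne _).symm b1),
          by group⟩
      have b1 := T3 j ⟨hj, a3, e⟩ w hw k hk.1 hk.2.2 a1 (ne_neg_swap a2) t₁ h1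
      have b2 := T3 j ⟨hj, a3, e⟩ w hw (-k) k2.1 k2.2.2 (Ne.symm a2) (neg_ne_neg_of a1) t₂ h2
      convert T1 _ (mul_mem b1 b2) w hw' using 1
      group
  have T5 : ∀ w, ((∃ i ∈ S, ∃ j ∈ S, j ≠ -i ∧ w ∈ WR fr φ U i j) ∨ w ∈ HS fr φ U Set.univ) →
      ∀ g, T g → T (w * g) := by
    rintro w hw _ ⟨t, ht, n, hn, rfl⟩
    rw [← mul_assoc]
    refine T2 _ ?_ n hn
    rcases hw with ⟨i, hi, j, hj, e, hw⟩ | hw
    swap
    · exact T1 w (HS_le_NS hw) t ht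
    by_cases a1 : i = r
    · subst a1; exact T4 j hj e w hw t ht
    by_cases a2 : j = r
    · subst a2; exact T4 i hi (ne_neg_swap e) w (h0.W_symm e hw) t ht
    by_cases a3 : i = -r
    · subst a3
      exact T4 (-j) (hS j hj) (neg_ne_neg_of a2) w (by simpa using h.W_neg e hw) t ht
    by_cases a4 : j = -r
    · subst a4
      exact T4 (-i) (hS i hi) (neg_ne_neg_of a1) w
        (by simpa using h.W_neg (ne_neg_swap e) (h0.W_symm e hw)) t ht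
    exact T1 w (mem_NS_of_W (S := rm S r) ⟨hi, a1, a3⟩ ⟨hj, a2, a4⟩ e hw) t ht
  have T6 : T g := by
    refine closure_induction_left (p := fun g _ => T g) ⟨1, Or.inl rfl, 1, one_mem _, by simp⟩
      (fun w hw g _ => T5 w hw g) (fun w hw g _ => T5 _ ?_ g) hg
    rcases hw with ⟨i, hi, j, hj, e, hw⟩ | hw
    · exact Or.inl ⟨i, hi, j, hj, e, inv_mem_W hw⟩
    · exact Or.inr (inv_mem hw)
  obtain ⟨t, ht, n, hn, rfl⟩ := T6
  have a3 : fr.Mv (φ t) r r := by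
    simpa using hv.mul (h.NS_le_FixP hS' hn r fun e => e.2.1 rfl).inv
  rcases ht with rfl | ⟨k, hk, e', ht⟩ | ⟨k, hk, t₁, h1, t₂, h2, rfl⟩
  · rwa [one_mul]
  · exact absurd (a3.unique (h0.W_mv2 e' ht)) (ne_neg_swap e')
  · have := (h0.W_mv4 hk.2.2 h1).mul (by simpa using h0.W_mv2 (hS' k hk).2.2 h2)
    rw [← map_mul] at this
    exact absurd (a3.unique this) (fr.ne r).symm

/-- An element fixing the points of the frame lies in the torus. -/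
theorem mem_HS [Finite I] {g : J} (hg : g ∈ ⨆ i, U i) (hv : ∀ i, fr.Mv (φ g) i i) :
    g ∈ HS fr φ U Set.univ := by
  have key : ∀ n (S : Set I), S.ncard = n → (∀ i ∈ S, -i ∈ S) → g ∈ NS fr φ U S →
      g ∈ HS fr φ U Set.univ := by
    intro n
    induction n using Nat.strong_induction_on with
    | _ n ih =>
      intro S hn hS hg
      rcases S.eq_empty_or_nonempty with rfl | ⟨r, hr⟩
      · exact NS_le (by simp) le_rfl hg
      exact ih _ (hn ▸ Set.ncard_lt_ncard ⟨fun _ hi => hi.1, fun e => (e hr).2.1 rfl⟩) _ rfl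
        (rm_closed hS r) (h.mem_NS_rm hS hr hg (hv r))
  exact key _ _ rfl (by simp) (h.pSt.mem_M (mem_sup_left hg) hv)

end PSt1

end Cfsg.Agent.Cls
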